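import Mathlib
import Cfsg.Agent.Lib.H1.Cores
import Cfsg.Agent.Lib.H26.SupCard

/-!
The solvable radical (as the join of the solvable normal subgroups).
-/

set_option autoImplicit false
open Subgroup

namespace H70.SolvRad

variable {G : Type*} [Group G]

/-- the solvable radical -/
def srad (G : Type*) [Group G] : Subgroup G := sSup {N : Subgroup G | N.Normal ∧ Group.IsSolvable N}

theorem srad_mem [Finite G] : (srad G).Normal ∧ Group.IsSolvable (srad G) := by
  have := H1.Cores.sSup_mem_of_sup_closed {N : Subgroup G | N.Normal ∧ Group.IsSolvable N}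
    ⟨inferInstance, inferInstance⟩ (by
      rintro A ⟨hA, hA'⟩ B ⟨hB, hB'⟩
      refine ⟨inferInstance, H26.SupCard.isSolvable_sup ?_ hA' hB'⟩
      rw [normalizer_eq_top]; exact le_top)
  exact this

instance srad_normal [Finite G] : (srad G).Normal := srad_mem.1

theorem isSolvable_srad [Finite G] : Group.IsSolvable (srad G) := srad_mem.2

theorem le_srad {N : Subgroup G} (hN : N.Normal) (h : Group.IsSolvable N) : N ≤ srad G :=
  le_sSup ⟨hN, h⟩

theorem map_srad_le [Finite G] {G' : Type*} [Group G'] (f : G →* G')
    (hf : Function.Surjective f) : (srad G).map f ≤ srad G' := by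
  have := isSolvable_srad (G := G)
  exact le_srad (Subgroup.Normal.map inferInstance _ hf)
    (Group.isSolvable_of_surjective (f.subgroupMap_surjective (srad G)))

theorem srad_characteristic [Finite G] : (srad G).Characteristic := by
  rw [Subgroup.characteristic_iff_map_le]
  intro φ
  exact map_srad_le _ φ.surjective

theorem map_subtype_srad_le [Finite G] (N : Subgroup G) [N.Normal] :
    (srad N).map N.subtype ≤ srad G := by
  have := srad_characteristic (G := N)
  have := isSolvable_srad (G := N)
  exact le_srad inferInstance
    (Group.isSolvable_of_surjective (N.subtype.subgroupMap_surjective (srad N)))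

theorem comap_srad_le [Finite G] (N : Subgroup G) [N.Normal] (hN : Group.IsSolvable N) :
    (srad (G ⧸ N)).comap (QuotientGroup.mk' N) ≤ srad G := by
  have hs := isSolvable_srad (G := G ⧸ N)
  set M := (srad (G ⧸ N)).comap (QuotientGroup.mk' N) with hM
  have hNM : N ≤ M := by
    intro x hx
    rw [hM, mem_comap, QuotientGroup.mk'_apply, (QuotientGroup.eq_one_iff x).mpr hx]
    exact one_mem _
  have hMn : M.Normal := inferInstance
  refine le_srad hMn ?_
  let f : M →* srad (G ⧸ N) := (QuotientGroup.mk' N).subgroupComap (srad (G ⧸ N))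
  refine Group.isSolvable_of_ker_le_range (Subgroup.inclusion hNM) f ?_
  rintro ⟨x, hx⟩ hk
  have h1 : QuotientGroup.mk' N x = 1 := congrArg Subtype.val (MonoidHom.mem_ker.mp hk)
  exact ⟨⟨x, (QuotientGroup.eq_one_iff x).mp h1⟩, rfl⟩

theorem normalClosure_le_srad [Finite G] {x : G} (hx : x ∈ srad G) :
    Group.IsSolvable (normalClosure ({x} : Set G)) := by
  have h1 : normalClosure ({x} : Set G) ≤ srad G :=
    normalClosure_le_normal (by simpa using hx)
  have := isSolvable_srad (G := G)
  exact Group.isSolvable_of_isSolvable_injective (Subgroup.inclusion_injective h1)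

end H70.SolvRad
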