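import Mathlib
import Cfsg.Agent.Lib.H20.Orth
import Cfsg.Agent.Lib.H78.Cong
import Cfsg.Agent.Lib.H4.Burnside
import Cfsg.Agent.Lib.H18.CharQuot

/-!
The key case of Kazarin's theorem: `G = T⟨x⟩`, `T` simple.
-/

set_option autoImplicit false
open Subgroup Cfsg
open scoped ComplexConjugate commutatorElement

namespace H70.KazarinKey

universe u
variable {G : Type u} [Group G]

/-- homomorphisms to units kill a nonabelian simple normal subgroup -/
theorem hom_eq_one_of_simple {A : Type*} [CommGroup A] (T : Subgroup G) (hs : IsSimpleGroup T)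
    (hnc : ¬ ∀ a ∈ T, ∀ b ∈ T, a * b = b * a) (f : G →* A) : ∀ t ∈ T, f t = 1 := by
  intro t ht
  have h1 : (f.comp T.subtype).ker = ⊥ ∨ (f.comp T.subtype).ker = ⊤ :=
    hs.eq_bot_or_eq_top_of_normal _ inferInstance
  rcases h1 with h | h
  · exfalso
    apply hnc
    intro a ha b hb
    have hinj := (MonoidHom.ker_eq_bot_iff _).mp h
    have h2 : (⟨a, ha⟩ * ⟨b, hb⟩ : T) = ⟨b, hb⟩ * ⟨a, ha⟩ := by
      apply hinj
      rw [map_mul, map_mul, mul_comm]
    exact congrArg Subtype.val h2
  · have : (⟨t, ht⟩ : T) ∈ (f.comp T.subtype).ker := by rw [h]; trivial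
    exact this

/-- the key case -/
theorem key [Finite G] (T : Subgroup G) [T.Normal] (hs : IsSimpleGroup T)
    (hnc : ¬ ∀ a ∈ T, ∀ b ∈ T, a * b = b * a)
    (x : G) (hx1 : x ∉ centralizer (T : Set G)) (hG : ∀ g : G, ∃ t ∈ T, ∃ n : ℤ, g = t * x ^ n)
    (p k : ℕ) (hp : p.Prime) (hpk : (centralizer ({x} : Set G)).index = p ^ k)
    (r j : ℕ) (hr : r.Prime) (hrp : r ≠ p) (hxr : orderOf x = r ^ j)
    (q : ℕ) (hq : q.Prime) (hqp : q ≠ p) (y : G) (hyT : y ∈ T) (hyq : q ∣ orderOf y) : False := by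
  classical
  have := Fintype.ofFinite G
  have := Fintype.ofFinite (IrrCharacter G)
  obtain ⟨M, hM⟩ := H78.Cong.exists_isPModular hq
  have hMp : M.IsPrime := H20.Loc.pm_isPrime hM
  let S : Set (IrrCharacter G) := {χ | ¬ MemLocalIdeal M (centralChar (χ : G → ℂ) x)}
  have hS : H20.Blk.IsUnion M S := by
    intro χ hχ ψ h hψ
    exact hχ ((H20.Loc.locI_congr (h x)).mpr hψ)
  have hsum := H20.Orth.weak_orth hM hS (x := 1) (y := y)
    (by rw [orderOf_one]; exact fun h => hq.one_lt.ne' (Nat.dvd_one.mp h)) hyq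
  -- commutativity of the quotient
  have hcommQ : ∀ a b : G ⧸ T, a * b = b * a := by
    intro a b
    induction a using QuotientGroup.induction_on with | H a =>
    induction b using QuotientGroup.induction_on with | H b =>
    obtain ⟨t, ht, n, rfl⟩ := hG a
    obtain ⟨s, hs', m, rfl⟩ := hG b
    have e1 : ((t * x ^ n : G) : G ⧸ T) = ((x ^ n : G) : G ⧸ T) := by
      rw [QuotientGroup.mk_mul, (QuotientGroup.eq_one_iff t).mpr ht, one_mul]
    have e2 : ((s * x ^ m : G) : G ⧸ T) = ((x ^ m : G) : G ⧸ T) := by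
      rw [QuotientGroup.mk_mul, (QuotientGroup.eq_one_iff s).mpr hs', one_mul]
    rw [e1, e2, ← QuotientGroup.mk_mul, ← QuotientGroup.mk_mul, ← zpow_add, ← zpow_add, add_comm]
  -- the linear characters
  have hlin : ∀ χ : IrrCharacter G, (χ : G → ℂ) 1 = 1 →
      (if χ ∈ S then (χ : G → ℂ) 1 * conj ((χ : G → ℂ) y) else 0) = 1 := by
    intro χ hχ1
    obtain ⟨f, hf⟩ := H18.CharQuot.exists_hom_of_degree_one
      (H18.CharBasic.isCharacter_of_isIrr χ.2) hχ1
    have hy : (χ : G → ℂ) y = 1 := by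
      rw [hf]; simp only
      rw [hom_eq_one_of_simple T hs hnc f y hyT]; simp
    have hmem : χ ∈ S := by
      intro hmem
      simp only [centralChar, hpk, hχ1, div_one] at hmem
      have h1 : MemLocalRing M ((χ : G → ℂ) x⁻¹) :=
        H20.Loc.isIntegral_mem (H18.CharBasic.char_isIntegral
          (H18.CharBasic.isCharacter_of_isIrr χ.2) _)
      have h2 := H20.Loc.locI_mul_right hmem h1
      have h3 : ((p ^ k : ℕ) : ℂ) * (χ : G → ℂ) x * (χ : G → ℂ) x⁻¹ = ((p ^ k : ℕ) : ℂ) := by
        rw [hf]; simp only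
        rw [map_inv]; simp
      rw [h3, H20.Loc.locI_natCast_iff hM] at h2
      exact hqp ((Nat.prime_dvd_prime_iff_eq hq hp).mp (hq.dvd_of_dvd_pow h2))
    rw [if_pos hmem, hχ1, hy]; simp
  -- the nonlinear characters
  have hnonlin : ∀ χ : IrrCharacter G, (χ : G → ℂ) 1 ≠ 1 → ∃ a : ℂ, IsIntegral ℤ a ∧
      (if χ ∈ S then (χ : G → ℂ) 1 * conj ((χ : G → ℂ) y) else 0) = p * a := by
    intro χ hχ1
    by_cases hmem : χ ∈ S
    · rw [if_pos hmem]
      obtain ⟨n, ρ, hρ, hρχ⟩ := χ.2
      have hfin : (χ : G → ℂ) 1 = (Module.finrank ℂ (Fin n → ℂ) : ℕ) := by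
        rw [← ρ.char_one, hρχ]
      have hχx : (χ : G → ℂ) x ≠ 0 := by
        intro h0
        apply hmem
        rw [centralChar, h0, mul_zero, zero_div]
        exact H20.Loc.locI_zero
      have hpd : p ∣ Module.finrank ℂ (Fin n → ℂ) := by
        by_contra hpd
        have hcop : Nat.Coprime (Module.finrank ℂ (Fin n → ℂ))
            (centralizer ({x} : Set G)).index := by
          rw [hpk]
          exact (Nat.Coprime.pow_left k ((Nat.Prime.coprime_iff_not_dvd hp).mpr hpd)).symm
        rcases H4.Integral.char_eq_zero_or_norm_eq ρ hρ x hcop with h | h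
        · rw [hρχ] at h; exact hχx h
        · obtain ⟨ω, hω⟩ := (H4.Eigen.norm_char_eq_iff ρ x).mp h
          by_cases hT : ¬ T ≤ MonoidHom.ker ρ
          · apply hx1
            have h1 : (MonoidHom.ker ρ).subgroupOf T = ⊥ := by
              rcases hs.eq_bot_or_eq_top_of_normal ((MonoidHom.ker ρ).subgroupOf T)
                inferInstance with h | h
              · exact h
              · exact absurd (subgroupOf_eq_top.mp h) hT
            have h2 : MonoidHom.ker ρ ⊓ T = ⊥ := disjoint_iff.mp (subgroupOf_eq_bot.mp h1)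
            rw [mem_centralizer_iff]
            intro t ht
            have h3 : ⁅t, x⁆ ∈ MonoidHom.ker ρ ⊓ T := by
              refine ⟨?_, ?_⟩
              · have h4 : ρ (t * x) = ρ (x * t) := by
                  rw [map_mul, map_mul, hω]
                  ext v
                  simp
                change ⁅t, x⁆ ∈ MonoidHom.ker ρ
                rw [MonoidHom.mem_ker, commutatorElement_def]
                have h5 : t * x * t⁻¹ * x⁻¹ = (t * x) * (x * t)⁻¹ := by group
                rw [h5, map_mul, h4, ← map_mul, mul_inv_cancel, map_one]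
              · rw [commutatorElement_def, mul_assoc, mul_assoc]
                refine T.mul_mem ht ?_
                have := ‹T.Normal›.conj_mem _ (T.inv_mem ht) x
                rwa [mul_assoc] at this
            rw [h2, mem_bot, commutatorElement_eq_one_iff_mul_comm] at h3
            exact h3
          · rw [not_not] at hT
            apply hχ1
            have hN : ∀ t ∈ T, (χ : G → ℂ) t = (χ : G → ℂ) 1 := by
              intro t ht
              have h1 := MonoidHom.mem_ker.mp (hT ht)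
              rw [← hρχ]
              exact congrArg (LinearMap.trace ℂ (Fin n → ℂ)) (h1.trans (map_one ρ).symm)
            have h1 := H18.CharQuot.isIrrCharacter_deflate T χ.2 hN
            have h2 := H18.CharQuot.degree_one_of_comm hcommQ h1
            have h3 := H18.CharQuot.deflate_mk T (H18.CharBasic.isCharacter_of_isIrr χ.2) hN 1
            rw [← h3]
            exact h2
      obtain ⟨e, he⟩ := hpd
      refine ⟨e * conj ((χ : G → ℂ) y), ?_, ?_⟩
      · refine (isIntegral_algebraMap (R := ℤ) (A := ℂ) (x := (e : ℤ))).mul ?_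
        rw [← H18.CharBasic.char_inv (H18.CharBasic.isCharacter_of_isIrr χ.2)]
        exact H18.CharBasic.char_isIntegral (H18.CharBasic.isCharacter_of_isIrr χ.2) _
      · rw [hfin, he]; push_cast; ring
    · exact ⟨0, isIntegral_zero, by rw [if_neg hmem]; simp⟩
  choose! a ha1 ha2 using hnonlin
  rw [← Finset.sum_filter_add_sum_filter_not Finset.univ
    (fun χ : IrrCharacter G => (χ : G → ℂ) 1 = 1)] at hsum
  rw [Finset.sum_congr rfl (g := fun _ => (1 : ℂ)) (fun χ hχ => hlin χ (Finset.mem_filter.mp hχ).2),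
    Finset.sum_congr rfl (g := fun χ => (p : ℂ) * a χ)
      (fun χ hχ => ha2 χ (Finset.mem_filter.mp hχ).2), ← Finset.mul_sum, Finset.sum_const,
    nsmul_eq_mul, mul_one] at hsum
  have hcardlin : (Finset.univ.filter (fun χ : IrrCharacter G => (χ : G → ℂ) 1 = 1)).card =
      Nat.card (G →* ℂˣ) := by
    rw [← Fintype.card_subtype, ← Nat.card_eq_fintype_card]
    refine (Nat.card_congr (Equiv.ofBijective
      (fun f : G →* ℂˣ => (⟨⟨fun g => (f g : ℂ), H18.CharBasic.isIrrCharacter_of_hom f⟩,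
        by simp⟩ : {χ : IrrCharacter G // (χ : G → ℂ) 1 = 1})) ⟨?_, ?_⟩)).symm
    · intro f g hfg
      apply H18.CharQuot.coe_hom_injective
      exact congrArg (fun z => ((z.1 : IrrCharacter G) : G → ℂ)) hfg
    · rintro ⟨χ, hχ1⟩
      obtain ⟨f, hf⟩ := H18.CharQuot.exists_hom_of_degree_one
        (H18.CharBasic.isCharacter_of_isIrr χ.2) hχ1
      exact ⟨f, Subtype.ext (Subtype.ext hf.symm)⟩
  have hrpow : ∃ m, Nat.card (G →* ℂˣ) = r ^ m := by
    have : Fact r.Prime := ⟨hr⟩
    have hfinH : Finite (G →* ℂˣ) :=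
      Nat.finite_of_card_ne_zero (by
        rw [H18.CharQuot.card_hom_eq_index]; exact Subgroup.index_ne_zero_of_finite)
    rw [← IsPGroup.iff_card]
    intro f
    refine ⟨j, ?_⟩
    ext g
    obtain ⟨t, ht, n, rfl⟩ := hG g
    have h1 := hom_eq_one_of_simple T hs hnc f t ht
    have h2 : (f x) ^ r ^ j = 1 := by
      rw [← map_pow, ← hxr, pow_orderOf_eq_one, map_one]
    have h3 : (f ^ r ^ j) (t * x ^ n) = 1 := by
      rw [MonoidHom.pow_apply, map_mul, h1, one_mul, map_zpow, ← zpow_natCast, ← zpow_mul, mul_comm,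
        zpow_mul, zpow_natCast, h2, one_zpow]
    rw [h3]; rfl
  obtain ⟨m, hm⟩ := hrpow
  rw [hcardlin, hm] at hsum
  have hp0 : (p : ℂ) ≠ 0 := by exact_mod_cast hp.ne_zero
  have h5 : ((r ^ m : ℕ) : ℂ) / (p : ℂ) =
      - ∑ χ ∈ Finset.univ.filter (fun χ : IrrCharacter G => ¬ (χ : G → ℂ) 1 = 1), a χ := by
    field_simp
    linear_combination hsum
  have h6 : IsIntegral ℤ (((r ^ m : ℕ) : ℂ) / (p : ℂ)) := by
    rw [h5]
    exact (IsIntegral.sum _ fun χ hχ => ha1 χ (Finset.mem_filter.mp hχ).2).neg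
  have h7 := H4.Integral.dvd_of_isIntegral_div hp.ne_zero h6
  exact hrp ((Nat.prime_dvd_prime_iff_eq hp hr).mp (hp.dvd_of_dvd_pow h7)).symm

end H70.KazarinKey
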