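import Mathlib
import Cfsg.Agent.Lib.H70.KazarinKey
import Cfsg.Agent.Lib.H70.SolvRad
import Cfsg.Agent.Lib.H70.ClassSize
import Cfsg.Agent.Lib.H63.MinNormalFactor

/-!
Kazarin's theorem: an element with class size a prime power lies in the solvable radical.
-/

set_option autoImplicit false
open Subgroup
open scoped Pointwise
open H63.MinNormalFactor

namespace H70.Kazarin

universe u
variable {G : Type u} [Group G]

theorem relIndex_le_of_normal_le [Finite G] (C N T : Subgroup G) [N.Normal] (hTN : T ≤ N)
    (hT : (T.subgroupOf N).Normal) : C.relIndex T ∣ C.index := by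
  have h1 := H70.ClassSize.relIndex_normal_dvd (C.subgroupOf N) (T.subgroupOf N)
  rw [relIndex_subgroupOf hTN] at h1
  exact h1.trans (H70.ClassSize.relIndex_normal_dvd C N)

/-- an element of prime power order `r ^ j`, with class size a power of `p ≠ r`, centralizes each
simple factor of a nonabelian minimal normal subgroup -/
theorem mem_centralizer_factor [Finite G] {N T : Subgroup G} (hN : N.Normal)
    (hmin : ∀ M : Subgroup G, M.Normal → M ≤ N → M ≠ ⊥ → M = N) (hT : Factor N T)
    (hNc : ¬ ∀ a ∈ N, ∀ b ∈ N, a * b = b * a) (w : G) (p k : ℕ) (hp : p.Prime)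
    (hw : (centralizer ({w} : Set G)).index = p ^ k) (r j : ℕ) (hr : r.Prime) (hrp : r ≠ p)
    (hwr : orderOf w = r ^ j) : w ∈ centralizer (T : Set G) := by
  by_contra hcon
  have hTn : (T.subgroupOf N).Normal := by
    constructor
    rintro ⟨t, ht⟩ ht' ⟨n, hn⟩
    exact hT.norm n hn t ht'
  have hdvd : (centralizer ({w} : Set G)).relIndex T ∣ p ^ k := by
    rw [← hw]; exact relIndex_le_of_normal_le _ N T hT.le hTn
  obtain ⟨m, _, hm⟩ := (Nat.dvd_prime_pow hp).mp hdvd
  obtain ⟨q, hq, hqp, y, hyT, hyq⟩ := exists_orderOf_prime_ne hN hmin hT hNc p hp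
  by_cases hcj : cj w T = T
  · -- `w` normalizes `T`
    set H := T ⊔ zpowers w with hH
    have hTH : T ≤ H := le_sup_left
    have hwH : w ∈ H := (le_sup_right : zpowers w ≤ H) (mem_zpowers w)
    have hwN : w ∈ normalizer (T : Set G) := by
      rw [mem_normalizer_iff]
      intro h
      constructor
      · intro hh
        rw [← hcj, mem_cj]
        simpa [mul_assoc] using hh
      · intro hh
        rw [← hcj, mem_cj] at hh
        simpa [mul_assoc] using hh
    have hHN : H ≤ normalizer (T : Set G) := by
      rw [hH]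
      refine sup_le le_normalizer ?_
      rwa [zpowers_le]
    have hTnH : (T.subgroupOf H).Normal := normal_subgroupOf_of_le_normalizer hHN
    have hsimple : IsSimpleGroup T := isSimpleGroup hN hmin hT
    have e : T.subgroupOf H ≃* T := subgroupOfEquivOfLe hTH
    have hsimple' : IsSimpleGroup (T.subgroupOf H) := e.isSimpleGroup
    have hgen : ∀ g : H, ∃ t ∈ T.subgroupOf H, ∃ n : ℤ, g = t * (⟨w, hwH⟩ : H) ^ n := by
      rintro ⟨g, hg⟩
      have h1 : g ∈ (T : Set G) * (zpowers w : Set G) := by
        rw [← coe_mul_of_right_le_normalizer_left T (zpowers w) (by rwa [zpowers_le])]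
        exact hg
      obtain ⟨t, ht, z, hz, hg'⟩ := Set.mem_mul.mp h1
      obtain ⟨n, rfl⟩ := mem_zpowers_iff.mp hz
      exact ⟨⟨t, hTH ht⟩, ht, n, Subtype.ext hg'.symm⟩
    have hTnc := T_not_comm hN hmin hT hNc
    have hnc : ¬ ∀ a ∈ T.subgroupOf H, ∀ b ∈ T.subgroupOf H, a * b = b * a := by
      intro h
      apply hTnc
      intro a ha b hb
      exact congrArg Subtype.val (h ⟨a, hTH ha⟩ ha ⟨b, hTH hb⟩ hb)
    have hwc : (⟨w, hwH⟩ : H) ∉ centralizer ((T.subgroupOf H : Subgroup H) : Set H) := by
      intro h
      apply hcon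
      rw [mem_centralizer_iff] at h ⊢
      intro t ht
      exact congrArg Subtype.val (h ⟨t, hTH ht⟩ ht)
    have hidx : (centralizer ({(⟨w, hwH⟩ : H)} : Set H)).index = p ^ m := by
      have h1 : centralizer ({(⟨w, hwH⟩ : H)} : Set H) =
          (centralizer ({w} : Set G)).subgroupOf H := by
        ext z
        rw [mem_subgroupOf, mem_centralizer_singleton_iff, mem_centralizer_singleton_iff,
          Subtype.ext_iff]
        rfl
      have h2 : ((centralizer ({w} : Set G)).subgroupOf H).relIndex (T.subgroupOf H) =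
          (centralizer ({w} : Set G)).relIndex T := relIndex_subgroupOf hTH
      rw [h1, ← hm, ← h2]
      symm
      apply H1.Solv.relIndex_eq_index_of_forall_exists_mul
      intro g
      obtain ⟨t, ht, n, hg⟩ := hgen g
      refine ⟨t, ht, _, ?_, hg⟩
      rw [mem_subgroupOf]
      have : w ∈ centralizer ({w} : Set G) := mem_centralizer_singleton_iff.mpr rfl
      exact zpow_mem this n
    exact H70.KazarinKey.key (T.subgroupOf H) hsimple' hnc ⟨w, hwH⟩ hwc hgen p m hp hidx r j hr hrp
      (by rw [Subgroup.orderOf_mk]; exact hwr) q hq hqp ⟨y, hTH hyT⟩ hyT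
      (by rw [Subgroup.orderOf_mk, hyq])
  · -- `w` moves `T`
    have h1 := (cj_eq_or_inf_eq_bot hN hT w).resolve_left hcj
    have h2 : (centralizer ({w} : Set G)).subgroupOf T = ⊥ := by
      rw [eq_bot_iff]
      rintro ⟨t, ht⟩ hc
      rw [mem_subgroupOf, mem_centralizer_singleton_iff] at hc
      have h3 : t ∈ cj w T ⊓ T := by
        refine Subgroup.mem_inf.mpr ⟨mem_cj.mpr ?_, ht⟩
        have : w⁻¹ * t * w = t := by
          rw [mul_assoc]
          simp only at hc
          rw [hc]; group
        rw [this]; exact ht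
      rw [h1, mem_bot] at h3
      exact mem_bot.mpr (Subtype.ext h3)
    have h3 : Nat.card T = p ^ m := by
      rw [← hm, Subgroup.relIndex, h2, Subgroup.index_bot]
    have h4 : q ∣ Nat.card T := by
      rw [← hyq, ← Subgroup.orderOf_mk y hyT]
      exact orderOf_dvd_natCard _
    rw [h3] at h4
    exact hqp ((Nat.prime_dvd_prime_iff_eq hq hp).mp (hq.dvd_of_dvd_pow h4))

/-- Kazarin's theorem -/
theorem mem_srad (n : ℕ) : ∀ (G : Type u) [Group G] [Finite G], Nat.card G = n →
    ∀ (x : G) (p k : ℕ), p.Prime → (centralizer ({x} : Set G)).index = p ^ k →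
      x ∈ H70.SolvRad.srad G := by
  induction n using Nat.strong_induction_on with
  | _ n ih =>
  intro G _ _ hn x p k hp hx
  by_cases hrad : H70.SolvRad.srad G = ⊥
  swap
  · -- pass to the quotient
    set R := H70.SolvRad.srad G with hR
    have hcard : Nat.card (G ⧸ R) < n := by
      rw [← hn, ← Subgroup.index_eq_card, ← Subgroup.card_mul_index R]
      have : 1 < Nat.card R := Subgroup.one_lt_card_iff_ne_bot R |>.mpr hrad
      have hpos : 0 < R.index := Nat.pos_of_ne_zero Subgroup.index_ne_zero_of_finite
      nlinarith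
    have h1 := H70.ClassSize.index_centralizer_map_dvd (QuotientGroup.mk' R)
      (QuotientGroup.mk'_surjective R) x
    rw [hx] at h1
    obtain ⟨j, _, hj⟩ := (Nat.dvd_prime_pow hp).mp h1
    have h2 := ih _ hcard (G ⧸ R) rfl _ p j hp hj
    exact H70.SolvRad.comap_srad_le R H70.SolvRad.isSolvable_srad h2
  · rw [hrad, mem_bot]
    by_contra hx1
    -- a nontrivial primary part
    obtain ⟨r, hr, hrx⟩ := Nat.exists_prime_and_dvd (n := orderOf x) (by
      rw [Ne, orderOf_eq_one_iff]; exact hx1)
    obtain ⟨a, b, hab, ⟨j, hj⟩, hb⟩ := H70.Real.exists_decomp r hr x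
    set z := x ^ a with hz
    have hz1 : z ≠ 1 := by
      intro h
      rw [h, one_mul] at hab
      rw [hab] at hb
      exact hb hrx
    have hzidx : ∃ k', (centralizer ({z} : Set G)).index = p ^ k' := by
      have hle : centralizer ({x} : Set G) ≤ centralizer ({z} : Set G) := by
        intro c hc
        rw [mem_centralizer_singleton_iff] at hc ⊢
        exact ((show Commute c x from hc).pow_right a).eq
      have h1 := Subgroup.index_dvd_of_le hle
      rw [hx] at h1
      obtain ⟨k', _, hk'⟩ := (Nat.dvd_prime_pow hp).mp h1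
      exact ⟨k', hk'⟩
    obtain ⟨k', hk'⟩ := hzidx
    suffices hz' : z ∈ H70.SolvRad.srad G by
      rw [hrad, mem_bot] at hz'
      exact hz1 hz'
    by_cases hrp : r = p
    · -- `z` is a `p`-element
      subst hrp
      have : Fact r.Prime := ⟨hr⟩
      have hzp : IsPGroup r (zpowers z) := by
        apply IsPGroup.of_card (n := j)
        rw [Nat.card_zpowers, hj]
      obtain ⟨P, hP⟩ := hzp.exists_le_sylow
      have hcop : (P : Subgroup G).index.Coprime (centralizer ({z} : Set G)).index := by
        rw [hk']
        exact (Nat.Coprime.pow_left k' ((Nat.Prime.coprime_iff_not_dvd hr).mpr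
          P.not_dvd_index)).symm
      have hcl : normalClosure ({z} : Set G) ≤ (P : Subgroup G) := by
        rw [normalClosure, closure_le]
        intro c hc
        obtain ⟨z', hz', hcz⟩ := Group.mem_conjugatesOfSet_iff.mp hc
        rw [Set.mem_singleton_iff] at hz'
        rw [hz'] at hcz
        obtain ⟨g, rfl⟩ := isConj_iff.mp hcz
        obtain ⟨s, hs, c, hc, hg⟩ := H1.Solv.exists_mul_of_coprime_index hcop g
        have h1 : g * z * g⁻¹ = s * z * s⁻¹ := by
          rw [mem_centralizer_singleton_iff] at hc
          rw [hg]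
          calc s * c * z * (s * c)⁻¹ = s * (c * z) * c⁻¹ * s⁻¹ := by group
            _ = s * (z * c) * c⁻¹ * s⁻¹ := by rw [hc]
            _ = s * z * s⁻¹ := by group
        rw [h1]
        exact mul_mem (mul_mem hs (hP (mem_zpowers z))) (inv_mem hs)
      have hpg : IsPGroup r (normalClosure ({z} : Set G)) := P.2.to_le hcl
      have hsol : Group.IsSolvable (normalClosure ({z} : Set G)) := by
        have := hpg.isNilpotent
        infer_instance
      exact H70.SolvRad.le_srad normalClosure_normal hsol
        (subset_normalClosure (Set.mem_singleton z))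
    · -- minimal normal subgroup
      have hnt : Nontrivial G := ⟨x, 1, hx1⟩
      obtain ⟨N, ⟨hN, hNne⟩, hNmin⟩ := Set.Finite.exists_minimal
        (s := {N : Subgroup G | N.Normal ∧ N ≠ ⊥}) (Set.toFinite _) ⟨⊤, inferInstance, top_ne_bot⟩
      have hmin : ∀ M : Subgroup G, M.Normal → M ≤ N → M ≠ ⊥ → M = N :=
        fun M hM hMN hMne => le_antisymm hMN (hNmin ⟨hM, hMne⟩ hMN)
      have hNc : ¬ ∀ a ∈ N, ∀ b ∈ N, a * b = b * a := by
        intro h
        apply hNne
        rw [eq_bot_iff, ← hrad]
        refine H70.SolvRad.le_srad hN ?_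
        exact Group.isSolvable_of_comm (fun a b => Subtype.ext (h a a.2 b b.2))
      obtain ⟨T, hTN, hTne, hTnorm, hTmin⟩ := exists_min N hNne
      have hT : Factor N T := ⟨hTN, hTne, hTnorm, hTmin⟩
      -- `z` centralizes `N`
      have hzN : N ≤ centralizer ({z} : Set G) := by
        rw [← iSup_cj hN hmin hT]
        apply iSup_le
        intro g y hy
        rw [mem_cj] at hy
        have hconj : (centralizer ({g⁻¹ * z * g} : Set G)).index = p ^ k' := by
          rw [← hk', H4.CharCount.index_centralizer_eq_ncard_carrier,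
            H4.CharCount.index_centralizer_eq_ncard_carrier]
          congr 2
          rw [ConjClasses.mk_eq_mk_iff_isConj, isConj_iff]
          exact ⟨g, by group⟩
        have hord : orderOf (g⁻¹ * z * g) = r ^ j := by
          rw [← hj]
          have := orderOf_injective (MulAut.conj g⁻¹).toMonoidHom (MulAut.conj g⁻¹).injective z
          simpa using this
        have h1 := mem_centralizer_factor hN hmin hT hNc (g⁻¹ * z * g) p k' hp hconj r j hr hrp hord
        rw [mem_centralizer_iff] at h1
        have h2 := h1 _ hy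
        rw [mem_centralizer_singleton_iff]
        calc y * z = g * (g⁻¹ * y * g * (g⁻¹ * z * g)) * g⁻¹ := by group
          _ = z * y := by rw [h2]; group
      have hzC : z ∈ centralizer (N : Set G) := by
        rw [mem_centralizer_iff]
        intro y hy
        exact mem_centralizer_singleton_iff.mp (hzN hy)
      set C := centralizer (N : Set G) with hC
      have hCn : C.Normal := inferInstance
      have hCtop : C ≠ ⊤ := by
        intro h
        apply hNc
        intro a _ b hb
        have : a ∈ C := by rw [h]; trivial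
        exact (mem_centralizer_iff.mp this b hb).symm
      have hCcard : Nat.card C < n := by
        rw [← hn]
        exact lt_of_le_of_ne (Subgroup.card_le_card_group C)
          (fun h => hCtop (Subgroup.eq_top_of_card_eq C h))
      have h1 := H70.ClassSize.index_centralizer_subgroup_dvd C ⟨z, hzC⟩
      simp only [hk'] at h1
      obtain ⟨k2, _, hk2⟩ := (Nat.dvd_prime_pow hp).mp h1
      have h2 := ih _ hCcard C rfl ⟨z, hzC⟩ p k2 hp hk2
      exact H70.SolvRad.map_subtype_srad_le C ⟨⟨z, hzC⟩, h2, rfl⟩

end H70.Kazarin
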