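import Mathlib
import Cfsg.Prelude.Def_OddOrderLocal

/-!
Centralizers in `PSL₂(2ⁿ)` are TI.
-/

set_option autoImplicit false
open Subgroup Cfsg Matrix

namespace H70.SL2Cent

/-- two 2×2 matrices commuting with a nonscalar one commute -/
theorem comm_of_comm {F : Type*} [Field F] {A B C : Matrix (Fin 2) (Fin 2) F}
    (hA : ¬ (A 0 1 = 0 ∧ A 1 0 = 0 ∧ A 0 0 = A 1 1)) (hB : A * B = B * A) (hC : A * C = C * A) :
    B * C = C * B := by
  have hB' := fun i j => congrFun (congrFun hB i) j
  have hC' := fun i j => congrFun (congrFun hC i) j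
  have b00 := hB' 0 0
  have b01 := hB' 0 1
  have b10 := hB' 1 0
  have c00 := hC' 0 0
  have c01 := hC' 0 1
  have c10 := hC' 1 0
  simp only [Matrix.mul_apply, Fin.sum_univ_two] at b00 b01 b10 c00 c01 c10
  -- shorthand
  have eB1 : A 0 1 * B 1 0 = A 1 0 * B 0 1 := by linear_combination b00
  have eB2 : (A 0 0 - A 1 1) * B 0 1 = A 0 1 * (B 0 0 - B 1 1) := by linear_combination b01
  have eB3 : (A 0 0 - A 1 1) * B 1 0 = A 1 0 * (B 0 0 - B 1 1) := by linear_combination -b10
  have eC1 : A 0 1 * C 1 0 = A 1 0 * C 0 1 := by linear_combination c00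
  have eC2 : (A 0 0 - A 1 1) * C 0 1 = A 0 1 * (C 0 0 - C 1 1) := by linear_combination c01
  have eC3 : (A 0 0 - A 1 1) * C 1 0 = A 1 0 * (C 0 0 - C 1 1) := by linear_combination -c10
  have key : B 0 1 * C 1 0 = B 1 0 * C 0 1 ∧
      (B 0 0 - B 1 1) * C 0 1 = B 0 1 * (C 0 0 - C 1 1) ∧
      (B 0 0 - B 1 1) * C 1 0 = B 1 0 * (C 0 0 - C 1 1) := by
    by_cases h1 : A 0 1 = 0
    · by_cases h2 : A 1 0 = 0
      · have h3 : A 0 0 - A 1 1 ≠ 0 := fun h => hA ⟨h1, h2, sub_eq_zero.mp h⟩
        rw [h1, zero_mul] at eB2 eC2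
        rw [h2, zero_mul] at eB3 eC3
        have e1 := (mul_eq_zero.mp eB2).resolve_left h3
        have e2 := (mul_eq_zero.mp eC2).resolve_left h3
        have e3 := (mul_eq_zero.mp eB3).resolve_left h3
        have e4 := (mul_eq_zero.mp eC3).resolve_left h3
        rw [e1, e2, e3, e4]; simp
      · refine ⟨?_, ?_, ?_⟩
        · apply mul_left_cancel₀ (mul_ne_zero h2 h2)
          linear_combination (A 1 0 * B 1 0) * eC1 - (A 1 0 * C 1 0) * eB1
        · apply mul_left_cancel₀ (mul_ne_zero h2 h2)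
          linear_combination (-(A 1 0 * C 0 1)) * eB3 + A 1 0 * (C 0 0 - C 1 1) * eB1 +
            A 0 1 * B 1 0 * eC3 - (A 0 0 - A 1 1) * B 1 0 * eC1
        · apply mul_left_cancel₀ h2
          linear_combination (-C 1 0) * eB3 + B 1 0 * eC3
    · refine ⟨?_, ?_, ?_⟩
      · apply mul_left_cancel₀ h1
        linear_combination B 0 1 * eC1 - C 0 1 * eB1
      · apply mul_left_cancel₀ h1
        linear_combination (-C 0 1) * eB2 + B 0 1 * eC2
      · apply mul_left_cancel₀ (mul_ne_zero h1 h1)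
        linear_combination (-(A 0 1 * C 1 0)) * eB2 - (A 0 1) * (C 0 0 - C 1 1) * eB1 +
          A 1 0 * B 0 1 * eC2 + (A 0 0 - A 1 1) * B 0 1 * eC1
  obtain ⟨k1, k2, k3⟩ := key
  ext i j
  fin_cases i <;> fin_cases j <;> simp only [Matrix.mul_apply, Fin.sum_univ_two, Fin.zero_eta, Fin.mk_one]
  · linear_combination k1
  · linear_combination k2
  · linear_combination -k3
  · linear_combination -k1

/-- in characteristic two, scalar elements of `SL₂` are trivial -/
theorem eq_one_of_scalar {F : Type*} [Field F] [CharP F 2] (X : SpecialLinearGroup (Fin 2) F)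
    (h : X 0 1 = 0 ∧ X 1 0 = 0 ∧ X 0 0 = X 1 1) : X = 1 := by
  obtain ⟨h1, h2, h3⟩ := h
  have hdet := X.det_coe
  rw [Matrix.det_fin_two] at hdet
  have h4 : (X : Matrix (Fin 2) (Fin 2) F) 1 1 * (X : Matrix (Fin 2) (Fin 2) F) 1 1 = 1 := by
    have h5 : (X : Matrix (Fin 2) (Fin 2) F) 0 1 = 0 := h1
    have h6 : (X : Matrix (Fin 2) (Fin 2) F) 0 0 = (X : Matrix (Fin 2) (Fin 2) F) 1 1 := h3
    rw [h5, h6] at hdet
    linear_combination hdet
  have h5 : (X : Matrix (Fin 2) (Fin 2) F) 1 1 = 1 := by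
    have h6 : ((X : Matrix (Fin 2) (Fin 2) F) 1 1 - 1) ^ 2 = 0 := by
      have h2' : (2 : F) = 0 := CharTwo.two_eq_zero
      linear_combination h4 - (X : Matrix (Fin 2) (Fin 2) F) 1 1 * h2' + h2'
    exact sub_eq_zero.mp (pow_eq_zero_iff (by norm_num) |>.mp h6)
  have h6 : (X : Matrix (Fin 2) (Fin 2) F) 0 0 = 1 := by
    have : (X : Matrix (Fin 2) (Fin 2) F) 0 0 = (X : Matrix (Fin 2) (Fin 2) F) 1 1 := h3
    rw [this, h5]
  ext i j
  fin_cases i <;> fin_cases j
  · simpa using h6
  · simpa using h1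
  · simpa using h2
  · simpa using h5

theorem center_eq_bot {F : Type*} [Field F] [CharP F 2] :
    center (SpecialLinearGroup (Fin 2) F) = ⊥ := by
  rw [eq_bot_iff]
  intro X hX
  rw [Matrix.SpecialLinearGroup.mem_center_iff] at hX
  obtain ⟨r, _, hr⟩ := hX
  rw [mem_bot]
  apply eq_one_of_scalar
  have h : ∀ i j, (X : Matrix (Fin 2) (Fin 2) F) i j = (scalar (Fin 2)) r i j := fun i j => by rw [hr]
  refine ⟨?_, ?_, ?_⟩
  · change (X : Matrix (Fin 2) (Fin 2) F) 0 1 = 0
    rw [h]; simp
  · change (X : Matrix (Fin 2) (Fin 2) F) 1 0 = 0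
    rw [h]; simp
  · change (X : Matrix (Fin 2) (Fin 2) F) 0 0 = (X : Matrix (Fin 2) (Fin 2) F) 1 1
    rw [h, h]; simp

theorem comm_lift {F : Type*} [Field F] [CharP F 2] {X Y : SpecialLinearGroup (Fin 2) F}
    (h : (X : ProjectiveSpecialLinearGroup (Fin 2) F) * Y = Y * X) : X * Y = Y * X := by
  have h1 : (((Y * X)⁻¹ * (X * Y) : SpecialLinearGroup (Fin 2) F) :
      ProjectiveSpecialLinearGroup (Fin 2) F) = 1 := by
    rw [QuotientGroup.mk_mul, QuotientGroup.mk_inv, QuotientGroup.mk_mul, QuotientGroup.mk_mul, h,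
      inv_mul_cancel]
  rw [QuotientGroup.eq_one_iff, center_eq_bot, mem_bot] at h1
  exact (inv_mul_eq_one.mp h1).symm

/-- centralizers of nontrivial elements of `PSL₂` in characteristic two are abelian -/
theorem centralizer_comm {F : Type*} [Field F] [CharP F 2]
    {x y z : ProjectiveSpecialLinearGroup (Fin 2) F} (hx : x ≠ 1) (hy : y * x = x * y)
    (hz : z * x = x * z) : y * z = z * y := by
  induction x using QuotientGroup.induction_on with | H X =>
  induction y using QuotientGroup.induction_on with | H Y =>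
  induction z using QuotientGroup.induction_on with | H Z =>
  have hX : ¬ (X 0 1 = 0 ∧ X 1 0 = 0 ∧ X 0 0 = X 1 1) := by
    intro h
    apply hx
    rw [eq_one_of_scalar X h]; rfl
  have h1 := comm_lift hy.symm
  have h2 := comm_lift hz.symm
  have h3 : Y * Z = Z * Y := by
    apply Subtype.ext
    change (Y : Matrix (Fin 2) (Fin 2) F) * (Z : Matrix (Fin 2) (Fin 2) F) =
      (Z : Matrix (Fin 2) (Fin 2) F) * (Y : Matrix (Fin 2) (Fin 2) F)
    apply comm_of_comm (A := (X : Matrix (Fin 2) (Fin 2) F)) hX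
    · have := congrArg (fun W : SpecialLinearGroup (Fin 2) F => (W : Matrix (Fin 2) (Fin 2) F)) h1
      simpa using this
    · have := congrArg (fun W : SpecialLinearGroup (Fin 2) F => (W : Matrix (Fin 2) (Fin 2) F)) h2
      simpa using this
  rw [← QuotientGroup.mk_mul, ← QuotientGroup.mk_mul, h3]

/-- TI property from commuting transitivity -/
theorem isTISubset_of_comm {G : Type*} [Group G]
    (h : ∀ x y z : G, x ≠ 1 → y * x = x * y → z * x = x * z → y * z = z * y) (x : G) :
    IsTISubset (centralizer ({x} : Set G) : Set G) := by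
  intro g hg y hy hgy
  by_contra hy1
  apply hg
  by_cases hx : x = 1
  · subst hx
    have : centralizer ({1} : Set G) = ⊤ := by
      ext z; simp [mem_centralizer_singleton_iff]
    rw [this, normalizer_eq_top]; trivial
  · have hyx := mem_centralizer_singleton_iff.mp hy
    have hgyx := mem_centralizer_singleton_iff.mp hgy
    have hgy1 : g * y * g⁻¹ ≠ 1 := by
      intro h1
      apply hy1
      have : g * y = g := by rwa [mul_inv_eq_one] at h1
      simpa using this
    -- both `C(x)` and its conjugate equal `C(g y g⁻¹)`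
    have key : ∀ c : G, c * x = x * c ↔ (g * c * g⁻¹) * x = x * (g * c * g⁻¹) := by
      intro c
      have e1 : ∀ c : G, c * x = x * c ↔ c * y = y * c := by
        intro c
        constructor
        · intro hc; exact h x c y hx hc hyx
        · intro hc; exact h y c x hy1 hc hyx.symm
      have e2 : ∀ c : G, c * (g * y * g⁻¹) = (g * y * g⁻¹) * c ↔ c * x = x * c := by
        intro c
        constructor
        · intro hc; exact h _ c x hgy1 hc hgyx.symm
        · intro hc; exact h x c _ hx hc hgyx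
      rw [e1 c, ← e2 (g * c * g⁻¹)]
      constructor
      · intro hc
        calc g * c * g⁻¹ * (g * y * g⁻¹) = g * (c * y) * g⁻¹ := by group
          _ = g * (y * c) * g⁻¹ := by rw [hc]
          _ = _ := by group
      · intro hc
        calc c * y = g⁻¹ * (g * c * g⁻¹ * (g * y * g⁻¹)) * g := by group
          _ = g⁻¹ * (g * y * g⁻¹ * (g * c * g⁻¹)) * g := by rw [hc]
          _ = _ := by group
    rw [mem_normalizer_iff]
    intro c
    rw [mem_centralizer_singleton_iff, mem_centralizer_singleton_iff]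
    exact key c

end H70.SL2Cent
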