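import Mathlib
import Cfsg.Agent.Lib.H1.ThompsonNPC
import Cfsg.Agent.Lib.H2.Nilp
import Cfsg.Agent.Lib.H70.Basic
import Cfsg.Agent.Lib.H70.ClassTwo

set_option autoImplicit false
open Subgroup Cfsg
open scoped commutatorElement Pointwise

namespace H70.NilMax

universe u

variable {G : Type u} [Group G]

theorem pResidual_normal (p : ℕ) : (pResidual p G).Normal := inferInstance

/-- A finite group with a nilpotent maximal subgroup `M` which is `p`-nilpotent for all primes `p` dividing `|M|` is
solvable. -/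
theorem solvable_of_npc [Finite G] (M : Subgroup G) (hmax : IsCoatom M) (hnil : Group.IsNilpotent M)
    (h : ∀ p : ℕ, p.Prime → p ∣ Nat.card M → HasNormalPComplement p G) : Group.IsSolvable G := by
  classical
  set K : Subgroup G := ⨅ p ∈ (Nat.card M).primeFactors, pResidual p G with hK
  haveI hKn : K.Normal := by
    rw [hK]
    refine Subgroup.normal_iInf_normal fun p => Subgroup.normal_iInf_normal fun _ => inferInstance
  have hcop : (Nat.card M).Coprime (Nat.card K) := by
    apply Nat.Coprime.symm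
    rw [Nat.coprime_comm]
    apply Nat.coprime_of_dvd
    intro p hp hpM hpK
    haveI : Fact p.Prime := ⟨hp⟩
    have h1 : K ≤ pResidual p G := by
      rw [hK]
      exact iInf₂_le p (Nat.mem_primeFactors.mpr ⟨hp, hpM, Nat.card_pos.ne'⟩)
    exact (H2.NPC.iff_not_dvd_card_residual.mp (h p hp hpM)) (hpK.trans (Subgroup.card_dvd_of_le h1))
  -- the quotient is solvable
  have hGK : ∃ n, derivedSeries G n ≤ K := by
    have h1 : ∀ p ∈ (Nat.card M).primeFactors, ∃ n, derivedSeries G n ≤ pResidual p G := by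
      intro p hp
      haveI : Fact p.Prime := ⟨Nat.prime_of_mem_primeFactors hp⟩
      have h2 : IsPGroup p (G ⧸ pResidual p G) := H2.Residual.isPGroup_quotient_residual
      have h3 : Group.IsNilpotent (G ⧸ pResidual p G) := h2.isNilpotent
      have h4 : Group.IsSolvable (G ⧸ pResidual p G) := inferInstance
      obtain ⟨n, hn⟩ := h4
      refine ⟨n, ?_⟩
      have h5 := map_derivedSeries_le_derivedSeries (QuotientGroup.mk' (pResidual p G)) n
      rw [hn, le_bot_iff, Subgroup.map_eq_bot_iff, QuotientGroup.ker_mk'] at h5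
      exact h5
    choose! f hf using h1
    refine ⟨(Nat.card M).primeFactors.sup f, ?_⟩
    rw [hK]
    refine le_iInf₂ fun p hp => ?_
    exact (derivedSeries_antitone G (Finset.le_sup hp)).trans (hf p hp)
  have hinf : K ⊓ M = ⊥ := (Subgroup.disjoint_of_coprime_natCard hcop.symm).eq_bot
  have hKs : Group.IsSolvable K := by
    by_cases hKb : K = ⊥
    · rw [hKb]; infer_instance
    · obtain ⟨q, hq, hqK⟩ := Nat.exists_prime_and_dvd (n := Nat.card K) (by
        rw [Ne, Subgroup.card_eq_one]; exact hKb)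
      haveI : Fact q.Prime := ⟨hq⟩
      have hMs : Group.IsSolvable M := inferInstance
      obtain ⟨S, hS, hMS⟩ := H1.Coprime2.exists_invariant_sylow M K (by rw [normalizer_eq_top]; exact le_top)
        hcop (Or.inl hMs) q
      have hSM : S ⊓ M = ⊥ := by
        rw [eq_bot_iff, ← hinf]; exact inf_le_inf_right _ hS.1
      have hSne : S ≠ ⊥ := by
        intro hb
        have h1 := hS.2
        rw [hb, Subgroup.card_bot] at h1
        have h2 : (Nat.card K).factorization q ≠ 0 :=
          (hq.factorization_pos_of_dvd Nat.card_pos.ne' hqK).ne'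
        exact (Nat.one_lt_pow h2 hq.one_lt).ne h1
      have hsup : M ⊔ S = ⊤ := by
        by_contra hne
        have h1 : M ⊔ S = M := by
          have := hmax.2 (M ⊔ S)
          by_contra h2
          exact hne (this (lt_of_le_of_ne le_sup_left (Ne.symm h2)))
        have h2 : S ≤ M := by rw [← h1]; exact le_sup_right
        apply hSne
        rw [← hSM, inf_eq_left.mpr h2]
      have hSn : S.Normal := by
        rw [← normalizer_eq_top_iff, eq_top_iff, ← hsup]
        exact sup_le hMS Subgroup.le_normalizer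
      have h1 : Nat.card (M ⊔ S : Subgroup G) = Nat.card M * Nat.card S :=
        H1.Hall.card_sup_of_disjoint_normal (by rw [inf_comm]; exact hSM)
      have h2 : Nat.card (M ⊔ K : Subgroup G) = Nat.card M * Nat.card K :=
        H1.Hall.card_sup_of_disjoint_normal (by rw [inf_comm]; exact hinf)
      have h3 : Nat.card (M ⊔ K : Subgroup G) ≤ Nat.card (M ⊔ S : Subgroup G) := by
        rw [hsup, Subgroup.card_top]; exact Subgroup.card_le_card_group _
      rw [h1, h2] at h3
      have h4 : Nat.card K ≤ Nat.card S := Nat.le_of_mul_le_mul_left h3 Nat.card_pos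
      have h5 : S = K := Subgroup.eq_of_le_of_card_ge hS.1 h4
      rw [← h5]
      haveI := hS.isPGroup.isNilpotent
      infer_instance
  obtain ⟨n, hn⟩ := hGK
  have hGKs : Group.IsSolvable (G ⧸ K) := by
    refine ⟨n, ?_⟩
    rw [← map_derivedSeries_eq (QuotientGroup.mk'_surjective K), Subgroup.map_eq_bot_iff, QuotientGroup.ker_mk']
    exact hn
  exact Group.isSolvable_of_ker_le_range K.subtype (QuotientGroup.mk' K)
    (by rw [QuotientGroup.ker_mk', Subgroup.range_subtype])

/-- `D` is a `p`-subgroup normalized but not centralized by some `p'`-element -/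
def Bad (p : ℕ) (D : Subgroup G) : Prop :=
  IsPGroup p D ∧ ∃ g ∈ normalizer (D : Set G), Nat.Coprime (orderOf g) p ∧ g ∉ centralizer (D : Set G)

/-- If `G` has no normal `p`-complement there is a bad `D` which contains all `p`-subgroups centralizing it. -/
theorem exists_bad [Finite G] {p : ℕ} [hp : Fact p.Prime] (h : ¬ HasNormalPComplement p G) :
    ∃ D : Subgroup G, Bad p D ∧ ∀ R : Subgroup G, IsPGroup p R → R ≤ centralizer (D : Set G) → R ≤ D := by
  have hex : ∃ D : Subgroup G, Bad p D := by
    by_contra hcon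
    push Not at hcon
    apply h
    apply H2.Frobenius.hasNPC_of_local
    intro D hD g hg hgo
    by_contra hgc
    exact hcon D ⟨hD, g, hg, hgo, hgc⟩
  obtain ⟨D, hD, hmax⟩ := (Set.toFinite {D : Subgroup G | Bad p D}).exists_maximal hex
  have hmax' : ∀ R : Subgroup G, Bad p R → D ≤ R → R = D := fun R hR hDR => le_antisymm (hmax hR hDR) hDR
  refine ⟨D, hD, ?_⟩
  obtain ⟨hDp, g, hg, hgo, hgc⟩ := hD
  set C := centralizer (D : Set G) with hC
  obtain ⟨R₀, hR₀⟩ := H1.Coprime2.exists_isSylIn p C
  have hNC : normalizer (D : Set G) ≤ normalizer (C : Set G) := by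
    intro x hx
    rw [mem_normalizer_iff] at hx ⊢
    intro y
    rw [hC, mem_centralizer_iff, mem_centralizer_iff]
    constructor
    · intro hy d hd
      have h1 : x⁻¹ * d * x ∈ D := by
        rw [hx]; simpa [mul_assoc] using hd
      have h2 := hy _ h1
      have h3 : x * (x⁻¹ * d * x * y) * x⁻¹ = x * (y * (x⁻¹ * d * x)) * x⁻¹ := by rw [h2]
      calc d * (x * y * x⁻¹) = x * (x⁻¹ * d * x * y) * x⁻¹ := by group
        _ = x * (y * (x⁻¹ * d * x)) * x⁻¹ := h3
        _ = x * y * x⁻¹ * d := by group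
    · intro hy d hd
      have h1 : x * d * x⁻¹ ∈ D := (hx d).mp hd
      have h2 := hy _ h1
      have h3 : x⁻¹ * (x * d * x⁻¹ * (x * y * x⁻¹)) * x = x⁻¹ * (x * y * x⁻¹ * (x * d * x⁻¹)) * x := by rw [h2]
      calc d * y = x⁻¹ * (x * d * x⁻¹ * (x * y * x⁻¹)) * x := by group
        _ = x⁻¹ * (x * y * x⁻¹ * (x * d * x⁻¹)) * x := h3
        _ = y * d := by group
  have hR₀D : R₀ ≤ D := by
    by_contra hnot
    -- Frattini: `c * g` normalizes `R₀`
    obtain ⟨c, hc, hcg⟩ := (hR₀.smul (hNC hg)).conj hR₀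
    rw [← H1.SZ.conj_mul_smul] at hcg
    set n := c * g with hn
    have hcN : c ∈ normalizer (D : Set G) := centralizer_le_normalizer _ hc
    have hnN : n ∈ normalizer (D : Set G) := mul_mem hcN hg
    have hnR : n ∈ normalizer (R₀ : Set G) := H1.SZ.mem_normalizer_of_conj_smul_eq hcg
    -- the conjugation action on `D`
    set φ := D.normalizerMonoidHom with hφ
    have hφn : φ ⟨n, hnN⟩ = φ ⟨g, hg⟩ := by
      have h1 : (⟨n, hnN⟩ : normalizer (D : Set G)) = ⟨c, hcN⟩ * ⟨g, hg⟩ := rfl
      have h2 : φ ⟨c, hcN⟩ = 1 := by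
        rw [← MonoidHom.mem_ker, hφ, normalizerMonoidHom_ker, mem_subgroupOf]
        exact hc
      rw [h1, map_mul, h2, one_mul]
    obtain ⟨a, m, hm, hnm⟩ := Nat.exists_eq_pow_mul_and_not_dvd (n := orderOf n) (orderOf_pos n).ne' p hp.out.ne_one
    obtain ⟨k, hk1, hk2⟩ := Nat.chineseRemainder (hgo.pow_right a) 1 0
    set n' := n ^ k with hn'
    have hn'o : (orderOf n').Coprime p := by
      have h1 : n' ^ m = 1 := by
        rw [hn', ← pow_mul, ← orderOf_dvd_iff_pow_eq_one, hnm]
        exact Nat.mul_dvd_mul (Nat.modEq_zero_iff_dvd.mp hk2) dvd_rfl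
      have h2 : m.Coprime p := ((Nat.Prime.coprime_iff_not_dvd hp.out).mpr hm).symm
      exact Nat.Coprime.coprime_dvd_left (orderOf_dvd_of_pow_eq_one h1) h2
    have hgk : g ^ k = g := by
      conv_rhs => rw [← pow_one g]
      exact pow_eq_pow_iff_modEq.mpr hk1
    have hn'N : n' ∈ normalizer (D : Set G) := pow_mem hnN k
    have hφn' : φ ⟨n', hn'N⟩ = φ ⟨g, hg⟩ := by
      have h1 : (⟨n', hn'N⟩ : normalizer (D : Set G)) = ⟨n, hnN⟩ ^ k := rfl
      have h2 : (⟨g, hg⟩ : normalizer (D : Set G)) ^ k = ⟨g, hg⟩ := Subtype.ext hgk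
      rw [h1, map_pow, hφn, ← map_pow, h2]
    -- `D ⊔ R₀` is not bad
    have hDR : IsPGroup p (D ⊔ R₀ : Subgroup G) := by
      refine hDp.to_sup_of_normal_left' hR₀.isPGroup ?_
      exact hR₀.1.trans (centralizer_le_normalizer _)
    have hnb : ¬ Bad p (D ⊔ R₀) := by
      intro hb
      have := hmax' _ hb le_sup_left
      exact hnot (by rw [← this]; exact le_sup_right)
    have hn'c : n' ∈ centralizer ((D ⊔ R₀ : Subgroup G) : Set G) := by
      by_contra hcon
      apply hnb
      refine ⟨hDR, n', ?_, hn'o, hcon⟩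
      have h1 := H1.SZ.conj_smul_eq_of_mem_normalizer hn'N
      have h2 := H1.SZ.conj_smul_eq_of_mem_normalizer (show n' ∈ normalizer (R₀ : Set G) from pow_mem hnR k)
      apply H1.SZ.mem_normalizer_of_conj_smul_eq
      rw [Subgroup.smul_sup, h1, h2]
    have hn'C : n' ∈ C := (centralizer_le (show (D : Set G) ⊆ (D ⊔ R₀ : Subgroup G) from
      (le_sup_left : D ≤ D ⊔ R₀))) hn'c
    apply hgc
    have h3 : φ ⟨g, hg⟩ = 1 := by
      rw [← hφn', ← MonoidHom.mem_ker, hφ, normalizerMonoidHom_ker, mem_subgroupOf]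
      exact hn'C
    rw [← MonoidHom.mem_ker, hφ, normalizerMonoidHom_ker, mem_subgroupOf] at h3
    exact h3
  intro R hR hRC
  -- a Sylow of `C` containing `R`
  obtain ⟨S, hS, hRS, -⟩ := H1.Coprime2.exists_invariant_sylow_ge (⊥ : Subgroup G) C bot_le
    (by rw [Subgroup.card_bot]; exact Nat.coprime_one_left _) (Or.inl inferInstance) p R hRC hR bot_le
  obtain ⟨c, hc, hcS⟩ := hR₀.conj hS
  have h1 : MulAut.conj c • R₀ = R₀ := by
    apply H1.SZ.conj_smul_eq_of_mem_normalizer
    have h2 : c ∈ centralizer (R₀ : Set G) := (centralizer_le (show (R₀ : Set G) ⊆ (D : Set G) from hR₀D)) hc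
    exact centralizer_le_normalizer _ h2
  rw [h1] at hcS
  exact hRS.trans (hcS ▸ hR₀D)

section max

variable [Finite G] {M : Subgroup G}

theorem normalizer_eq (hmax : IsCoatom M) (hcore : ∀ X : Subgroup G, X.Normal → X ≤ M → X = ⊥)
    {X : Subgroup G} (hXM : X ≤ M) (hX : X ≠ ⊥) (hMX : M ≤ normalizer (X : Set G)) :
    normalizer (X : Set G) = M := by
  by_contra hne
  have h1 := hmax.2 _ (lt_of_le_of_ne hMX (Ne.symm hne))
  exact hX (hcore X (normalizer_eq_top_iff.mp h1) hXM)

/-- a Sylow `p`-subgroup of `M` is one of `G` -/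
theorem exists_sylow (hmax : IsCoatom M) (hnil : Group.IsNilpotent M)
    (hcore : ∀ X : Subgroup G, X.Normal → X ≤ M → X = ⊥) {p : ℕ} [hp : Fact p.Prime] (hpM : p ∣ Nat.card M) :
    ∃ T : Sylow p G, (T : Subgroup G) ≤ M ∧ (T : Subgroup G) ≠ ⊥ ∧ M ≤ normalizer ((T : Subgroup G) : Set G) := by
  obtain ⟨S, hS⟩ := H1.Coprime2.exists_isSylIn p M
  obtain ⟨P, hP⟩ := hS.exists_sylow
  have hPn : (P : Subgroup M).Normal := inferInstance
  have hSM : M ≤ normalizer (S : Set G) := by
    rw [← Subgroup.normal_subgroupOf_iff_le_normalizer hS.1]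
    have h1 : S.subgroupOf M = P := by
      rw [← hP, Subgroup.subgroupOf, Subgroup.comap_map_eq_self_of_injective M.subtype_injective]
    rw [h1]; exact hPn
  have hSne : S ≠ ⊥ := by
    intro hb
    have h1 := hS.2
    rw [hb, Subgroup.card_bot] at h1
    have h2 : (Nat.card M).factorization p ≠ 0 :=
      (hp.out.factorization_pos_of_dvd Nat.card_pos.ne' hpM).ne'
    exact (Nat.one_lt_pow h2 hp.out.one_lt).ne h1
  have hN := normalizer_eq hmax hcore hS.1 hSne hSM
  have hidx : ¬ p ∣ S.index := by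
    intro hd
    have h1 : p ^ ((Nat.card M).factorization p + 1) ∣ Nat.card G := by
      rw [← Subgroup.card_mul_index S, hS.2, pow_succ]
      exact Nat.mul_dvd_mul dvd_rfl hd
    have h2 := Sylow.prime_dvd_card_quotient_normalizer h1 hS.2
    rw [hN] at h2
    have h3 : Nat.card (M ⧸ S.subgroupOf M) = (P : Subgroup M).index := by
      have h1 : S.subgroupOf M = P := by
        rw [← hP, Subgroup.subgroupOf, Subgroup.comap_map_eq_self_of_injective M.subtype_injective]
      rw [h1]; rfl
    exact P.not_dvd_index (by rw [← h3]; exact h2)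
  exact ⟨hS.isPGroup.toSylow hidx, hS.1, hSne, hSM⟩

/-- odd primes -/
theorem npc_odd (hmax : IsCoatom M) (hnil : Group.IsNilpotent M)
    (hcore : ∀ X : Subgroup G, X.Normal → X ≤ M → X = ⊥) {p : ℕ} [hp : Fact p.Prime] (hp2 : p ≠ 2)
    (hpM : p ∣ Nat.card M) : HasNormalPComplement p G := by
  obtain ⟨T, hTM, hT, hMT⟩ := exists_sylow hmax hnil hcore hpM
  have hMnpc : HasNormalPComplement p M := H2.Nilp.hasNPC_of_nilpotent hnil
  apply H1.ThompsonNPC.tpc hp2 T
  · rw [normalizer_eq hmax hcore ((H13.SylowN.thompsonOf_le _).trans hTM)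
      (H1.ThompsonNPC.thompsonOf_ne_bot T.isPGroup' hT)
      (hMT.trans (H13.SylowN.normalizer_le_normalizer_thompsonOf _))]
    exact hMnpc
  · set Z := (T : Subgroup G) ⊓ centralizer ((T : Subgroup G) : Set G) with hZ
    have hZne : Z ≠ ⊥ := by
      have := (Subgroup.nontrivial_iff_ne_bot _).mpr hT
      have h1 := T.isPGroup'.center_nontrivial
      obtain ⟨z, hz⟩ := exists_ne (1 : center (T : Subgroup G))
      intro hb
      apply hz
      have h2 : ((z : (T : Subgroup G)) : G) ∈ Z := by
        refine Subgroup.mem_inf.mpr ⟨(z : (T : Subgroup G)).2, mem_centralizer_iff.mpr fun t ht => ?_⟩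
        exact congrArg Subtype.val (mem_center_iff.mp z.2 ⟨t, ht⟩)
      rw [hb, mem_bot] at h2
      exact Subtype.ext (Subtype.ext h2)
    have hMZ : M ≤ normalizer (Z : Set G) := by
      intro m hm
      have h1 := H1.SZ.conj_smul_eq_of_mem_normalizer (hMT hm)
      apply H1.SZ.mem_normalizer_of_conj_smul_eq
      rw [hZ, Subgroup.smul_inf, h1]
      congr 1
      ext x
      rw [H1.SZ.mem_conj_smul, mem_centralizer_iff, mem_centralizer_iff]
      have hm' := mem_normalizer_iff.mp (hMT hm)
      constructor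
      · intro h t ht
        have h2 : m⁻¹ * t * m ∈ (T : Subgroup G) := by
          rw [hm']
          have h5 : m * (m⁻¹ * t * m) * m⁻¹ = t := by group
          rw [h5]; exact ht
        have h3 := h _ h2
        have h4 : m * (m⁻¹ * t * m * (m⁻¹ * x * m)) * m⁻¹ = m * (m⁻¹ * x * m * (m⁻¹ * t * m)) * m⁻¹ := by rw [h3]
        calc t * x = m * (m⁻¹ * t * m * (m⁻¹ * x * m)) * m⁻¹ := by group
          _ = m * (m⁻¹ * x * m * (m⁻¹ * t * m)) * m⁻¹ := h4
          _ = x * t := by group
      · intro h t ht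
        have h2 : m * t * m⁻¹ ∈ (T : Subgroup G) := (hm' t).mp ht
        have h3 := h _ h2
        have h4 : m⁻¹ * (m * t * m⁻¹ * x) * m = m⁻¹ * (x * (m * t * m⁻¹)) * m := by rw [h3]
        calc t * (m⁻¹ * x * m) = m⁻¹ * (m * t * m⁻¹ * x) * m := by group
          _ = m⁻¹ * (x * (m * t * m⁻¹)) * m := h4
          _ = m⁻¹ * x * m * t := by group
    have h1 := normalizer_eq hmax hcore (inf_le_left.trans hTM) hZne hMZ
    exact H1.ThompsonNPC.mono ((centralizer_le_normalizer _).trans h1.le) hMnpc

/-- class at most two -/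
theorem npc_class_two (hmax : IsCoatom M) (hnil : Group.IsNilpotent M)
    (hcore : ∀ X : Subgroup G, X.Normal → X ≤ M → X = ⊥)
    (hcl : ∀ a ∈ M, ∀ b ∈ M, ∀ c ∈ M, c * (a * b * a⁻¹ * b⁻¹) = (a * b * a⁻¹ * b⁻¹) * c)
    {p : ℕ} [hp : Fact p.Prime] (hpM : p ∣ Nat.card M) : HasNormalPComplement p G := by
  obtain ⟨T, hTM, hT, hMT⟩ := exists_sylow hmax hnil hcore hpM
  have hMnpc : HasNormalPComplement p M := H2.Nilp.hasNPC_of_nilpotent hnil
  by_contra hcon
  obtain ⟨D₀, ⟨hD₀p, g₀, hg₀, hg₀o, hg₀c⟩, hD₀⟩ := exists_bad hcon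
  -- conjugate into `T`
  obtain ⟨S, hS⟩ := hD₀p.exists_le_sylow
  obtain ⟨x, hx⟩ := MulAction.exists_smul_eq G S T
  set D := MulAut.conj x • D₀ with hD
  have hDT : D ≤ T := by
    rw [← hx]
    exact Subgroup.pointwise_smul_le_pointwise_smul_iff.mpr hS
  have hcent : ∀ y : G, y ∈ centralizer (D : Set G) ↔ x⁻¹ * y * x ∈ centralizer (D₀ : Set G) := by
    intro y
    rw [mem_centralizer_iff, mem_centralizer_iff]
    constructor
    · intro h t ht
      have h2 : x * t * x⁻¹ ∈ D := by rw [hD, H1.SZ.mem_conj_smul]; simpa [mul_assoc] using ht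
      have h3 := h _ h2
      have h4 : x⁻¹ * (x * t * x⁻¹ * y) * x = x⁻¹ * (y * (x * t * x⁻¹)) * x := by rw [h3]
      calc t * (x⁻¹ * y * x) = x⁻¹ * (x * t * x⁻¹ * y) * x := by group
        _ = x⁻¹ * (y * (x * t * x⁻¹)) * x := h4
        _ = x⁻¹ * y * x * t := by group
    · intro h t ht
      have h2 : x⁻¹ * t * x ∈ D₀ := by rw [hD, SetLike.mem_coe, H1.SZ.mem_conj_smul] at ht; exact ht
      have h3 := h _ h2
      have h4 : x * (x⁻¹ * t * x * (x⁻¹ * y * x)) * x⁻¹ = x * (x⁻¹ * y * x * (x⁻¹ * t * x)) * x⁻¹ := by rw [h3]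
      calc t * y = x * (x⁻¹ * t * x * (x⁻¹ * y * x)) * x⁻¹ := by group
        _ = x * (x⁻¹ * y * x * (x⁻¹ * t * x)) * x⁻¹ := h4
        _ = y * t := by group
  set g := x * g₀ * x⁻¹ with hg
  have hgc : g ∉ centralizer (D : Set G) := by
    rw [hcent, hg]
    simpa [mul_assoc] using hg₀c
  have hgo : (orderOf g).Coprime p := by
    have : g = MulAut.conj x g₀ := rfl
    rw [this, MulEquiv.orderOf_eq]
    exact hg₀o
  have hgN : g ∈ normalizer (D : Set G) := by
    apply H1.SZ.mem_normalizer_of_conj_smul_eq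
    rw [hD, ← H1.SZ.conj_mul_smul, hg]
    have : x * g₀ * x⁻¹ * x = x * g₀ := by group
    rw [this, H1.SZ.conj_mul_smul, H1.SZ.conj_smul_eq_of_mem_normalizer hg₀]
  -- `D` contains the part of `T` central in `M`
  have hZ : ∀ z ∈ (T : Subgroup G), (∀ c ∈ M, c * z = z * c) → z ∈ D := by
    intro z hz hzc
    have h1 : x⁻¹ * z * x ∈ D₀ := by
      have h2 : zpowers (x⁻¹ * z * x) ≤ D₀ := by
        apply hD₀
        · have h3 : IsPGroup p (zpowers z) := T.isPGroup'.to_le (by rw [zpowers_le]; exact hz)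
          have h4 : zpowers (x⁻¹ * z * x) = (zpowers z).map (MulAut.conj x⁻¹).toMonoidHom := by
            rw [MonoidHom.map_zpowers]; congr 1
            simp
          rw [h4]; exact h3.map _
        · rw [zpowers_le, ← hcent, mem_centralizer_iff]
          intro t ht
          exact hzc t (hTM (hDT ht))
      exact h2 (mem_zpowers _)
    rw [hD, H1.SZ.mem_conj_smul]; exact h1
  have hMD : M ≤ normalizer (D : Set G) := by
    intro m hm
    rw [Subgroup.mem_normalizer_iff_map_conj_eq]
    apply Subgroup.eq_of_le_of_card_ge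
    · rintro _ ⟨d, hd, rfl⟩
      show m * d * m⁻¹ ∈ D
      have h1 : m * d * m⁻¹ = (m * d * m⁻¹ * d⁻¹) * d := by group
      rw [h1]
      refine mul_mem (hZ _ ?_ ?_) hd
      · exact mul_mem ((mem_normalizer_iff.mp (hMT hm) d).mp (hDT hd)) (inv_mem (hDT hd))
      · exact hcl m hm d (hTM (hDT hd))
    · exact (Subgroup.card_map_of_injective (MulAut.conj m).injective).ge
  have hDne : D ≠ ⊥ := by
    intro hb
    apply hgc
    rw [hb, mem_centralizer_iff]
    intro t ht
    rw [SetLike.mem_coe, mem_bot] at ht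
    rw [ht, one_mul, mul_one]
  have hN := normalizer_eq hmax hcore (hDT.trans hTM) hDne hMD
  have hgM : g ∈ M := by rw [← hN]; exact hgN
  -- conclude in `M`
  have hDM : D ≤ M := hDT.trans hTM
  have h1 := H2.Frobenius.local_of_hasNPC hMnpc (D.subgroupOf M) ((T.isPGroup'.to_le hDT).comap_subtype) ⟨g, hgM⟩
    (by
      rw [mem_normalizer_iff]
      intro y
      rw [mem_subgroupOf, mem_subgroupOf]
      exact mem_normalizer_iff.mp hgN y) (by rw [Subgroup.orderOf_mk]; exact hgo)
  apply hgc
  rw [mem_centralizer_iff] at h1 ⊢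
  intro d hd
  exact congrArg Subtype.val (h1 ⟨d, hDM hd⟩ hd)

end max

theorem main4040 (n : ℕ) : ∀ (G : Type u) [Group G] [Finite G], Nat.card G = n → ∀ M : Subgroup G, IsCoatom M →
    Group.IsNilpotent M → Odd (Nat.card M) → Group.IsSolvable G := by
  induction n using Nat.strong_induction_on with
  | _ n ih =>
  intro G _ _ hn M hmax hnil hodd
  by_cases hcore : ∀ X : Subgroup G, X.Normal → X ≤ M → X = ⊥
  · refine solvable_of_npc M hmax hnil fun p hp hpM => ?_
    haveI : Fact p.Prime := ⟨hp⟩
    refine npc_odd hmax hnil hcore ?_ hpM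
    rintro rfl
    exact (Nat.not_even_iff_odd.mpr hodd) (even_iff_two_dvd.mpr hpM)
  · push Not at hcore
    obtain ⟨X, hXn, hXM, hX⟩ := hcore
    have hXs : Group.IsSolvable X := by
      have h1 : Group.IsSolvable M := inferInstance
      exact Group.isSolvable_of_isSolvable_injective (Subgroup.inclusion_injective hXM)
    have hXc : 1 < Nat.card X := by
      rw [Finite.one_lt_card_iff_nontrivial]; exact (Subgroup.nontrivial_iff_ne_bot _).mpr hX
    have hquo : Group.IsSolvable (G ⧸ X) := by
      refine ih (Nat.card (G ⧸ X)) ?_ (G ⧸ X) rfl (M.map (QuotientGroup.mk' X)) ?_ ?_ ?_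
      · rw [← hn, ← Subgroup.card_mul_index X]
        have h1 : Nat.card (G ⧸ X) = X.index := rfl
        have h2 : 0 < X.index := Nat.pos_of_ne_zero Subgroup.index_ne_zero_of_finite
        rw [h1]
        nlinarith
      · constructor
        · intro h
          apply hmax.1
          have h1 := congrArg (Subgroup.comap (QuotientGroup.mk' X)) h
          rwa [QuotientGroup.comap_map_mk', sup_eq_right.mpr hXM, Subgroup.comap_top] at h1
        · intro Y hY
          have h1 : M < Y.comap (QuotientGroup.mk' X) := by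
            have h2 : (M.map (QuotientGroup.mk' X)).comap (QuotientGroup.mk' X) = M := by
              rw [QuotientGroup.comap_map_mk', sup_eq_right.mpr hXM]
            rw [← h2]
            exact (Subgroup.comap_lt_comap_of_surjective (QuotientGroup.mk'_surjective X)).mpr hY
          have h3 := hmax.2 _ h1
          have h4 := congrArg (Subgroup.map (QuotientGroup.mk' X)) h3
          rw [Subgroup.map_comap_eq_self_of_surjective (QuotientGroup.mk'_surjective X)] at h4
          rw [h4, ← MonoidHom.range_eq_map, MonoidHom.range_eq_top]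
          exact QuotientGroup.mk'_surjective X
      · exact Group.nilpotent_of_surjective ((QuotientGroup.mk' X).subgroupMap M)
          ((QuotientGroup.mk' X).subgroupMap_surjective M)
      · exact Odd.of_dvd_nat hodd (Subgroup.card_map_dvd _ _)
    exact Group.isSolvable_of_ker_le_range X.subtype (QuotientGroup.mk' X)
      (by rw [QuotientGroup.ker_mk', Subgroup.range_subtype])

/-- the commutator condition for class at most two -/
def Cl2 (M : Subgroup G) : Prop :=
  ∀ a ∈ M, ∀ b ∈ M, ∀ c ∈ M, c * (a * b * a⁻¹ * b⁻¹) = (a * b * a⁻¹ * b⁻¹) * c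

theorem main4039 (n : ℕ) : ∀ (G : Type u) [Group G] [Finite G], Nat.card G = n → ∀ M : Subgroup G, IsCoatom M →
    Group.IsNilpotent M → Cl2 M → Group.IsSolvable G := by
  induction n using Nat.strong_induction_on with
  | _ n ih =>
  intro G _ _ hn M hmax hnil hcl
  by_cases hcore : ∀ X : Subgroup G, X.Normal → X ≤ M → X = ⊥
  · refine solvable_of_npc M hmax hnil fun p hp hpM => ?_
    haveI : Fact p.Prime := ⟨hp⟩
    exact npc_class_two hmax hnil hcore hcl hpM
  · push Not at hcore
    obtain ⟨X, hXn, hXM, hX⟩ := hcore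
    have hXs : Group.IsSolvable X := by
      have h1 : Group.IsSolvable M := inferInstance
      exact Group.isSolvable_of_isSolvable_injective (Subgroup.inclusion_injective hXM)
    have hXc : 1 < Nat.card X := by
      rw [Finite.one_lt_card_iff_nontrivial]; exact (Subgroup.nontrivial_iff_ne_bot _).mpr hX
    have hquo : Group.IsSolvable (G ⧸ X) := by
      refine ih (Nat.card (G ⧸ X)) ?_ (G ⧸ X) rfl (M.map (QuotientGroup.mk' X)) ?_ ?_ ?_
      · rw [← hn, ← Subgroup.card_mul_index X]
        have h1 : Nat.card (G ⧸ X) = X.index := rfl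
        have h2 : 0 < X.index := Nat.pos_of_ne_zero Subgroup.index_ne_zero_of_finite
        rw [h1]
        nlinarith
      · constructor
        · intro h
          apply hmax.1
          have h1 := congrArg (Subgroup.comap (QuotientGroup.mk' X)) h
          rwa [QuotientGroup.comap_map_mk', sup_eq_right.mpr hXM, Subgroup.comap_top] at h1
        · intro Y hY
          have h1 : M < Y.comap (QuotientGroup.mk' X) := by
            have h2 : (M.map (QuotientGroup.mk' X)).comap (QuotientGroup.mk' X) = M := by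
              rw [QuotientGroup.comap_map_mk', sup_eq_right.mpr hXM]
            rw [← h2]
            exact (Subgroup.comap_lt_comap_of_surjective (QuotientGroup.mk'_surjective X)).mpr hY
          have h3 := hmax.2 _ h1
          have h4 := congrArg (Subgroup.map (QuotientGroup.mk' X)) h3
          rw [Subgroup.map_comap_eq_self_of_surjective (QuotientGroup.mk'_surjective X)] at h4
          rw [h4, ← MonoidHom.range_eq_map, MonoidHom.range_eq_top]
          exact QuotientGroup.mk'_surjective X
      · exact Group.nilpotent_of_surjective ((QuotientGroup.mk' X).subgroupMap M)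
          ((QuotientGroup.mk' X).subgroupMap_surjective M)
      · rintro _ ⟨a, ha, rfl⟩ _ ⟨b, hb, rfl⟩ _ ⟨c, hc, rfl⟩
        simp only [← map_mul, ← map_inv]
        rw [hcl a ha b hb c hc]
    exact Group.isSolvable_of_ker_le_range X.subtype (QuotientGroup.mk' X)
      (by rw [QuotientGroup.ker_mk', Subgroup.range_subtype])

/-- nilpotency class at most two gives `Cl2` -/
theorem cl2_of_class (M : Subgroup G) (hnil : Group.IsNilpotent M) (hcl : Group.nilpotencyClass M ≤ 2) : Cl2 M := by
  intro a ha b hb c hc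
  have h1 := H70.ClassTwo.commutator_mem_center hcl (⟨a, ha⟩ : M) ⟨b, hb⟩
  exact congrArg Subtype.val (mem_center_iff.mp h1 ⟨c, hc⟩)

end H70.NilMax
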