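import Mathlib
import Cfsg.Agent.Lib.H70.Real
import Cfsg.Agent.Lib.H70.Basic

/-! A finite group is not covered by the conjugates of a proper subgroup; Sylow subgroups of centralizers. -/

set_option autoImplicit false

namespace H70.Cover

open Subgroup

/-- a finite group is not the union of the conjugates of a proper subgroup -/
theorem eq_top_of_cover {G : Type*} [Group G] [Finite G] (M : Subgroup G)
    (h : ∀ x : G, ∃ g : G, g⁻¹ * x * g ∈ M) : M = ⊤ := by
  classical
  haveI : Fintype G := Fintype.ofFinite G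
  haveI : Fintype (G ⧸ M) := Fintype.ofFinite _
  haveI : Fintype (Quotient (MulAction.orbitRel G (G ⧸ M))) := Fintype.ofFinite _
  have hb := MulAction.sum_card_fixedBy_eq_card_orbits_mul_card_group G (G ⧸ M)
  have h1 : Fintype.card (Quotient (MulAction.orbitRel G (G ⧸ M))) = 1 := by
    rw [Fintype.card_eq_one_iff]
    refine ⟨Quotient.mk'' (QuotientGroup.mk 1), ?_⟩
    intro y
    induction y using Quotient.inductionOn' with
    | h a =>
      apply Quotient.sound'
      change a ∈ MulAction.orbit G _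
      exact MulAction.exists_smul_eq G _ a
  rw [h1, one_mul] at hb
  have h2 : ∀ x : G, 1 ≤ Fintype.card (MulAction.fixedBy (G ⧸ M) x) := by
    intro x
    obtain ⟨g, hg⟩ := h x
    apply Fintype.card_pos_iff.mpr
    refine ⟨⟨QuotientGroup.mk g, ?_⟩⟩
    rw [MulAction.mem_fixedBy]
    change QuotientGroup.mk (x * g) = (QuotientGroup.mk g : G ⧸ M)
    rw [eq_comm, QuotientGroup.eq]
    rwa [mul_assoc] at hg
  have h3 : ∀ x ∈ (Finset.univ : Finset G), 1 = Fintype.card (MulAction.fixedBy (G ⧸ M) x) := by
    apply (Finset.sum_eq_sum_iff_of_le (fun x _ => h2 x)).mp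
    rw [hb]; simp
  have h4 := h3 1 (Finset.mem_univ _)
  have h5 : Fintype.card (MulAction.fixedBy (G ⧸ M) (1 : G)) = Fintype.card (G ⧸ M) := by
    apply Fintype.card_congr
    rw [MulAction.fixedBy_one_eq_univ]
    exact Equiv.Set.univ _
  rw [h5, ← Nat.card_eq_fintype_card, ← Subgroup.index_eq_card] at h4
  exact Subgroup.index_eq_one.mp h4.symm

/-- if `x` is a `p`-element of a subgroup `C` of index prime to `p`, some Sylow `p`-subgroup of `G`
contains `x` and is contained in `C` -/
theorem exists_sylow_between {G : Type*} [Group G] [Finite G] {p : ℕ} [Fact p.Prime]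
    (C : Subgroup G) (hC : ¬ p ∣ C.index) (X : Subgroup G) (hXC : X ≤ C) (hX : IsPGroup p X) :
    ∃ R : Sylow p G, X ≤ (R : Subgroup G) ∧ (R : Subgroup G) ≤ C := by
  have hX' : IsPGroup p (X.subgroupOf C) := hX.comap_subtype
  obtain ⟨R', hR'⟩ := hX'.exists_le_sylow
  have hRp : IsPGroup p ((R' : Subgroup C).map C.subtype) := R'.isPGroup'.map _
  have hRi : ¬ p ∣ ((R' : Subgroup C).map C.subtype).index := by
    rw [Subgroup.index_map_subtype]
    intro h
    rcases (Fact.out : p.Prime).dvd_mul.mp h with h | h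
    · exact R'.not_dvd_index h
    · exact hC h
  refine ⟨hRp.toSylow hRi, ?_, ?_⟩
  · rw [IsPGroup.toSylow_coe]
    intro x hx
    exact ⟨⟨x, hXC hx⟩, hR' hx, rfl⟩
  · rw [IsPGroup.toSylow_coe]
    exact map_subtype_le _

end H70.Cover
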