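import Cfsg.Agent.Lib.H69.IC0

/-! S1315, piece P2. -/

set_option autoImplicit false
set_option linter.unusedSectionVars false
set_option maxHeartbeats 1000000

open Subgroup Cfsg H26.LocalFitting H69.IC
open scoped commutatorElement Pointwise

universe u

namespace H70.IcP2

variable {G : Type u} [Group G] [Finite G]

theorem dich {M E : Subgroup G} {t : G} (hM : IsPComponent 2 M) (ht : t ∈ normalizer (M : Set G))
    (hEt : ∀ e ∈ E, e * t = t * e) (hE : E ≤ pLayer 2 G) (hbig : Big E (sq M)) :
    ⁅E, M⁆ ≤ pPrimeCore 2 G ∨ ∀ m ∈ M, t * m * t⁻¹ * m⁻¹ ∈ pPrimeCore 2 G := by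
  have : Fact (Nat.Prime 2) := ⟨Nat.prime_two⟩
  set O := pPrimeCore 2 G with hO
  set π : G →* G ⧸ O := QuotientGroup.mk' O with hπ
  have hπ1 : ∀ x : G, π x = 1 ↔ x ∈ O := fun x => QuotientGroup.eq_one_iff x
  set K := M.map π with hK
  have hKc : IsComponent K := hM.2.1
  set C := centralizer (K : Set (G ⧸ O)) with hC
  have hcomm : ∀ c ∈ C, ∀ m ∈ M, π m * c = c * π m := fun c hc m hm =>
    mem_centralizer_iff.mp hc (π m) (mem_map_of_mem π hm)
  have hmemC : ∀ c : G ⧸ O, (∀ m ∈ M, π m * c = c * π m) → c ∈ C := by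
    intro c hc
    rw [hC, mem_centralizer_iff]
    rintro _ ⟨m, hm, rfl⟩
    exact hc m hm
  -- (b)
  have hb : ∀ e : G, e ∈ E → ∃ m : G, m ∈ M ∧ (π m)⁻¹ * π e ∈ C := by
    intro e he
    have h1 : e ∈ ope 2 G := by
      rw [H26.PComponents.ope_eq]
      exact mem_sup_left (hE he)
    rw [ope_def, mem_comap] at h1
    have h2 : layer (G ⧸ O) ≤ K ⊔ C := by
      refine sSup_le fun L hL => ?_
      have hL' : IsComponent L := hL
      by_cases hLK : L = K
      · rw [hLK]; exact le_sup_left
      · refine le_trans ?_ le_sup_right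
        rw [hC, ← commutator_eq_bot_iff_le_centralizer]
        exact H26.Components.commutator_eq_bot_of_ne hL' hKc hLK
    have hCn : C ≤ normalizer (K : Set (G ⧸ O)) := by
      intro c hc
      rw [mem_normalizer_iff]
      intro y
      constructor
      · intro hy
        have := mem_centralizer_iff.mp hc y hy
        rw [← this, mul_inv_cancel_right]; exact hy
      · intro hy
        have h3 := mem_centralizer_iff.mp hc _ hy
        have h4 : c * y * c⁻¹ = y := by
          have h5 : c * y * c⁻¹ * c = c * (c * y * c⁻¹) := h3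
          rw [inv_mul_cancel_right] at h5
          have h6 := mul_left_cancel h5
          exact h6.symm
        rwa [h4] at hy
    obtain ⟨k, hk, c, hc, hkc⟩ := (H26.Basic.mem_sup_of_le_normalizer' hCn).mp (h2 h1)
    obtain ⟨m, hm, rfl⟩ := hk
    refine ⟨m, hm, ?_⟩
    have h7 : π e = π m * c := hkc.symm
    rw [h7, inv_mul_cancel_left]
    exact hc
  -- conjugation by `E` preserves `C`
  have hEC : ∀ e ∈ E, ∀ n ∈ C, π e * n * (π e)⁻¹ ∈ C := by
    intro e he n hn
    obtain ⟨m, hm, hc⟩ := hb e he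
    set c := (π m)⁻¹ * π e with hcdef
    have h1 : π e = π m * c := by rw [hcdef, mul_inv_cancel_left]
    have h2 : c * n * c⁻¹ ∈ C := C.mul_mem (C.mul_mem hc hn) (C.inv_mem hc)
    have h3 : π e * n * (π e)⁻¹ = c * n * c⁻¹ := by
      rw [h1]
      have h4 := hcomm _ h2 m hm
      calc π m * c * n * (π m * c)⁻¹ = π m * (c * n * c⁻¹) * (π m)⁻¹ := by group
        _ = c * n * c⁻¹ := by rw [h4, mul_inv_cancel_right]
    rw [h3]; exact h2
  -- the normal subgroup
  let N : Subgroup ↥E := C.comap (π.comp E.subtype)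
  have hN : ∀ e : ↥E, e ∈ N ↔ π (e : G) ∈ C := fun e => Iff.rfl
  have hNn : N.Normal := ⟨fun n hn g => by
    rw [hN] at hn ⊢
    have h1 := hEC g g.2 _ hn
    have h2 : π (((g * n * g⁻¹ : ↥E) : G)) = π (g : G) * π (n : G) * (π (g : G))⁻¹ := by
      simp only [Subgroup.coe_mul, Subgroup.coe_inv, map_mul, map_inv]
    rw [h2]; exact h1⟩
  by_cases hNt : N = ⊤
  · left
    rw [commutator_le]
    intro e he m hm
    have h1 : (⟨e, he⟩ : ↥E) ∈ N := by rw [hNt]; exact mem_top _
    have h2 := hcomm _ ((hN _).1 h1) m hm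
    rw [← hπ1, map_commutatorElement, commutatorElement_eq_one_iff_mul_comm]
    exact h2.symm
  · right
    have hcard := hbig N hNn hNt
    -- the target
    let Q := (↥M ⧸ pPrimeCore 2 ↥M) ⧸ center (↥M ⧸ pPrimeCore 2 ↥M)
    let q : ↥M → Q := fun m => QuotientGroup.mk (QuotientGroup.mk m)
    have hq : ∀ m m' : ↥M, q m = q m' → (π (m : G))⁻¹ * π (m' : G) ∈ C := by
      intro m m' hmm
      have h1 : (QuotientGroup.mk m : ↥M ⧸ pPrimeCore 2 ↥M)⁻¹ * QuotientGroup.mk m' ∈
          center (↥M ⧸ pPrimeCore 2 ↥M) := QuotientGroup.eq.1 hmm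
      rw [mem_center_iff] at h1
      refine hmemC _ (fun x hx => ?_)
      have h2 := h1 (QuotientGroup.mk ⟨x, hx⟩)
      have h3 : (QuotientGroup.mk (⟨x, hx⟩ * (m⁻¹ * m')) : ↥M ⧸ pPrimeCore 2 ↥M) =
          QuotientGroup.mk ((m⁻¹ * m') * ⟨x, hx⟩) := h2
      rw [QuotientGroup.eq] at h3
      have h4 : (((⟨x, hx⟩ * (m⁻¹ * m'))⁻¹ * ((m⁻¹ * m') * ⟨x, hx⟩) : ↥M) : G) ∈ O := by
        have h5 := mem_map_of_mem M.subtype h3
        rw [H26.Subnormal.map_subtype_pPrimeCore 2 hM.1] at h5
        exact h5.2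
      have h6 := (hπ1 _).2 h4
      simp only [Subgroup.coe_mul, Subgroup.coe_inv, map_mul, map_inv] at h6
      exact inv_mul_eq_one.1 h6
    choose! μ hμM hμC using hb
    have hfin : Finite Q := inferInstanceAs (Finite ((↥M ⧸ pPrimeCore 2 ↥M) ⧸ center (↥M ⧸ pPrimeCore 2 ↥M)))
    let F : (↥E ⧸ N) → Q := fun a => q ⟨μ (a.out : G), hμM _ a.out.2⟩
    have hFi : Function.Injective F := by
      intro a b hab
      have h1 := hq _ _ hab
      have h2 := hμC _ a.out.2
      have h3 := hμC _ b.out.2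
      have h4 : (π (a.out : G))⁻¹ * π (b.out : G) ∈ C := by
        have h5 := C.mul_mem (C.mul_mem (C.inv_mem h2) h1) h3
        have h6 : ((π (μ (a.out : G)))⁻¹ * π (a.out : G))⁻¹ * ((π (μ (a.out : G)))⁻¹ * π (μ (b.out : G))) *
            ((π (μ (b.out : G)))⁻¹ * π (b.out : G)) = (π (a.out : G))⁻¹ * π (b.out : G) := by group
        rwa [h6] at h5
      have h7 : a.out⁻¹ * b.out ∈ N := by
        rw [hN]
        simpa only [Subgroup.coe_mul, Subgroup.coe_inv, map_mul, map_inv] using h4
      have h8 := QuotientGroup.eq.2 h7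
      rwa [QuotientGroup.out_eq', QuotientGroup.out_eq'] at h8
    have hFb : Function.Bijective F := Function.Injective.bijective_of_nat_card_le hFi hcard
    -- every element of `M` is an element of `E` modulo `C`
    have hMe : ∀ m ∈ M, ∃ e ∈ E, ∃ c ∈ C, π m = π e * c := by
      intro m hm
      obtain ⟨a, ha⟩ := hFb.2 (q ⟨m, hm⟩)
      have h1 := hq _ _ ha
      have h2 := hμC _ a.out.2
      refine ⟨a.out, a.out.2, _, C.mul_mem (C.inv_mem h2) h1, ?_⟩
      group
    -- `t` normalizes
    have htK : ∀ m ∈ M, π t * π m * (π t)⁻¹ ∈ K := by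
      intro m hm
      have h1 := (mem_normalizer_iff.1 ht m).1 hm
      have h2 := mem_map_of_mem π h1
      simpa only [map_mul, map_inv] using h2
    have htK' : ∀ m ∈ M, ∃ m' ∈ M, π m = π t * π m' * (π t)⁻¹ := by
      intro m hm
      refine ⟨t⁻¹ * m * t, ?_, ?_⟩
      · rw [mem_normalizer_iff] at ht
        rw [ht]
        have : t * (t⁻¹ * m * t) * t⁻¹ = m := by group
        rw [this]; exact hm
      · simp only [map_mul, map_inv]; group
    have htC : ∀ c ∈ C, π t * c * (π t)⁻¹ ∈ C := by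
      intro c hc
      refine hmemC _ (fun m hm => ?_)
      obtain ⟨m', hm', h1⟩ := htK' m hm
      have h2 := hcomm c hc m' hm'
      rw [h1]
      calc π t * π m' * (π t)⁻¹ * (π t * c * (π t)⁻¹) = π t * (π m' * c) * (π t)⁻¹ := by group
        _ = π t * (c * π m') * (π t)⁻¹ := by rw [h2]
        _ = π t * c * (π t)⁻¹ * (π t * π m' * (π t)⁻¹) := by group
    -- `t` acts trivially modulo the centre
    have hz : ∀ m ∈ M, ∃ z ∈ C, π t * π m * (π t)⁻¹ = z * π m := by
      intro m hm
      obtain ⟨e, he, c, hc, h1⟩ := hMe m hm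
      refine ⟨π e * (π t * c * (π t)⁻¹ * c⁻¹) * (π e)⁻¹, hEC e he _ (C.mul_mem (htC c hc) (C.inv_mem hc)), ?_⟩
      have h2 : π t * π e = π e * π t := by rw [← map_mul, ← map_mul, hEt e he]
      rw [h1]
      calc π t * (π e * c) * (π t)⁻¹ = (π t * π e) * c * (π t)⁻¹ := by group
        _ = (π e * π t) * c * (π t)⁻¹ := by rw [h2]
        _ = π e * (π t * c * (π t)⁻¹ * c⁻¹) * (π e)⁻¹ * (π e * c) := by group
    -- perfectness
    have hKle : K ≤ centralizer ({π t} : Set (G ⧸ O)) := by
      have hperf : ⁅K, K⁆ = K := H26.Components.isPerfect hKc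
      rw [← hperf, commutator_le]
      rintro _ ⟨x, hx, rfl⟩ _ ⟨y, hy, rfl⟩
      rw [mem_centralizer_singleton_iff]
      obtain ⟨z, hz1, hz2⟩ := hz x hx
      obtain ⟨w, hw1, hw2⟩ := hz y hy
      -- z and w lie in K
      have hzK : z ∈ K := by
        have h1 : z = π t * π x * (π t)⁻¹ * (π x)⁻¹ := by rw [hz2, mul_inv_cancel_right]
        rw [h1]; exact K.mul_mem (htK x hx) (K.inv_mem (mem_map_of_mem π hx))
      have hwK : w ∈ K := by
        have h1 : w = π t * π y * (π t)⁻¹ * (π y)⁻¹ := by rw [hw2, mul_inv_cancel_right]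
        rw [h1]; exact K.mul_mem (htK y hy) (K.inv_mem (mem_map_of_mem π hy))
      have c1 : ∀ v ∈ K, v * z = z * v := fun v hv => mem_centralizer_iff.mp hz1 v hv
      have c2 : ∀ v ∈ K, v * w = w * v := fun v hv => mem_centralizer_iff.mp hw1 v hv
      have hxK : π x ∈ K := mem_map_of_mem π hx
      have hyK : π y ∈ K := mem_map_of_mem π hy
      have key : π t * ⁅π x, π y⁆ * (π t)⁻¹ = ⁅π x, π y⁆ := by
        have e1 : π t * ⁅π x, π y⁆ * (π t)⁻¹ = ⁅π t * π x * (π t)⁻¹, π t * π y * (π t)⁻¹⁆ := by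
          simp only [commutatorElement_def]; group
        rw [e1, hz2, hw2, commutatorElement_def, commutatorElement_def]
        have f1 : z * π x * (w * π y) = π x * π y * (z * w) := by
          calc z * π x * (w * π y) = (z * π x) * w * π y := by group
            _ = (π x * z) * w * π y := by rw [c1 _ hxK]
            _ = π x * (z * w * π y) := by group
            _ = π x * (π y * (z * w)) := by
                rw [← (show π y * (z * w) = z * w * π y by
                  rw [← mul_assoc, c1 _ hyK, mul_assoc, c2 _ hyK, mul_assoc])]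
            _ = π x * π y * (z * w) := by group
        have f2 : (z * π x)⁻¹ * (w * π y)⁻¹ = (z * w)⁻¹ * ((π x)⁻¹ * (π y)⁻¹) := by
          have f3 : w * π y * (z * π x) = π y * π x * (z * w) := by
            calc w * π y * (z * π x) = (w * π y) * z * π x := by group
              _ = (π y * w) * z * π x := by rw [c2 _ hyK]
              _ = π y * (w * z) * π x := by group
              _ = π y * (z * w) * π x := by rw [c1 _ hwK]
              _ = π y * ((z * w) * π x) := by group
              _ = π y * (π x * (z * w)) := by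
                  rw [← (show π x * (z * w) = z * w * π x by
                    rw [← mul_assoc, c1 _ hxK, mul_assoc, c2 _ hxK, mul_assoc])]
              _ = π y * π x * (z * w) := by group
          have f4 : (z * π x)⁻¹ * (w * π y)⁻¹ = (w * π y * (z * π x))⁻¹ := by rw [mul_inv_rev (w * π y)]
          rw [f4, f3]; group
        calc z * π x * (w * π y) * (z * π x)⁻¹ * (w * π y)⁻¹
            = (z * π x * (w * π y)) * ((z * π x)⁻¹ * (w * π y)⁻¹) := by group
          _ = π x * π y * (z * w) * ((z * w)⁻¹ * ((π x)⁻¹ * (π y)⁻¹)) := by rw [f1, f2]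
          _ = π x * π y * (π x)⁻¹ * (π y)⁻¹ := by group
      have h9 : π t * ⁅π x, π y⁆ = ⁅π x, π y⁆ * π t := by
        have := congrArg (fun v => v * π t) key
        simpa only [inv_mul_cancel_right] using this
      exact h9.symm
    intro m hm
    rw [← hπ1]
    have h1 := mem_centralizer_singleton_iff.1 (hKle (mem_map_of_mem π hm))
    simp only [map_mul, map_inv]
    rw [← h1, mul_inv_cancel_right, mul_inv_cancel]

end H70.IcP2
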