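import Mathlib
import Cfsg.Agent.Lib.H70.SylowSub
import Cfsg.Agent.Lib.H1.Solv

/-!
Groups in which centralizers of noncentral `p`-regular elements have central `p`-regular part:
basic facts.
-/

set_option autoImplicit false

namespace H70.RegT

open Subgroup
open scoped Pointwise commutatorElement

variable {G : Type*} [Group G]

/-- `q`-elements of the center of the centralizer of `x` -/
def T (q : ℕ) (x : G) : Subgroup G where
  carrier := {y | (∃ k : ℕ, y ^ (q ^ k) = 1) ∧ ∀ g, Commute x g → Commute y g}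
  one_mem' := ⟨⟨0, one_pow _⟩, fun g _ => Commute.one_left g⟩
  mul_mem' := by
    rintro a b ⟨⟨k, hk⟩, ha⟩ ⟨⟨l, hl⟩, hb⟩
    have hab : Commute a b := ha b (hb x (Commute.refl x)).symm
    refine ⟨⟨k + l, ?_⟩, fun g hg => (ha g hg).mul_left (hb g hg)⟩
    rw [hab.mul_pow, pow_add, pow_mul, hk, one_pow, mul_comm (q ^ k), pow_mul, hl, one_pow, one_mul]
  inv_mem' := by
    rintro a ⟨⟨k, hk⟩, ha⟩
    exact ⟨⟨k, by rw [inv_pow, hk, inv_one]⟩, fun g hg => (ha g hg).inv_left⟩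

theorem mem_T {q : ℕ} {x y : G} : y ∈ T q x ↔ (∃ k : ℕ, y ^ (q ^ k) = 1) ∧ ∀ g, Commute x g → Commute y g :=
  Iff.rfl

/-- `p`-regular elements of the center of the centralizer of `x` -/
def Hs (p : ℕ) (x : G) : Subgroup G where
  carrier := {y | (orderOf y).Coprime p ∧ ∀ g, Commute x g → Commute y g}
  one_mem' := ⟨by simp, fun g _ => Commute.one_left g⟩
  mul_mem' := by
    rintro a b ⟨hk, ha⟩ ⟨hl, hb⟩
    have hab : Commute a b := ha b (hb x (Commute.refl x)).symm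
    refine ⟨?_, fun g hg => (ha g hg).mul_left (hb g hg)⟩
    exact Nat.Coprime.coprime_dvd_left hab.orderOf_mul_dvd_mul_orderOf (Nat.Coprime.mul_left hk hl)
  inv_mem' := by
    rintro a ⟨hk, ha⟩
    exact ⟨by rwa [orderOf_inv], fun g hg => (ha g hg).inv_left⟩

theorem mem_Hs {p : ℕ} {x y : G} : y ∈ Hs p x ↔ (orderOf y).Coprime p ∧ ∀ g, Commute x g → Commute y g :=
  Iff.rfl

theorem commute_conj {x y g : G} (h : Commute x y) : Commute (g * x * g⁻¹) (g * y * g⁻¹) := by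
  unfold Commute SemiconjBy at *
  calc g * x * g⁻¹ * (g * y * g⁻¹) = g * (x * y) * g⁻¹ := by group
    _ = g * (y * x) * g⁻¹ := by rw [h]
    _ = g * y * g⁻¹ * (g * x * g⁻¹) := by group

theorem commute_conj_iff {x y g : G} : Commute (g * x * g⁻¹) (g * y * g⁻¹) ↔ Commute x y := by
  refine ⟨fun h => ?_, commute_conj⟩
  have := commute_conj (g := g⁻¹) h
  simpa [mul_assoc] using this

theorem orderOf_conj' (x g : G) : orderOf (g * x * g⁻¹) = orderOf x := by
  have := orderOf_injective (MulAut.conj g).toMonoidHom (MulAut.conj g).injective x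
  simpa using this

theorem coprime_conj {p : ℕ} {x : G} (g : G) (h : (orderOf x).Coprime p) :
    (orderOf (g * x * g⁻¹)).Coprime p := by rwa [orderOf_conj']

theorem conj_not_mem_center {x : G} (g : G) (h : x ∉ center G) : g * x * g⁻¹ ∉ center G := by
  intro h'
  apply h
  have := (inferInstance : (center G).Normal).conj_mem _ h' g⁻¹
  simpa [mul_assoc] using this

theorem mem_center_of_forall {x : G} (h : ∀ g, Commute x g) : x ∈ center G :=
  mem_center_iff.mpr fun g => (h g).eq.symm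

theorem commute_of_center {x : G} (h : x ∈ center G) (g : G) : Commute x g :=
  (mem_center_iff.mp h g).symm

/-- the basic hypothesis -/
def HA (p : ℕ) (G : Type*) [Group G] : Prop :=
  ∀ x : G, (orderOf x).Coprime p → x ∉ center G → ∀ y : G, (orderOf y).Coprime p →
    Commute x y → ∀ g, Commute x g → Commute y g

theorem HA.trans {p : ℕ} (h : HA p G) {x y g : G} (hx : (orderOf x).Coprime p)
    (hy : (orderOf y).Coprime p) (hyc : y ∉ center G) (hxy : Commute x y) (hyg : Commute y g) :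
    Commute x g := h y hy hyc x hx hxy.symm g hyg

theorem HA.cent_eq {p : ℕ} (h : HA p G) {x y : G} (hx : (orderOf x).Coprime p)
    (hxc : x ∉ center G) (hy : (orderOf y).Coprime p) (hyc : y ∉ center G) (hxy : Commute x y) (g : G) :
    Commute x g ↔ Commute y g :=
  ⟨fun h1 => h.trans hy hx hxc hxy.symm h1, fun h1 => h.trans hx hy hyc hxy h1⟩

theorem coprime_of_pow {p q : ℕ} (hp : p.Prime) (hq : q.Prime) (hqp : q ≠ p) {y : G} {k : ℕ}
    (h : y ^ (q ^ k) = 1) : (orderOf y).Coprime p := by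
  have h1 : orderOf y ∣ q ^ k := orderOf_dvd_of_pow_eq_one h
  exact Nat.Coprime.coprime_dvd_left h1 (Nat.Coprime.pow_left k ((Nat.coprime_primes hq hp).mpr hqp))

theorem HA.mem_T {p q : ℕ} (h : HA p G) (hp : p.Prime) (hq : q.Prime) (hqp : q ≠ p) {x y : G}
    (hx : (orderOf x).Coprime p) (hxc : x ∉ center G) :
    y ∈ T q x ↔ (∃ k : ℕ, y ^ (q ^ k) = 1) ∧ Commute x y := by
  constructor
  · rintro ⟨h1, h2⟩
    exact ⟨h1, (h2 x (Commute.refl x)).symm⟩
  · rintro ⟨⟨k, hk⟩, h2⟩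
    exact ⟨⟨k, hk⟩, fun g hg => h x hx hxc y (coprime_of_pow hp hq hqp hk) h2 g hg⟩

theorem HA.mem_Hs {p : ℕ} (h : HA p G) {x y : G} (hx : (orderOf x).Coprime p) (hxc : x ∉ center G) :
    y ∈ Hs p x ↔ (orderOf y).Coprime p ∧ Commute x y := by
  constructor
  · rintro ⟨h1, h2⟩
    exact ⟨h1, (h2 x (Commute.refl x)).symm⟩
  · rintro ⟨h1, h2⟩
    exact ⟨h1, fun g hg => h x hx hxc y h1 h2 g hg⟩

theorem isPGroup_T {q : ℕ} (x : G) : IsPGroup q (T q x) := by
  rintro ⟨y, ⟨k, hk⟩, -⟩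
  exact ⟨k, Subtype.ext hk⟩

theorem T_one_le {q : ℕ} (x : G) : T q (1 : G) ≤ T q x := by
  rintro y ⟨h1, h2⟩
  exact ⟨h1, fun g _ => h2 g (Commute.one_left g)⟩

theorem mem_T_one {q : ℕ} {y : G} : y ∈ T q (1 : G) ↔ (∃ k : ℕ, y ^ (q ^ k) = 1) ∧ y ∈ center G := by
  constructor
  · rintro ⟨h1, h2⟩
    exact ⟨h1, mem_center_of_forall fun g => h2 g (Commute.one_left g)⟩
  · rintro ⟨h1, h2⟩
    exact ⟨h1, fun g _ => commute_of_center h2 g⟩

theorem isPGroup_iff_pow {q : ℕ} (P : Subgroup G) : IsPGroup q P ↔ ∀ y ∈ P, ∃ k : ℕ, y ^ (q ^ k) = 1 := by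
  constructor
  · intro h y hy
    obtain ⟨k, hk⟩ := h ⟨y, hy⟩
    exact ⟨k, congrArg Subtype.val hk⟩
  · rintro h ⟨y, hy⟩
    obtain ⟨k, hk⟩ := h y hy
    exact ⟨k, Subtype.ext hk⟩

variable [Finite G]

theorem HA.card_T {p q : ℕ} (h : HA p G) (hp : p.Prime) (hq : q.Prime) (hqp : q ≠ p) {x : G}
    (hx : (orderOf x).Coprime p) (hxc : x ∉ center G) :
    Nat.card (T q x) = q ^ (Nat.card (centralizer ({x} : Set G))).factorization q := by
  haveI : Fact q.Prime := ⟨hq⟩
  set C := centralizer ({x} : Set G) with hC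
  obtain ⟨S⟩ : Nonempty (Sylow q C) := inferInstance
  have hS : Nat.card S = q ^ (Nat.card C).factorization q := Sylow.card_eq_multiplicity S
  rw [← hS]
  have h1 : (S : Subgroup C).map C.subtype ≤ T q x := by
    rintro _ ⟨y, hy, rfl⟩
    rw [h.mem_T hp hq hqp hx hxc]
    obtain ⟨k, hk⟩ := S.2 ⟨y, hy⟩
    refine ⟨⟨k, ?_⟩, ?_⟩
    · have := congrArg (fun z : (S : Subgroup C) => ((z : C) : G)) hk
      simpa using this
    · have := mem_centralizer_singleton_iff.mp y.2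
      exact this.symm
  have h2 : T q x ≤ C := by
    intro y hy
    rw [h.mem_T hp hq hqp hx hxc] at hy
    exact mem_centralizer_singleton_iff.mpr hy.2.eq.symm
  have h3 : (S : Subgroup C) ≤ (T q x).subgroupOf C := by
    intro y hy
    exact h1 ⟨y, hy, rfl⟩
  have h4 : IsPGroup q ((T q x).subgroupOf C) := (isPGroup_T x).comap_subtype
  have h5 : (T q x).subgroupOf C = (S : Subgroup C) := S.3 h4 h3
  have h6 : Nat.card (T q x) = Nat.card ((T q x).subgroupOf C) :=
    (Nat.card_congr (subgroupOfEquivOfLe h2).toEquiv).symm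
  rw [h6, h5]

/-- equal orders of the `p'`-parts of the centralizers -/
def HB (p : ℕ) (G : Type*) [Group G] : Prop :=
  ∀ x y : G, (orderOf x).Coprime p → x ∉ center G → (orderOf y).Coprime p → y ∉ center G →
    ∀ q : ℕ, q.Prime → q ≠ p → (Nat.card (centralizer ({x} : Set G))).factorization q =
      (Nat.card (centralizer ({y} : Set G))).factorization q

theorem card_T_eq {p q : ℕ} (hA : HA p G) (hB : HB p G) (hp : p.Prime) (hq : q.Prime) (hqp : q ≠ p) {x y : G}
    (hx : (orderOf x).Coprime p) (hxc : x ∉ center G) (hy : (orderOf y).Coprime p) (hyc : y ∉ center G) :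
    Nat.card (T q x) = Nat.card (T q y) := by
  rw [hA.card_T hp hq hqp hx hxc, hA.card_T hp hq hqp hy hyc, hB x y hx hxc hy hyc q hq hqp]

/-- there is a noncentral `q`-element -/
def NC (q : ℕ) (G : Type*) [Group G] : Prop := ∃ y : G, (∃ k : ℕ, y ^ (q ^ k) = 1) ∧ y ∉ center G

/-- S1 -/
theorem exists_mem_T {p q : ℕ} (hA : HA p G) (hB : HB p G) (hp : p.Prime) (hq : q.Prime) (hqp : q ≠ p)
    (hnc : NC q G) {x : G} (hx : (orderOf x).Coprime p) (hxc : x ∉ center G) :
    ∃ y ∈ T q x, y ∉ center G := by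
  obtain ⟨y0, ⟨k, hk⟩, hy0⟩ := hnc
  have hy0c := coprime_of_pow hp hq hqp hk
  by_contra hcon
  push Not at hcon
  have h1 : T q x = T q (1 : G) := by
    apply le_antisymm _ (T_one_le x)
    intro y hy
    exact mem_T_one.mpr ⟨hy.1, hcon y hy⟩
  have h2 : Nat.card (T q y0) = Nat.card (T q (1 : G)) := by
    rw [← h1]
    exact card_T_eq hA hB hp hq hqp hy0c hy0 hx hxc
  have h3 : T q (1 : G) = T q y0 := by
    apply Subgroup.eq_of_le_of_card_ge (T_one_le y0)
    rw [h2]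
  have h4 : y0 ∈ T q (1 : G) := by
    rw [h3]
    exact ⟨⟨k, hk⟩, fun g hg => hg⟩
  exact hy0 (mem_T_one.mp h4).2

theorem mem_normalizer_of_conj {H : Subgroup G} {g : G} (h : ∀ y ∈ H, g * y * g⁻¹ ∈ H) :
    g ∈ normalizer (H : Set G) := by
  have h1 : H.map (MulAut.conj g).toMonoidHom = H := by
    apply Subgroup.eq_of_le_of_card_ge
    · rintro _ ⟨y, hy, rfl⟩
      exact h y hy
    · rw [Subgroup.card_map_of_injective (MulAut.conj g).injective]
  rw [mem_normalizer_iff]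
  intro y
  refine ⟨h y, fun hy => ?_⟩
  rw [← h1] at hy
  obtain ⟨z, hz, hzy⟩ := hy
  simp only [MulEquiv.coe_toMonoidHom, MulAut.conj_apply] at hzy
  have : z = y := mul_left_cancel (mul_right_cancel hzy)
  exact this ▸ hz

theorem mem_normalizer_Hs {p : ℕ} (hA : HA p G) {x g : G} (hx : (orderOf x).Coprime p) (hxc : x ∉ center G) :
    g ∈ normalizer (Hs p x : Set G) ↔ Commute (g * x * g⁻¹) x := by
  constructor
  · intro hg
    have h1 : x ∈ Hs p x := (hA.mem_Hs hx hxc).mpr ⟨hx, Commute.refl x⟩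
    exact ((hA.mem_Hs hx hxc).mp ((mem_normalizer_iff.mp hg x).mp h1)).2.symm
  · intro h
    apply mem_normalizer_of_conj
    intro y hy
    rw [hA.mem_Hs hx hxc] at hy ⊢
    refine ⟨coprime_conj g hy.1, ?_⟩
    exact hA.trans hx (coprime_conj g hx) (conj_not_mem_center g hxc) h.symm (commute_conj hy.2)

/-- S2 -/
theorem exists_sylow_normalizer {p q : ℕ} (hA : HA p G) (hp : p.Prime) (hq : q.Prime) (hqp : q ≠ p)
    {x0 : G} (hx0 : (orderOf x0).Coprime p) (hx0c : x0 ∉ center G) [Fact q.Prime] (Q : Sylow q G) :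
    ∃ x : G, (orderOf x).Coprime p ∧ x ∉ center G ∧ ∀ g ∈ Q, Commute (g * x * g⁻¹) x := by
  by_cases hQ : (Q : Subgroup G) ≤ center G
  · refine ⟨x0, hx0, hx0c, fun g hg => ?_⟩
    have h1 : g * x0 * g⁻¹ = x0 := by
      rw [(commute_of_center (hQ hg) x0).eq]; group
    rw [h1]
  by_cases hZ : ∃ x ∈ (Q : Subgroup G), (∀ g ∈ Q, Commute g x) ∧ x ∉ center G
  · obtain ⟨x, hxQ, hxc, hxn⟩ := hZ
    obtain ⟨k, hk⟩ := (isPGroup_iff_pow (Q : Subgroup G)).mp Q.2 x hxQ
    refine ⟨x, coprime_of_pow hp hq hqp hk, hxn, fun g hg => ?_⟩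
    have h1 : g * x * g⁻¹ = x := by rw [(hxc g hg).eq]; group
    rw [h1]
  push Not at hZ
  -- `Z(Q) ≤ Z(G)`
  haveI : Group.IsNilpotent Q := Q.2.isNilpotent
  set Z := center Q with hZdef
  have hZne : Z ≠ ⊤ := by
    intro h
    apply hQ
    intro x hx
    apply hZ x hx
    intro g hg
    have : (⟨x, hx⟩ : Q) ∈ Z := by rw [h]; exact mem_top _
    have := mem_center_iff.mp this ⟨g, hg⟩
    exact congrArg Subtype.val this
  have hqQ : IsPGroup q (Q ⧸ Z) := Q.2.to_quotient Z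
  haveI : Nontrivial (Q ⧸ Z) := by
    rw [QuotientGroup.nontrivial_iff]
    exact hZne
  haveI := hqQ.center_nontrivial
  obtain ⟨⟨xb, hxb⟩, hxb1⟩ := exists_ne (1 : center (Q ⧸ Z))
  obtain ⟨x, rfl⟩ := QuotientGroup.mk_surjective xb
  have hxZ : x ∉ Z := by
    intro h
    apply hxb1
    apply Subtype.ext
    exact (QuotientGroup.eq_one_iff x).mpr h
  obtain ⟨k, hk⟩ := (isPGroup_iff_pow (Q : Subgroup G)).mp Q.2 x x.2
  have hxc : (x : G) ∉ center G := by
    intro h
    apply hxZ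
    rw [hZdef, mem_center_iff]
    intro g
    exact Subtype.ext (mem_center_iff.mp h g)
  refine ⟨x, coprime_of_pow hp hq hqp hk, hxc, fun g hg => ?_⟩
  have h1 : (QuotientGroup.mk (⟨g, hg⟩ * x * ⟨g, hg⟩⁻¹ * x⁻¹) : Q ⧸ Z) = 1 := by
    have := mem_center_iff.mp hxb (QuotientGroup.mk ⟨g, hg⟩)
    rw [QuotientGroup.mk_mul, QuotientGroup.mk_mul, QuotientGroup.mk_mul, QuotientGroup.mk_inv,
      QuotientGroup.mk_inv, this]
    group
  rw [QuotientGroup.eq_one_iff] at h1
  have h2 : g * x * g⁻¹ * (x : G)⁻¹ ∈ center G := by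
    apply hZ _ (⟨g, hg⟩ * x * ⟨g, hg⟩⁻¹ * x⁻¹ : Q).2
    intro g' hg'
    have := mem_center_iff.mp h1 ⟨g', hg'⟩
    exact congrArg Subtype.val this
  have h3 : g * x * g⁻¹ = (g * x * g⁻¹ * (x : G)⁻¹) * x := by group
  rw [h3]
  exact (commute_of_center h2 _).mul_left (Commute.refl _)

end H70.RegT
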