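import Mathlib
import Cfsg.Agent.Lib.H70.RegA

/-!
Groups in which centralizers of noncentral `p`-regular elements have central `p`-regular part:
the subgroups `Hs p x` form one conjugacy class.
-/

set_option autoImplicit false

namespace H70.RegT

open Subgroup
open scoped Pointwise commutatorElement

variable {G : Type*} [Group G]

theorem pow_conj_center {k y c : G} (hc : c ∈ center G) (h : k * y * k⁻¹ = y * c) (n : ℕ) :
    k ^ n * y * (k ^ n)⁻¹ = y * c ^ n := by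
  induction n with
  | zero => simp
  | succ n ih =>
    have h1 : Commute (c ^ n) (k⁻¹) := ((commute_of_center hc _).pow_left n)
    calc k ^ (n + 1) * y * (k ^ (n + 1))⁻¹ = k * (k ^ n * y * (k ^ n)⁻¹) * k⁻¹ := by
          rw [pow_succ']; group
      _ = k * y * (c ^ n * k⁻¹) := by rw [ih]; group
      _ = (k * y * k⁻¹) * c ^ n := by rw [h1.eq]; group
      _ = y * c ^ (n + 1) := by rw [h, pow_succ']; group

/-- coprime commutation modulo the center -/
theorem center_eq_one {q r : ℕ} (hqr : q.Coprime r) {k y c : G} (hc : c ∈ center G)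
    (h : k * y * k⁻¹ = y * c) {a b : ℕ} (hk : k ^ (q ^ a) = 1) (hcb : c ^ (r ^ b) = 1) : c = 1 := by
  have h1 := pow_conj_center hc h (q ^ a)
  rw [hk] at h1
  have h2 : c ^ (q ^ a) = 1 := by
    have : y = y * c ^ (q ^ a) := by simpa using h1
    exact (mul_eq_left.mp this.symm)
  have h3 : orderOf c ∣ q ^ a := orderOf_dvd_of_pow_eq_one h2
  have h4 : orderOf c ∣ r ^ b := orderOf_dvd_of_pow_eq_one hcb
  have h5 := Nat.eq_one_of_dvd_coprimes (Nat.Coprime.pow a b hqr) h3 h4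
  exact orderOf_eq_one_iff.mp h5

theorem commute_of_conj_eq {k y : G} (h : k * y * k⁻¹ = y) : Commute k y := by
  unfold Commute SemiconjBy
  calc k * y = k * y * k⁻¹ * k := by group
    _ = y * k := by rw [h]

variable [Finite G]

/-- the key inequality `m_q < h_r` -/
theorem card_lt {p q r : ℕ} (hA : HA p G) (hB : HB p G) (hp : p.Prime) (hq : q.Prime) (hr : r.Prime)
    (hqp : q ≠ p) (hrp : r ≠ p) (hqr : q ≠ r) (hnc : NC r G) [Fact q.Prime] (Q : Sylow q G) {x : G}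
    (hx : (orderOf x).Coprime p) (hxc : x ∉ center G) (hQ : ∀ g ∈ Q, Commute (g * x * g⁻¹) x) :
    Nat.card Q * Nat.card (T r (1 : G)) < Nat.card (T r x) * Nat.card (T q x) := by
  classical
  obtain ⟨y, hy, hyc⟩ := exists_mem_T hA hB hp hr hrp hnc hx hxc
  obtain ⟨⟨k, hk⟩, hxy⟩ := (hA.mem_T hp hr hrp hx hxc).mp hy
  have hyp : (orderOf y).Coprime p := coprime_of_pow hp hr hrp hk
  have hmem : ∀ g ∈ Q, g * y * g⁻¹ ∈ T r x := by
    intro g hg
    rw [hA.mem_T hp hr hrp hx hxc]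
    refine ⟨⟨k, by rw [conj_pow, hk]; group⟩, ?_⟩
    exact hA.trans hx (coprime_conj g hx) (conj_not_mem_center g hxc) (hQ g hg).symm (commute_conj hxy)
  -- choose a section
  have hex : ∀ v : T r x, ∃ s : Q, (∃ g : Q, ∃ z ∈ T r (1 : G), (v : G) = g * y * (g : G)⁻¹ * z) →
      ∃ z ∈ T r (1 : G), (v : G) = s * y * (s : G)⁻¹ * z := by
    intro v
    by_cases h : ∃ g : Q, ∃ z ∈ T r (1 : G), (v : G) = g * y * (g : G)⁻¹ * z
    · obtain ⟨g, hg⟩ := h
      exact ⟨g, fun _ => hg⟩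
    · exact ⟨1, fun h' => absurd h' h⟩
  choose s hs using hex
  have hT1 : ∀ z ∈ T r (1 : G), z ∈ T r x := fun z hz => T_one_le x hz
  let v : Q × T r (1 : G) → T r x := fun a =>
    ⟨a.1 * y * (a.1 : G)⁻¹ * a.2, mul_mem (hmem _ a.1.2) (hT1 _ a.2.2)⟩
  have hu : ∀ a : Q × T r (1 : G), (s (v a) : G)⁻¹ * a.1 ∈ T q y := by
    intro a
    obtain ⟨z', hz', hv⟩ := hs (v a) ⟨a.1, a.2, a.2.2, rfl⟩
    have hv' : (a.1 : G) * y * (a.1 : G)⁻¹ * a.2 = s (v a) * y * (s (v a) : G)⁻¹ * z' := hv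
    set σ := s (v a) with hσ
    have hz1 := (mem_T_one.mp hz').2
    have hz2 := (mem_T_one.mp a.2.2).2
    rw [hA.mem_T hp hq hqp hyp hyc]
    have hQp : ∃ j : ℕ, ((σ : G)⁻¹ * a.1) ^ (q ^ j) = 1 :=
      (isPGroup_iff_pow (Q : Subgroup G)).mp Q.2 _ (mul_mem (inv_mem σ.2) a.1.2)
    refine ⟨hQp, ?_⟩
    obtain ⟨j, hj⟩ := hQp
    have hc : z' * (a.2 : G)⁻¹ ∈ T r (1 : G) := mul_mem hz' (inv_mem a.2.2)
    obtain ⟨⟨l, hl⟩, hcc⟩ := mem_T_one.mp hc
    have h1 : ((σ : G)⁻¹ * a.1) * y * ((σ : G)⁻¹ * a.1)⁻¹ = y * (z' * (a.2 : G)⁻¹) := by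
      have h2 : (a.1 : G) * y * (a.1 : G)⁻¹ = s (v a) * y * (s (v a) : G)⁻¹ * z' * (a.2 : G)⁻¹ := by
        rw [← hv']; group
      calc ((σ : G)⁻¹ * a.1) * y * ((σ : G)⁻¹ * a.1)⁻¹
          = (σ : G)⁻¹ * ((a.1 : G) * y * (a.1 : G)⁻¹) * σ := by group
        _ = (σ : G)⁻¹ * (σ * y * (σ : G)⁻¹ * z' * (a.2 : G)⁻¹) * σ := by rw [h2]
        _ = y * ((σ : G)⁻¹ * (z' * (a.2 : G)⁻¹) * σ) := by group
        _ = y * (z' * (a.2 : G)⁻¹) := by
          congr 1
          rw [mul_assoc, (commute_of_center hcc (σ : G)).eq]; group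
    have h3 := center_eq_one ((Nat.coprime_primes hq hr).mpr hqr) hcc h1 hj hl
    rw [h3, mul_one] at h1
    exact (commute_of_conj_eq h1).symm
  let f : Q × T r (1 : G) → T r x × T q y := fun a => (v a, ⟨(s (v a) : G)⁻¹ * a.1, hu a⟩)
  have hinj : Function.Injective f := by
    intro a b hab
    have h1 : v a = v b := congrArg Prod.fst hab
    have h2 : (s (v a) : G)⁻¹ * a.1 = (s (v b) : G)⁻¹ * b.1 := congrArg (fun t => ((Prod.snd t : T q y) : G)) hab
    rw [h1] at h2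
    have h3 : a.1 = b.1 := Subtype.ext (mul_left_cancel h2)
    have h4 : (a.1 : G) * y * (a.1 : G)⁻¹ * a.2 = b.1 * y * (b.1 : G)⁻¹ * b.2 := congrArg Subtype.val h1
    rw [h3] at h4
    exact Prod.ext h3 (Subtype.ext (mul_left_cancel h4))
  have hnr : ((1 : T r x), (1 : T q y)) ∉ Set.range f := by
    rintro ⟨a, ha⟩
    have h1 : v a = 1 := congrArg Prod.fst ha
    have h2 : (a.1 : G) * y * (a.1 : G)⁻¹ * a.2 = 1 := congrArg Subtype.val h1
    apply conj_not_mem_center (a.1 : G) hyc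
    have h3 : (a.1 : G) * y * (a.1 : G)⁻¹ = (a.2 : G)⁻¹ := by
      rw [eq_inv_iff_mul_eq_one]; exact h2
    rw [h3]
    exact inv_mem (mem_T_one.mp a.2.2).2
  have hlt : Nat.card (Q × T r (1 : G)) < Nat.card (T r x × T q y) := by
    haveI : Fintype (Q × T r (1 : G)) := Fintype.ofFinite _
    haveI : Fintype (T r x × T q y) := Fintype.ofFinite _
    rw [Nat.card_eq_fintype_card, Nat.card_eq_fintype_card]
    exact Fintype.card_lt_of_injective_of_notMem f hinj hnr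
  rw [Nat.card_prod, Nat.card_prod] at hlt
  rwa [card_T_eq hA hB hp hq hqp hx hxc hyp hyc]

omit [Finite G] in
theorem mem_T_conj {q : ℕ} {x y : G} (h : G) : y ∈ T q (h * x * h⁻¹) → h⁻¹ * y * h ∈ T q x := by
  rintro ⟨⟨k, hk⟩, h2⟩
  refine ⟨⟨k, ?_⟩, fun g hg => ?_⟩
  · have : (h⁻¹ * y * h) ^ (q ^ k) = h⁻¹ * y ^ (q ^ k) * h := by
      have := conj_pow (a := h⁻¹) (b := y) (i := q ^ k)
      simpa using this
    rw [this, hk]; group
  · have := h2 (h * g * h⁻¹) (commute_conj hg)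
    have h3 := commute_conj (g := h⁻¹) this
    simpa [mul_assoc] using h3

/-- single class, from the star inequality -/
theorem exists_conj_commute_of_star {p q : ℕ} (hA : HA p G) (hB : HB p G) (hp : p.Prime) (hq : q.Prime)
    (hqp : q ≠ p) [Fact q.Prime] {x x' : G}
    (hx : (orderOf x).Coprime p) (hxc : x ∉ center G) (hx' : (orderOf x').Coprime p) (hxc' : x' ∉ center G)
    (hstar : ∀ Q : Sylow q G, Nat.card (T q (1 : G)) * Nat.card Q < Nat.card (T q x) * Nat.card (T q x)) :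
    ∃ g : G, Commute x (g * x' * g⁻¹) := by
  obtain ⟨Q1, hQ1⟩ := (isPGroup_T (q := q) x).exists_le_sylow
  obtain ⟨Q2, hQ2⟩ := (isPGroup_T (q := q) x').exists_le_sylow
  obtain ⟨h, hh⟩ := MulAction.exists_smul_eq G Q2 Q1
  have hle : T q (h * x' * h⁻¹) ≤ Q1 := by
    intro y hy
    have h1 := hQ2 (mem_T_conj h hy)
    rw [← hh, Sylow.coe_subgroup_smul]
    exact ⟨h⁻¹ * y * h, h1, by simp [mul_assoc]⟩
  set x'' := h * x' * h⁻¹ with hx''
  have hx''p : (orderOf x'').Coprime p := coprime_conj h hx'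
  have hx''c : x'' ∉ center G := conj_not_mem_center h hxc'
  by_contra hcon
  push Not at hcon
  have hinf : T q x ⊓ T q x'' ≤ T q (1 : G) := by
    intro w hw
    obtain ⟨hw1, hw2⟩ := mem_inf.mp hw
    obtain ⟨⟨k, hk⟩, hw3⟩ := (hA.mem_T hp hq hqp hx hxc).mp hw1
    obtain ⟨_, hw4⟩ := (hA.mem_T hp hq hqp hx''p hx''c).mp hw2
    refine mem_T_one.mpr ⟨⟨k, hk⟩, ?_⟩
    by_contra hwc
    exact hcon h (hA.trans hx (coprime_of_pow hp hq hqp hk) hwc hw3 hw4.symm)
  have h1 : (T q x'').relIndex (T q x) ≤ (T q x'').relIndex (Q1 : Subgroup G) :=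
    Subgroup.relIndex_le_of_le_right hQ1 (by
      rw [Subgroup.relIndex]; exact Subgroup.index_ne_zero_of_finite)
  have h2 : Nat.card (T q x'') * (T q x'').relIndex (Q1 : Subgroup G) = Nat.card Q1 := by
    have := Subgroup.relIndex_mul_relIndex (⊥ : Subgroup G) (T q x'') (Q1 : Subgroup G) bot_le hle
    rwa [Subgroup.relIndex_bot_left, Subgroup.relIndex_bot_left] at this
  have h3 : Nat.card ↥(T q x ⊓ T q x'') * (T q x'').relIndex (T q x) = Nat.card (T q x) := by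
    have := Subgroup.relIndex_mul_relIndex (⊥ : Subgroup G) (T q x ⊓ T q x'') (T q x) bot_le inf_le_left
    rw [Subgroup.relIndex_bot_left, Subgroup.relIndex_bot_left, Subgroup.inf_relIndex_left] at this
    exact this
  have h4 : Nat.card ↥(T q x ⊓ T q x'') ≤ Nat.card (T q (1 : G)) := Subgroup.card_le_of_le hinf
  have h5 : Nat.card (T q x'') = Nat.card (T q x) := card_T_eq hA hB hp hq hqp hx''p hx''c hx hxc
  have h6 := hstar Q1
  have h7 : Nat.card (T q x) * Nat.card (T q x) ≤ Nat.card (T q (1 : G)) * Nat.card Q1 := by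
    calc Nat.card (T q x) * Nat.card (T q x)
        = Nat.card ↥(T q x ⊓ T q x'') * (T q x'').relIndex (T q x) * Nat.card (T q x'') := by
          rw [h3, h5]
      _ ≤ Nat.card (T q (1 : G)) * (T q x'').relIndex (Q1 : Subgroup G) * Nat.card (T q x'') := by
          gcongr
      _ = Nat.card (T q (1 : G)) * Nat.card Q1 := by rw [← h2]; ring
  omega

/-- S4: single class -/
theorem exists_conj_commute {p q r : ℕ} (hA : HA p G) (hB : HB p G) (hp : p.Prime) (hq : q.Prime)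
    (hr : r.Prime) (hqp : q ≠ p) (hrp : r ≠ p) (hqr : q ≠ r) (hncq : NC q G) (hncr : NC r G) {x x' : G}
    (hx : (orderOf x).Coprime p) (hxc : x ∉ center G) (hx' : (orderOf x').Coprime p) (hxc' : x' ∉ center G) :
    ∃ g : G, Commute x (g * x' * g⁻¹) := by
  haveI : Fact q.Prime := ⟨hq⟩
  haveI : Fact r.Prime := ⟨hr⟩
  by_cases h1 : ∀ Q : Sylow q G, Nat.card (T q (1 : G)) * Nat.card Q < Nat.card (T q x) * Nat.card (T q x)
  · exact exists_conj_commute_of_star hA hB hp hq hqp hx hxc hx' hxc' h1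
  by_cases h2 : ∀ R : Sylow r G, Nat.card (T r (1 : G)) * Nat.card R < Nat.card (T r x) * Nat.card (T r x)
  · exact exists_conj_commute_of_star hA hB hp hr hrp hx hxc hx' hxc' h2
  exfalso
  push Not at h1 h2
  obtain ⟨Q, hQ⟩ := h1
  obtain ⟨R, hR⟩ := h2
  obtain ⟨x1, hx1, hx1c, hQ1⟩ := exists_sylow_normalizer hA hp hq hqp hx hxc Q
  obtain ⟨x2, hx2, hx2c, hR2⟩ := exists_sylow_normalizer hA hp hr hrp hx hxc R
  have h3 := card_lt hA hB hp hq hr hqp hrp hqr hncr Q hx1 hx1c hQ1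
  have h4 := card_lt hA hB hp hr hq hrp hqp hqr.symm hncq R hx2 hx2c hR2
  rw [card_T_eq hA hB hp hq hqp hx1 hx1c hx hxc, card_T_eq hA hB hp hr hrp hx1 hx1c hx hxc] at h3
  rw [card_T_eq hA hB hp hq hqp hx2 hx2c hx hxc, card_T_eq hA hB hp hr hrp hx2 hx2c hx hxc] at h4
  set a := Nat.card (T q x)
  set b := Nat.card (T r x)
  set c := Nat.card (T q (1 : G))
  set d := Nat.card (T r (1 : G))
  set e := Nat.card Q
  set f := Nat.card R
  have h5 : (a * a) * (b * b) ≤ (c * e) * (d * f) := Nat.mul_le_mul hQ hR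
  have h6 : (e * d) * (f * c) < (b * a) * (a * b) := Nat.mul_lt_mul'' h3 h4
  have h7 : (a * a) * (b * b) = (b * a) * (a * b) := by ring
  have h8 : (c * e) * (d * f) = (e * d) * (f * c) := by ring
  omega

/-- S5: the index of the normalizer is a power of `p` -/
theorem index_normalizer {p : ℕ} (hA : HA p G) (hp : p.Prime)
    (hcl : ∀ x x' : G, (orderOf x).Coprime p → x ∉ center G → (orderOf x').Coprime p → x' ∉ center G →
      ∃ g : G, Commute x (g * x' * g⁻¹)) {x : G}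
    (hx : (orderOf x).Coprime p) (hxc : x ∉ center G) :
    ∃ k : ℕ, (normalizer (Hs p x : Set G)).index = p ^ k := by
  refine ⟨_, Nat.eq_prime_pow_of_unique_prime_dvd Subgroup.index_ne_zero_of_finite ?_⟩
  intro q hq hqd
  by_contra hqp
  haveI : Fact q.Prime := ⟨hq⟩
  obtain ⟨Q⟩ : Nonempty (Sylow q G) := inferInstance
  obtain ⟨x1, hx1, hx1c, hQ1⟩ := exists_sylow_normalizer hA hp hq hqp hx hxc Q
  obtain ⟨g, hg⟩ := hcl x x1 hx hxc hx1 hx1c
  have hle : ((g • Q : Sylow q G) : Subgroup G) ≤ normalizer (Hs p x : Set G) := by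
    intro s hs
    rw [mem_normalizer_Hs hA hx hxc]
    rw [Sylow.coe_subgroup_smul] at hs
    obtain ⟨t, ht, rfl⟩ := hs
    have ht' : t ∈ Q := ht
    simp only [MulDistribMulAction.toMonoidEnd_apply, MulDistribMulAction.toMonoidHom_apply, MulAut.smul_def, MulAut.conj_apply]
    have h1 : Commute (g * (t * x1 * t⁻¹) * g⁻¹) (g * x1 * g⁻¹) := commute_conj (hQ1 t ht')
    have h2 : (g * t * g⁻¹) * (g * x1 * g⁻¹) * (g * t * g⁻¹)⁻¹ = g * (t * x1 * t⁻¹) * g⁻¹ := by group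
    have h3 : Commute ((g * t * g⁻¹) * x * (g * t * g⁻¹)⁻¹) ((g * t * g⁻¹) * (g * x1 * g⁻¹) * (g * t * g⁻¹)⁻¹) :=
      commute_conj hg
    have hx1p := coprime_conj g hx1
    have hx1c' := conj_not_mem_center g hx1c
    have h4 : Commute ((g * t * g⁻¹) * x * (g * t * g⁻¹)⁻¹) (g * x1 * g⁻¹) := by
      apply hA.trans (coprime_conj _ hx) (coprime_conj (g * t * g⁻¹) hx1p) (conj_not_mem_center _ hx1c') h3
      rw [h2]; exact h1
    exact hA.trans (coprime_conj _ hx) hx1p hx1c' h4 hg.symm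
  have h1 : (normalizer (Hs p x : Set G)).index ∣ ((g • Q : Sylow q G) : Subgroup G).index :=
    Subgroup.index_dvd_of_le hle
  exact (g • Q : Sylow q G).not_dvd_index (hqd.trans h1)

end H70.RegT
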