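import Mathlib
import Cfsg.Agent.Lib.H70.RegB
import Cfsg.Agent.Lib.H1.Cores
import Cfsg.Agent.S0200
import Cfsg.Agent.S0205

/-!
Groups in which centralizers of noncentral `p`-regular elements have central `p`-regular part:
the case `O_p(G) = 1`.
-/

set_option autoImplicit false

namespace H70.RegT

open Subgroup Cfsg
open scoped Pointwise commutatorElement

variable {G : Type*} [Group G]

/-- all hypotheses: a single class, two primes with noncentral elements, `O_p(G) = 1`, and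
some `C(x)` does not contain a Sylow `q`-subgroup, `q ≠ p` -/
structure Dat (p : ℕ) (G : Type*) [Group G] : Prop where
  hp : p.Prime
  hA : HA p G
  hB : HB p G
  hN : ∃ q r : ℕ, q.Prime ∧ r.Prime ∧ q ≠ p ∧ r ≠ p ∧ q ≠ r ∧ NC q G ∧ NC r G
  hD : ∃ q : ℕ, q.Prime ∧ q ≠ p ∧ ∃ x : G, (orderOf x).Coprime p ∧ x ∉ center G ∧
    (Nat.card (centralizer ({x} : Set G))).factorization q < (Nat.card G).factorization q
  hO : pCore p G = ⊥

variable {p : ℕ}

/-- noncentral `p`-regular elements -/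
def X (p : ℕ) (x : G) : Prop := (orderOf x).Coprime p ∧ x ∉ center G

theorem X.conj {x : G} (h : X p x) (g : G) : X p (g * x * g⁻¹) :=
  ⟨coprime_conj g h.1, conj_not_mem_center g h.2⟩

theorem Dat.trans (D : Dat p G) {x y g : G} (hx : X p x) (hy : X p y) (hxy : Commute x y) (hyg : Commute y g) :
    Commute x g := D.hA.trans hx.1 hy.1 hy.2 hxy hyg

variable [Finite G]

theorem Dat.cl (D : Dat p G) {x x' : G} (hx : X p x) (hx' : X p x') : ∃ g : G, Commute x (g * x' * g⁻¹) := by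
  obtain ⟨q, r, hq, hr, hqp, hrp, hqr, h1, h2⟩ := D.hN
  exact exists_conj_commute D.hA D.hB D.hp hq hr hqp hrp hqr h1 h2 hx.1 hx.2 hx'.1 hx'.2

/-- the Sylow `p`-subgroup of `C(x)` is normal in `C(x)` -/
theorem exists_pPart (hA : HA p G) (hp : p.Prime) {x : G} (hx : X p x) :
    ∃ P : Subgroup G, ∀ y, y ∈ P ↔ (∃ k : ℕ, y ^ (p ^ k) = 1) ∧ Commute x y := by
  haveI : Fact p.Prime := ⟨hp⟩
  set C := centralizer ({x} : Set G) with hC
  obtain ⟨S⟩ : Nonempty (Sylow p C) := inferInstance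
  set M := normalizer ((S : Subgroup C) : Set C) with hM
  have hMtop : M = ⊤ := by
    rw [← Subgroup.index_eq_one]
    by_contra hne
    obtain ⟨q, hq, hqd⟩ := Nat.exists_prime_and_dvd hne
    by_cases hqp : q = p
    · subst hqp
      exact S.not_dvd_index (hqd.trans (Subgroup.index_dvd_of_le le_normalizer))
    · haveI : Fact q.Prime := ⟨hq⟩
      have h1 : (T q x).subgroupOf C ≤ M := by
        apply le_trans _ (Subgroup.center_le_normalizer _)
        intro y hy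
        rw [mem_center_iff]
        intro g
        have h2 := (mem_T.mp (mem_subgroupOf.mp hy)).2 g (mem_centralizer_singleton_iff.mp g.2).symm
        exact Subtype.ext h2.eq.symm
      have h2 := hqd.trans (Subgroup.index_dvd_of_le h1)
      have h3 : T q x ≤ C := by
        intro y hy
        exact mem_centralizer_singleton_iff.mpr ((hA.mem_T hp hq hqp hx.1 hx.2).mp hy).2.eq.symm
      have h4 : Nat.card ((T q x).subgroupOf C) = q ^ (Nat.card C).factorization q := by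
        rw [Nat.card_congr (subgroupOfEquivOfLe h3).toEquiv, hA.card_T hp hq hqp hx.1 hx.2]
      have h5 := Subgroup.card_mul_index ((T q x).subgroupOf C)
      rw [h4] at h5
      have h6 : q ^ ((Nat.card C).factorization q + 1) ∣ Nat.card C := by
        have h7 : q ^ (Nat.card C).factorization q * q ∣ q ^ (Nat.card C).factorization q * ((T q x).subgroupOf C).index :=
          Nat.mul_dvd_mul_left _ h2
        rw [h5] at h7
        rwa [pow_succ]
      exact Nat.pow_succ_factorization_not_dvd Nat.card_pos.ne' hq h6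
  have hSn : (S : Subgroup C).Normal := Subgroup.normalizer_eq_top_iff.mp hMtop
  refine ⟨(S : Subgroup C).map C.subtype, fun y => ⟨?_, ?_⟩⟩
  · rintro ⟨z, hz, rfl⟩
    obtain ⟨k, hk⟩ := (isPGroup_iff_pow (S : Subgroup C)).mp S.2 z hz
    refine ⟨⟨k, ?_⟩, (mem_centralizer_singleton_iff.mp z.2).symm⟩
    exact congrArg Subtype.val hk
  · rintro ⟨⟨k, hk⟩, hxy⟩
    have hyC : y ∈ C := mem_centralizer_singleton_iff.mpr hxy.eq.symm
    have h1 : IsPGroup p (zpowers (⟨y, hyC⟩ : C)) := by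
      rw [isPGroup_iff_pow]
      rintro z hz
      obtain ⟨m, rfl⟩ := mem_zpowers_iff.mp hz
      refine ⟨k, ?_⟩
      rw [← zpow_natCast, ← zpow_mul, mul_comm, zpow_mul, zpow_natCast]
      have : (⟨y, hyC⟩ : C) ^ p ^ k = 1 := Subtype.ext hk
      rw [this, one_zpow]
    obtain ⟨S', hS'⟩ := h1.exists_le_sylow
    haveI := Sylow.unique_of_normal S hSn
    have h2 : S' = S := Subsingleton.elim _ _
    rw [h2] at hS'
    exact ⟨⟨y, hyC⟩, hS' (mem_zpowers _), rfl⟩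

/-- S6: centralizers of noncentral `p`-regular elements are `p'`-groups -/
theorem Dat.coprime_of_commute (D : Dat p G) {x y : G} (hx : X p x) (hxy : Commute x y) :
    (orderOf y).Coprime p := by
  haveI : Fact p.Prime := ⟨D.hp⟩
  obtain ⟨P, hP⟩ := exists_pPart D.hA D.hp hx
  have hPp : IsPGroup p P := by
    rw [isPGroup_iff_pow]; exact fun y hy => ((hP y).mp hy).1
  obtain ⟨P0, hP0⟩ := hPp.exists_le_sylow
  obtain ⟨k, hk⟩ := index_normalizer D.hA D.hp (fun x x' h1 h2 h3 h4 => D.cl ⟨h1, h2⟩ ⟨h3, h4⟩) hx.1 hx.2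
  have hcop : (P0 : Subgroup G).index.Coprime (normalizer (Hs p x : Set G)).index := by
    rw [hk]
    exact Nat.Coprime.pow_right k ((Nat.Prime.coprime_iff_not_dvd D.hp).mpr P0.not_dvd_index).symm
  have hconj : ∀ g : G, ∀ y ∈ P, g * y * g⁻¹ ∈ P0 := by
    intro g y hy
    obtain ⟨s, hs, n, hn, rfl⟩ := H1.Solv.exists_mul_of_coprime_index hcop g
    rw [mem_normalizer_Hs D.hA hx.1 hx.2] at hn
    have h1 : n * y * n⁻¹ ∈ P := by
      rw [hP] at hy ⊢
      obtain ⟨⟨j, hj⟩, hxy⟩ := hy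
      refine ⟨⟨j, by rw [conj_pow, hj]; group⟩, ?_⟩
      exact D.trans hx (hx.conj n) hn.symm (commute_conj hxy)
    have h2 : s * n * y * (s * n)⁻¹ = s * (n * y * n⁻¹) * s⁻¹ := by group
    rw [h2]
    exact mul_mem (mul_mem hs (hP0 h1)) (inv_mem hs)
  have hnc : normalClosure (P : Set G) ≤ P0 := by
    rw [normalClosure, closure_le]
    intro z hz
    rw [Group.mem_conjugatesOfSet_iff] at hz
    obtain ⟨y, hy, hyz⟩ := hz
    obtain ⟨g, rfl⟩ := isConj_iff.mp hyz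
    exact hconj g y hy
  have hbot : normalClosure (P : Set G) = ⊥ := by
    rw [eq_bot_iff, ← D.hO]
    exact H1.Cores.le_pCore inferInstance (P0.2.to_le hnc)
  have hPbot : ∀ z ∈ P, z = 1 := by
    intro z hz
    have : z ∈ normalClosure (P : Set G) := subset_normalClosure hz
    rwa [hbot, mem_bot] at this
  obtain ⟨a, b, hab, ⟨j, hj⟩, hb⟩ := H70.Real.exists_decomp p D.hp y
  have h1 : y ^ a = 1 := by
    apply hPbot
    rw [hP]
    exact ⟨⟨j, by rw [← hj]; exact pow_orderOf_eq_one _⟩, hxy.pow_right a⟩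
  rw [h1, one_mul] at hab
  rw [hab] at hb
  exact ((Nat.Prime.coprime_iff_not_dvd D.hp).mpr hb).symm

/-- centralizers of noncentral `p`-regular elements are abelian -/
theorem Dat.comm (D : Dat p G) {x y g : G} (hx : X p x) (hy : Commute x y) (hg : Commute x g) : Commute y g :=
  D.hA x hx.1 hx.2 y (D.coprime_of_commute hx hy) hy g hg

/-- S7 -/
theorem Dat.exists_move (D : Dat p G) : ∃ q : ℕ, q.Prime ∧ q ≠ p ∧ ∀ x : G, X p x →
    ∃ g : G, (∃ k : ℕ, g ^ (q ^ k) = 1) ∧ Commute (g * x * g⁻¹) x ∧ ¬ Commute g x := by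
  obtain ⟨q, hq, hqp, x0, hx0, hx0c, hlt⟩ := D.hD
  haveI : Fact q.Prime := ⟨hq⟩
  refine ⟨q, hq, hqp, ?_⟩
  obtain ⟨Q⟩ : Nonempty (Sylow q G) := inferInstance
  obtain ⟨x1, hx1, hx1c, hQ⟩ := exists_sylow_normalizer D.hA D.hp hq hqp hx0 hx0c Q
  have hX1 : X p x1 := ⟨hx1, hx1c⟩
  have h1 : Nat.card (T q x1) < Nat.card Q := by
    rw [card_T_eq D.hA D.hB D.hp hq hqp hx1 hx1c hx0 hx0c, D.hA.card_T D.hp hq hqp hx0 hx0c,
      Sylow.card_eq_multiplicity Q]
    exact Nat.pow_lt_pow_right hq.one_lt hlt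
  have h2 : ¬ ((Q : Subgroup G) ≤ T q x1) := by
    intro h
    exact absurd (Subgroup.card_le_of_le h) (not_le.mpr h1)
  obtain ⟨g, hg, hgT⟩ := SetLike.not_le_iff_exists.mp h2
  obtain ⟨k, hk⟩ := (isPGroup_iff_pow (Q : Subgroup G)).mp Q.2 g hg
  have hgx : ¬ Commute g x1 := by
    intro h
    exact hgT ((D.hA.mem_T D.hp hq hqp hx1 hx1c).mpr ⟨⟨k, hk⟩, h.symm⟩)
  intro x hx
  obtain ⟨h, hh⟩ := D.cl hx hX1
  have hX2 := hX1.conj h
  refine ⟨h * g * h⁻¹, ⟨k, by rw [conj_pow, hk]; group⟩, ?_, ?_⟩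
  · have h3 : Commute ((h * g * h⁻¹) * x * (h * g * h⁻¹)⁻¹) ((h * g * h⁻¹) * (h * x1 * h⁻¹) * (h * g * h⁻¹)⁻¹) :=
      commute_conj hh
    have h4 : (h * g * h⁻¹) * (h * x1 * h⁻¹) * (h * g * h⁻¹)⁻¹ = h * (g * x1 * g⁻¹) * h⁻¹ := by group
    have h5 : Commute ((h * g * h⁻¹) * x * (h * g * h⁻¹)⁻¹) (h * x1 * h⁻¹) := by
      apply D.trans (hx.conj _) (hX2.conj (h * g * h⁻¹)) h3
      rw [h4]; exact commute_conj (hQ g hg)
    exact D.trans (hx.conj _) hX2 h5 hh.symm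
  · intro hc
    apply hgx
    have h3 : Commute (h * x1 * h⁻¹) (h * g * h⁻¹) := D.trans hX2 hx hh.symm hc.symm
    exact (commute_conj_iff.mp h3).symm

omit [Finite G] in
theorem X.of_not_commute {q : ℕ} (hp : p.Prime) (hq : q.Prime) (hqp : q ≠ p) {g x : G}
    (hk : ∃ k : ℕ, g ^ (q ^ k) = 1) (h : ¬ Commute g x) : X p g := by
  obtain ⟨k, hk⟩ := hk
  exact ⟨coprime_of_pow hp hq hqp hk, fun hc => h (commute_of_center hc x)⟩

omit [Finite G] in
/-- there are two primes; one differs from a given prime -/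
theorem Dat.exists_prime (D : Dat p G) (r : ℕ) : ∃ q : ℕ, q.Prime ∧ q ≠ p ∧ q ≠ r ∧ NC q G := by
  obtain ⟨q1, q2, h1, h2, h3, h4, h5, h6, h7⟩ := D.hN
  by_cases h : q1 = r
  · exact ⟨q2, h2, h4, fun h' => h5 (h.trans h'.symm), h7⟩
  · exact ⟨q1, h1, h3, h, h6⟩

theorem Dat.exists_X (D : Dat p G) : ∃ x : G, X p x := by
  obtain ⟨q, hq, hqp, -, y, ⟨k, hk⟩, hy⟩ := D.exists_prime 0
  exact ⟨y, coprime_of_pow D.hp hq hqp hk, hy⟩

/-- not all noncentral `p`-regular elements commute -/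
theorem Dat.exists_not_commute (D : Dat p G) {x : G} (hx : X p x) : ∃ y : G, X p y ∧ ¬ Commute y x := by
  obtain ⟨q, hq, hqp, h⟩ := D.exists_move
  obtain ⟨g, hg, -, hgx⟩ := h x hx
  exact ⟨g, X.of_not_commute D.hp hq hqp hg hgx, hgx⟩

/-- S8: normal `r`-subgroups are central -/
theorem Dat.normal_le_center (D : Dat p G) {r : ℕ} (hr : r.Prime) (hrp : r ≠ p) (W : Subgroup G) [hWn : W.Normal]
    (hW : IsPGroup r W) : W ≤ center G := by
  haveI : Fact r.Prime := ⟨hr⟩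
  obtain ⟨R, hR⟩ := hW.exists_le_sylow
  obtain ⟨x0, hx0⟩ := D.exists_X
  obtain ⟨x, hx1, hxc, hQ⟩ := exists_sylow_normalizer D.hA D.hp hr hrp hx0.1 hx0.2 R
  have hx : X p x := ⟨hx1, hxc⟩
  obtain ⟨q, hq, hqp, hqr, hnc⟩ := D.exists_prime r
  obtain ⟨y, hy, hyc⟩ := exists_mem_T D.hA D.hB D.hp hq hqp hnc hx.1 hx.2
  obtain ⟨⟨k, hk⟩, hxy⟩ := (D.hA.mem_T D.hp hq hqp hx.1 hx.2).mp hy
  have hyX : X p y := ⟨coprime_of_pow D.hp hq hqp hk, hyc⟩
  have hWx : ∀ w ∈ W, Commute w x := by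
    intro w hw
    have h1 : w * y * w⁻¹ ∈ T q x := by
      rw [D.hA.mem_T D.hp hq hqp hx.1 hx.2]
      refine ⟨⟨k, by rw [conj_pow, hk]; group⟩, ?_⟩
      exact D.trans hx (hx.conj w) (hQ w (hR hw)).symm (commute_conj hxy)
    have h2 : w * y * w⁻¹ * y⁻¹ ∈ T q x := mul_mem h1 (inv_mem hy)
    have h3 : w * y * w⁻¹ * y⁻¹ ∈ W := by
      have h4 : w * y * w⁻¹ * y⁻¹ = w * (y * w⁻¹ * y⁻¹) := by group
      rw [h4]
      exact mul_mem hw (hWn.conj_mem _ (inv_mem hw) y)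
    obtain ⟨a, ha⟩ := h2.1
    obtain ⟨b, hb⟩ := (isPGroup_iff_pow W).mp hW _ h3
    have h5 := Nat.eq_one_of_dvd_coprimes (Nat.Coprime.pow a b ((Nat.coprime_primes hq hr).mpr hqr))
      (orderOf_dvd_of_pow_eq_one ha) (orderOf_dvd_of_pow_eq_one hb)
    rw [orderOf_eq_one_iff] at h5
    have h6 : w * y * w⁻¹ = y := by
      rw [mul_inv_eq_one] at h5; exact h5
    exact (D.trans hx hyX hxy (commute_of_conj_eq h6).symm).symm
  intro w hw
  by_contra hwc
  obtain ⟨j, hj⟩ := (isPGroup_iff_pow W).mp hW w hw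
  have hwX : X p w := ⟨coprime_of_pow D.hp hr hrp hj, hwc⟩
  obtain ⟨x', hx', hnx⟩ := D.exists_not_commute hx
  obtain ⟨g, hg⟩ := D.cl hx' hwX
  have h1 : g * w * g⁻¹ ∈ W := hWn.conj_mem w hw g
  exact hnx (D.trans hx' (hwX.conj g) hg (hWx _ h1))

/-- S8: the group is not solvable -/
theorem Dat.not_isSolvable (D : Dat p G) : ¬ Group.IsSolvable G := by
  intro hs
  have h1 : fittingSubgroup G ≤ center G := by
    rw [H1.Cores.fittingSubgroup_eq_iSup_pCore]
    apply iSup_le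
    intro q
    by_cases hq : (q : ℕ) = p
    · rw [hq, D.hO]; exact bot_le
    · haveI : (pCore (q : ℕ) G).Normal := inferInstance
      exact D.normal_le_center q.2 hq _ (H1.Cores.isPGroup_pCore _)
  have h2 := H1.Solv.centralizer_fitting_le hs
  obtain ⟨x, hx⟩ := D.exists_X
  apply hx.2
  apply h1
  apply h2
  rw [mem_centralizer_iff]
  intro y hy
  exact (mem_center_iff.mp (h1 hy) x).symm

/-- an element normalizing `Hs p x` and acting trivially on it modulo the center lies in it -/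
theorem Dat.commute_of_trivial (D : Dat p G) {x w : G} (hx : X p x)
    (h : ∀ y, X p y → Commute x y → w * y * w⁻¹ * y⁻¹ ∈ center G) : Commute w x := by
  obtain ⟨q1, q2, hq1, hq2, hq1p, hq2p, hne, hn1, hn2⟩ := D.hN
  have key : ∀ q : ℕ, q.Prime → q ≠ p → NC q G → ∃ j : ℕ, Commute (w ^ (q ^ j)) x := by
    intro q hq hqp hn
    obtain ⟨y, hy, hyc⟩ := exists_mem_T D.hA D.hB D.hp hq hqp hn hx.1 hx.2
    obtain ⟨⟨k, hk⟩, hxy⟩ := (D.hA.mem_T D.hp hq hqp hx.1 hx.2).mp hy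
    have hyX : X p y := ⟨coprime_of_pow D.hp hq hqp hk, hyc⟩
    have h1 := h y hyX hxy
    set c := w * y * w⁻¹ * y⁻¹ with hc
    have h2 : w * y * w⁻¹ = y * c := by
      rw [← (commute_of_center h1 y).eq, hc]; group
    have h3 : c ^ (q ^ k) = 1 := by
      have h4 : (w * y * w⁻¹) ^ (q ^ k) = 1 := by rw [conj_pow, hk]; group
      rw [h2, (commute_of_center h1 y).symm.mul_pow, hk, one_mul] at h4
      exact h4
    have h5 := pow_conj_center h1 h2 (q ^ k)
    rw [h3, mul_one] at h5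
    exact ⟨k, (D.trans hx hyX hxy (commute_of_conj_eq h5).symm).symm⟩
  obtain ⟨a, ha⟩ := key q1 hq1 hq1p hn1
  obtain ⟨b, hb⟩ := key q2 hq2 hq2p hn2
  have hcop : (q1 ^ a).Coprime (q2 ^ b) := Nat.Coprime.pow a b ((Nat.coprime_primes hq1 hq2).mpr hne)
  have h1 : w ^ (q1 ^ a) ∈ centralizer ({x} : Set G) := mem_centralizer_singleton_iff.mpr ha.eq
  have h2 : w ^ (q2 ^ b) ∈ centralizer ({x} : Set G) := mem_centralizer_singleton_iff.mpr hb.eq
  have h3 := Nat.gcd_eq_gcd_ab (q1 ^ a) (q2 ^ b)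
  rw [Nat.Coprime.gcd_eq_one hcop] at h3
  have h4 : w ∈ centralizer ({x} : Set G) := by
    have h5 : w = (w ^ (q1 ^ a)) ^ (Nat.gcdA (q1 ^ a) (q2 ^ b)) * (w ^ (q2 ^ b)) ^ (Nat.gcdB (q1 ^ a) (q2 ^ b)) := by
      rw [← zpow_natCast w (q1 ^ a), ← zpow_natCast w (q2 ^ b), ← zpow_mul, ← zpow_mul, ← zpow_add, ← h3]
      simp
    rw [h5]
    exact mul_mem (zpow_mem h1 _) (zpow_mem h2 _)
  exact mem_centralizer_singleton_iff.mp h4

/-- an element whose square is central, normalizing `Hs p x` and not in it, inverts it modulo the center -/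
theorem Dat.inverts (D : Dat p G) {x t y : G} (hx : X p x) (ht : t * t ∈ center G)
    (htx : Commute (t * x * t⁻¹) x) (htn : ¬ Commute t x) (hy : Commute x y) :
    y * (t * y * t⁻¹) ∈ center G := by
  have h1 : Commute x (t * y * t⁻¹) := D.trans hx (hx.conj t) htx.symm (commute_conj hy)
  have h2 : Commute y (t * y * t⁻¹) := D.comm hx hy h1
  have h3 : Commute x (y * (t * y * t⁻¹)) := hy.mul_right h1
  have h4 : t * (t * y * t⁻¹) * t⁻¹ = y := by
    have h5 : t * (t * y * t⁻¹) * t⁻¹ = (t * t) * y * (t * t)⁻¹ := by group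
    rw [h5, (commute_of_center ht y).eq]; group
  have h5 : t * (y * (t * y * t⁻¹)) * t⁻¹ = y * (t * y * t⁻¹) := by
    calc t * (y * (t * y * t⁻¹)) * t⁻¹ = (t * y * t⁻¹) * (t * (t * y * t⁻¹) * t⁻¹) := by group
      _ = y * (t * y * t⁻¹) := by rw [h4, h2.eq]
  by_contra hc
  apply htn
  have hX : X p (y * (t * y * t⁻¹)) := ⟨D.coprime_of_commute hx h3, hc⟩
  exact (D.trans hx hX h3 (commute_of_conj_eq h5).symm).symm

end H70.RegT
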