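import Mathlib
import Cfsg.Agent.Lib.H70.RegC

/-!
The case `O_p(G) = 1`, `p = 2`; products of involutions modulo the center.
-/

set_option autoImplicit false

namespace H70.RegT

open Subgroup Cfsg
open scoped Pointwise commutatorElement

variable {G : Type*} [Group G] {p : ℕ}

theorem mul_pow_mem {C : Subgroup G} {c g : G} (hc : c ∈ C) (hg : ∀ y ∈ C, g * y * g⁻¹ ∈ C) (n : ℕ) :
    (c * g) ^ n * (g ^ n)⁻¹ ∈ C := by
  have hgn : ∀ n : ℕ, ∀ y ∈ C, g ^ n * y * (g ^ n)⁻¹ ∈ C := by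
    intro n
    induction n with
    | zero => intro y hy; simpa using hy
    | succ n ih =>
      intro y hy
      have h1 : g ^ (n + 1) * y * (g ^ (n + 1))⁻¹ = g * (g ^ n * y * (g ^ n)⁻¹) * g⁻¹ := by
        rw [pow_succ']; group
      rw [h1]
      exact hg _ (ih y hy)
  induction n with
  | zero => simp
  | succ n ih =>
    have h1 : (c * g) ^ (n + 1) * (g ^ (n + 1))⁻¹ = (c * g) ^ n * (g ^ n)⁻¹ * (g ^ n * c * (g ^ n)⁻¹) := by
      rw [pow_succ, pow_succ]; group
    rw [h1]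
    exact mul_mem ih (hgn n c hc)

variable [Finite G]

/-- `t'` and `t` inverting modulo the center have product acting trivially -/
theorem Dat.commute_mul (D : Dat p G) {x t s : G} (hx : X p x) (ht : t * t ∈ center G) (hs : s * s ∈ center G)
    (htx : Commute (t * x * t⁻¹) x) (htn : ¬ Commute t x) (hsx : Commute (s * x * s⁻¹) x) (hsn : ¬ Commute s x) :
    Commute (t * s) x := by
  apply D.commute_of_trivial hx
  intro y hy hxy
  have h1 := D.inverts hx ht htx htn hxy
  have h2 := D.inverts hx hs hsx hsn hxy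
  set c := y * (t * y * t⁻¹) with hc
  set d := y * (s * y * s⁻¹) with hd
  have e1 : s * y * s⁻¹ = y⁻¹ * d := by rw [hd]; group
  have e2 : t * y⁻¹ * t⁻¹ = c⁻¹ * y := by rw [hc]; group
  have h3 : t * s * y * (t * s)⁻¹ * y⁻¹ = c⁻¹ * d := by
    calc t * s * y * (t * s)⁻¹ * y⁻¹ = t * (s * y * s⁻¹) * t⁻¹ * y⁻¹ := by group
      _ = (t * y⁻¹ * t⁻¹) * (t * d * t⁻¹) * y⁻¹ := by rw [e1]; group
      _ = (c⁻¹ * y) * d * y⁻¹ := by
        rw [e2, ← (commute_of_center h2 t).eq]; group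
      _ = c⁻¹ * d := by rw [mul_assoc c⁻¹ y d, ← (commute_of_center h2 y).eq]; group
  rw [h3]
  exact mul_mem (inv_mem h1) h2

theorem Dat.even_card (D : Dat p G) : 2 ∣ Nat.card G := by
  by_contra h
  have h1 : Odd (Nat.card G) := by
    rw [← Nat.not_even_iff_odd]; exact fun h' => h h'.two_dvd
  exact D.not_isSolvable (Cfsg.Agent.S0205.result h1)

/-- the case `p = 2` -/
theorem Dat.false_two (D : Dat 2 G) : False := by
  obtain ⟨t, ht⟩ := exists_prime_orderOf_dvd_card' 2 D.even_card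
  have ht2 : t * t = 1 := by
    have := pow_orderOf_eq_one t
    rwa [ht, pow_two] at this
  have htinv : t⁻¹ = t := by rw [inv_eq_iff_mul_eq_one]; exact ht2
  obtain ⟨x, hx1, hxo, hxt⟩ := Cfsg.Agent.S0200.result t ht (by
    intro N hN hN2 htN
    have h1 := H1.Cores.le_pCore hN hN2
    rw [D.hO] at h1
    have h2 := h1 htN
    rw [mem_bot] at h2
    rw [h2, orderOf_one] at ht
    omega)
  have hxx : ¬ x⁻¹ = x := by
    intro h
    have h2 : orderOf x ∣ 2 := by
      apply orderOf_dvd_of_pow_eq_one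
      rw [pow_two]
      nth_rewrite 1 [← h]
      group
    have h3 : (orderOf x).Coprime 2 := hxo.coprime_two_right
    have := Nat.eq_one_of_dvd_coprimes h3 dvd_rfl h2
    exact hx1 (orderOf_eq_one_iff.mp this)
  have hX : X 2 x := by
    refine ⟨hxo.coprime_two_right, fun hc => hxx ?_⟩
    rw [← hxt, ← (commute_of_center hc t).eq]; group
  have htx : Commute (t * x * t⁻¹) x := by rw [hxt]; exact (Commute.refl x).inv_left
  have htn : ¬ Commute t x := by
    intro h
    apply hxx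
    rw [← hxt, h.eq]; group
  obtain ⟨q, hq, hq2, hmove⟩ := D.exists_move
  obtain ⟨g, ⟨k, hk⟩, hgx, hgn⟩ := hmove x hX
  -- `s = g t g⁻¹`
  set s := g * t * g⁻¹ with hs
  have hgN : g ∈ normalizer (Hs 2 x : Set G) := (mem_normalizer_Hs D.hA hX.1 hX.2).mpr hgx
  have htN : t ∈ normalizer (Hs 2 x : Set G) := (mem_normalizer_Hs D.hA hX.1 hX.2).mpr htx
  have hsN : s ∈ normalizer (Hs 2 x : Set G) := mul_mem (mul_mem hgN htN) (inv_mem hgN)
  have hsx := (mem_normalizer_Hs D.hA hX.1 hX.2).mp hsN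
  have hgx' := (mem_normalizer_Hs D.hA hX.1 hX.2).mp (inv_mem hgN)
  have hsn : ¬ Commute s x := by
    intro h
    apply htn
    have h1 := commute_conj (g := g⁻¹) h
    have h2 : g⁻¹ * s * g⁻¹⁻¹ = t := by rw [hs]; group
    rw [h2] at h1
    exact (D.trans hX (hX.conj g⁻¹) hgx'.symm h1.symm).symm
  have hs2 : s * s = 1 := by
    have : s * s = g * (t * t) * g⁻¹ := by rw [hs]; group
    rw [this, ht2]; group
  have hw : Commute (s * t) x := D.commute_mul hX (by rw [hs2]; exact one_mem _) (by rw [ht2]; exact one_mem _)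
    hsx hsn htx htn
  set w := s * t with hwdef
  have hwo : (orderOf w).Coprime 2 := D.coprime_of_commute hX hw.symm
  obtain ⟨m, hm⟩ : Odd (orderOf w) := Nat.coprime_two_right.mp hwo
  have htw : t * w * t⁻¹ = w⁻¹ := by
    rw [hwdef, htinv, mul_inv_rev, htinv]
    have hsinv : s⁻¹ = s := by rw [inv_eq_iff_mul_eq_one]; exact hs2
    rw [hsinv]
    calc t * (s * t) * t = t * s * (t * t) := by group
      _ = t * s := by rw [ht2, mul_one]
  -- `s = w^(m+1) t w^-(m+1)`
  have h1 : w ^ (m + 1) * t * (w ^ (m + 1))⁻¹ = s := by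
    have h2 : t * (w ^ (m + 1))⁻¹ * t⁻¹ = w ^ (m + 1) := by
      have h3 : t * (w ^ (m + 1))⁻¹ * t⁻¹ = ((t * w * t⁻¹) ^ (m + 1))⁻¹ := by
        rw [conj_pow]; group
      rw [h3, htw]; simp
    have h4 : w ^ (m + 1) * w ^ (m + 1) = w := by
      rw [← pow_add]
      have h5 : m + 1 + (m + 1) = orderOf w + 1 := by omega
      rw [h5, pow_succ, pow_orderOf_eq_one, one_mul]
    calc w ^ (m + 1) * t * (w ^ (m + 1))⁻¹ = w ^ (m + 1) * (t * (w ^ (m + 1))⁻¹ * t⁻¹) * t := by group
      _ = w * t := by rw [h2, h4]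
      _ = s := by rw [hwdef, mul_assoc, ht2, mul_one]
  set v := (w ^ (m + 1))⁻¹ with hv
  have hvx : Commute v x := (hw.pow_left (m + 1)).inv_left
  have hg't : Commute (v * g) t := by
    apply commute_of_conj_eq
    calc v * g * t * (v * g)⁻¹ = v * (g * t * g⁻¹) * v⁻¹ := by group
      _ = v * s * v⁻¹ := by rw [hs]
      _ = t := by rw [← h1, hv]; group
  have hg'n : ¬ Commute (v * g) x := by
    intro h
    apply hgn
    have h2 : g = v⁻¹ * (v * g) := by group
    rw [h2]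
    exact hvx.inv_left.mul_left h
  have hg'o : (orderOf (v * g)).Coprime 2 := by
    have h2 := mul_pow_mem (C := centralizer ({x} : Set G)) (c := v) (g := g)
      (mem_centralizer_singleton_iff.mpr hvx.eq) (by
        intro y hy
        rw [mem_centralizer_singleton_iff] at hy ⊢
        have hxy : Commute x y := hy.symm
        exact (D.trans hX (hX.conj g) hgx.symm (commute_conj hxy)).eq.symm) (q ^ k)
    rw [hk, inv_one, mul_one, mem_centralizer_singleton_iff] at h2
    have h3 : (orderOf ((v * g) ^ (q ^ k))).Coprime 2 := D.coprime_of_commute hX h2.symm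
    have h4 : orderOf (v * g) ∣ q ^ k * orderOf ((v * g) ^ (q ^ k)) := by
      apply orderOf_dvd_of_pow_eq_one
      rw [pow_mul, pow_orderOf_eq_one]
    exact Nat.Coprime.coprime_dvd_left h4 (Nat.Coprime.mul_left
      (Nat.Coprime.pow_left k ((Nat.coprime_primes hq Nat.prime_two).mpr hq2)) h3)
  have hg'X : X 2 (v * g) := ⟨hg'o, fun hc => hg'n (commute_of_center hc x)⟩
  have := D.coprime_of_commute hg'X hg't
  rw [ht] at this
  exact absurd this (by decide)

/-! ### `p` odd -/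

/-- there is a noncentral `2`-element -/
theorem Dat.nc_two (D : Dat p G) : NC 2 G := by
  by_contra hcon
  haveI : Fact (Nat.Prime 2) := ⟨Nat.prime_two⟩
  apply D.not_isSolvable
  obtain ⟨S⟩ : Nonempty (Sylow 2 G) := inferInstance
  have hS : (S : Subgroup G) ≤ center G := by
    intro y hy
    by_contra hyc
    exact hcon ⟨y, (isPGroup_iff_pow (S : Subgroup G)).mp S.2 y hy, hyc⟩
  have h1 : ¬ 2 ∣ (center G).index := fun h => S.not_dvd_index (h.trans (Subgroup.index_dvd_of_le hS))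
  have h2 : Odd (Nat.card (G ⧸ center G)) := by
    rw [← Subgroup.index_eq_card, ← Nat.not_even_iff_odd]
    exact fun h' => h1 h'.two_dvd
  haveI h3 : Group.IsSolvable (G ⧸ center G) := Cfsg.Agent.S0205.result h2
  haveI h0 : Group.IsSolvable (center G) := by
    apply Group.isSolvable_of_comm
    intro a b
    apply Subtype.ext
    exact (mem_center_iff.mp b.2 a)
  exact Group.isSolvable_of_ker_le_range (center G).subtype (QuotientGroup.mk' (center G)) (by simp)

theorem Dat.center_coprime (D : Dat p G) {c : G} (hc : c ∈ center G) : (orderOf c).Coprime p := by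
  obtain ⟨x, hx⟩ := D.exists_X
  exact D.coprime_of_commute hx (commute_of_center hc x).symm

/-- involution modulo the center -/
def Inv (t : G) : Prop := t ∉ center G ∧ t * t ∈ center G

theorem Dat.inv_X (D : Dat p G) (hp2 : p ≠ 2) {t : G} (ht : Inv t) : X p t := by
  refine ⟨?_, ht.1⟩
  have h1 := D.center_coprime ht.2
  have h2 : orderOf t ∣ 2 * orderOf (t * t) := by
    apply orderOf_dvd_of_pow_eq_one
    rw [pow_mul, pow_two, pow_orderOf_eq_one]
  exact Nat.Coprime.coprime_dvd_left h2 (Nat.Coprime.mul_left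
    ((Nat.coprime_primes Nat.prime_two D.hp).mpr (Ne.symm hp2)) h1)

omit [Finite G] in
theorem Inv.conj {t : G} (ht : Inv t) (g : G) : Inv (g * t * g⁻¹) := by
  refine ⟨conj_not_mem_center g ht.1, ?_⟩
  have : g * t * g⁻¹ * (g * t * g⁻¹) = g * (t * t) * g⁻¹ := by group
  rw [this]
  exact (inferInstance : (center G).Normal).conj_mem _ ht.2 g

/-- a `p`-regular element commuting with a nontrivial `p`-element is central -/
theorem Dat.mem_center_of_commute (D : Dat p G) {b c : G} (hb : b ≠ 1) {k : ℕ} (hk : b ^ (p ^ k) = 1)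
    (hc : (orderOf c).Coprime p) (hcb : Commute c b) : c ∈ center G := by
  by_contra h
  have h1 : (orderOf b).Coprime p := D.coprime_of_commute ⟨hc, h⟩ hcb
  have h2 : orderOf b ∣ p ^ k := orderOf_dvd_of_pow_eq_one hk
  exact hb (orderOf_eq_one_iff.mp (Nat.eq_one_of_dvd_coprimes (Nat.Coprime.pow_right k h1) dvd_rfl h2))

/-- the `p`-elements of `C(x)` form a subgroup if all `q`-elements, `q ≠ p`, of `C(x)` are central in it -/
theorem exists_pPart' (hp : p.Prime) (x : G) (h : ∀ q : ℕ, q.Prime → q ≠ p → ∀ c : G, (∃ k : ℕ, c ^ (q ^ k) = 1) →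
    Commute x c → ∀ g : G, Commute x g → Commute c g) :
    ∃ P : Subgroup G, ∀ y, y ∈ P ↔ (∃ k : ℕ, y ^ (p ^ k) = 1) ∧ Commute x y := by
  haveI : Fact p.Prime := ⟨hp⟩
  set C := centralizer ({x} : Set G) with hC
  obtain ⟨S⟩ : Nonempty (Sylow p C) := inferInstance
  set M := normalizer ((S : Subgroup C) : Set C) with hM
  have hMtop : M = ⊤ := by
    rw [← Subgroup.index_eq_one]
    by_contra hne
    obtain ⟨q, hq, hqd⟩ := Nat.exists_prime_and_dvd hne
    by_cases hqp : q = p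
    · subst hqp
      exact S.not_dvd_index (hqd.trans (Subgroup.index_dvd_of_le le_normalizer))
    · haveI : Fact q.Prime := ⟨hq⟩
      obtain ⟨S'⟩ : Nonempty (Sylow q C) := inferInstance
      have h1 : (S' : Subgroup C) ≤ M := by
        apply le_trans _ (Subgroup.center_le_normalizer _)
        intro y hy
        rw [mem_center_iff]
        intro g
        obtain ⟨k, hk⟩ := (isPGroup_iff_pow (S' : Subgroup C)).mp S'.2 y hy
        have h2 := h q hq hqp y ⟨k, congrArg Subtype.val hk⟩ (mem_centralizer_singleton_iff.mp y.2).symm g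
          (mem_centralizer_singleton_iff.mp g.2).symm
        exact Subtype.ext h2.eq.symm
      exact S'.not_dvd_index (hqd.trans (Subgroup.index_dvd_of_le h1))
  have hSn : (S : Subgroup C).Normal := Subgroup.normalizer_eq_top_iff.mp hMtop
  refine ⟨(S : Subgroup C).map C.subtype, fun y => ⟨?_, ?_⟩⟩
  · rintro ⟨z, hz, rfl⟩
    obtain ⟨k, hk⟩ := (isPGroup_iff_pow (S : Subgroup C)).mp S.2 z hz
    refine ⟨⟨k, ?_⟩, (mem_centralizer_singleton_iff.mp z.2).symm⟩
    exact congrArg Subtype.val hk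
  · rintro ⟨⟨k, hk⟩, hxy⟩
    have hyC : y ∈ C := mem_centralizer_singleton_iff.mpr hxy.eq.symm
    have h1 : IsPGroup p (zpowers (⟨y, hyC⟩ : C)) := by
      rw [isPGroup_iff_pow]
      rintro z hz
      obtain ⟨m, rfl⟩ := mem_zpowers_iff.mp hz
      refine ⟨k, ?_⟩
      rw [← zpow_natCast, ← zpow_mul, mul_comm, zpow_mul, zpow_natCast]
      have : (⟨y, hyC⟩ : C) ^ p ^ k = 1 := Subtype.ext hk
      rw [this, one_zpow]
    obtain ⟨S', hS'⟩ := h1.exists_le_sylow
    haveI := Sylow.unique_of_normal S hSn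
    have h2 : S' = S := Subsingleton.elim _ _
    rw [h2] at hS'
    exact ⟨⟨y, hyC⟩, hS' (mem_zpowers _), rfl⟩

/-- L1 -/
theorem Dat.inverted (D : Dat p G) (hp2 : p ≠ 2) {t y : G} (ht : Inv t) (hy1 : y ≠ 1) (hyp : ∃ k : ℕ, y ^ (p ^ k) = 1)
    (hty : t * y * t⁻¹ = y⁻¹) :
    (∀ b : G, (∃ k : ℕ, b ^ (p ^ k) = 1) → Commute y b → t * b * t⁻¹ = b⁻¹) ∧
    (∀ b c : G, (∃ k : ℕ, b ^ (p ^ k) = 1) → (∃ k : ℕ, c ^ (p ^ k) = 1) → Commute y b → Commute y c →
      Commute b c) := by
  obtain ⟨k, hk⟩ := hyp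
  have htX := D.inv_X hp2 ht
  obtain ⟨B, hB⟩ := exists_pPart' D.hp y (by
    intro q hq hqp c ⟨j, hj⟩ hyc g _
    exact commute_of_center (D.mem_center_of_commute hy1 hk (coprime_of_pow D.hp hq hqp hj) hyc.symm) g)
  have htB : ∀ b ∈ B, t * b * t⁻¹ ∈ B := by
    intro b hb
    rw [hB] at hb ⊢
    obtain ⟨⟨j, hj⟩, hyb⟩ := hb
    refine ⟨⟨j, by rw [conj_pow, hj]; group⟩, ?_⟩
    have := commute_conj (g := t) hyb
    rw [hty] at this
    exact (Commute.inv_left_iff.mp this)
  have hfpf : ∀ b ∈ B, t * b * t⁻¹ = b → b = 1 := by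
    intro b hb h
    by_contra hb1
    obtain ⟨⟨j, hj⟩, -⟩ := (hB b).mp hb
    exact ht.1 (D.mem_center_of_commute hb1 hj htX.1 (commute_of_conj_eq h))
  let f : B → B := fun b => ⟨(b : G)⁻¹ * (t * b * t⁻¹), mul_mem (inv_mem b.2) (htB b b.2)⟩
  have hinj : Function.Injective f := by
    intro a b hab
    have h1 : (a : G)⁻¹ * (t * a * t⁻¹) = (b : G)⁻¹ * (t * b * t⁻¹) := congrArg Subtype.val hab
    have h2 : t * ((b : G) * (a : G)⁻¹) * t⁻¹ = b * (a : G)⁻¹ := by
      calc t * ((b : G) * (a : G)⁻¹) * t⁻¹ = b * ((b : G)⁻¹ * (t * b * t⁻¹)) * (t * a * t⁻¹)⁻¹ := by group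
        _ = b * ((a : G)⁻¹ * (t * a * t⁻¹)) * (t * a * t⁻¹)⁻¹ := by rw [h1]
        _ = b * (a : G)⁻¹ := by group
    have h3 := hfpf _ (mul_mem b.2 (inv_mem a.2)) h2
    exact Subtype.ext (mul_inv_eq_one.mp h3).symm
  have hsurj := Finite.surjective_of_injective hinj
  have hinv : ∀ b ∈ B, t * b * t⁻¹ = b⁻¹ := by
    intro b hb
    obtain ⟨a, ha⟩ := hsurj ⟨b, hb⟩
    have h1 : (a : G)⁻¹ * (t * a * t⁻¹) = b := congrArg Subtype.val ha
    have h2 : t * (t * a * t⁻¹) * t⁻¹ = a := by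
      have h3 : t * (t * a * t⁻¹) * t⁻¹ = (t * t) * a * (t * t)⁻¹ := by group
      rw [h3, (commute_of_center ht.2 (a : G)).eq]; group
    calc t * b * t⁻¹ = (t * a * t⁻¹)⁻¹ * (t * (t * a * t⁻¹) * t⁻¹) := by rw [← h1]; group
      _ = (t * a * t⁻¹)⁻¹ * a := by rw [h2]
      _ = b⁻¹ := by rw [← h1]; group
  refine ⟨fun b hb hyb => hinv b ((hB b).mpr ⟨hb, hyb⟩), fun b c hb hc hyb hyc => ?_⟩
  have hbB := (hB b).mpr ⟨hb, hyb⟩
  have hcB := (hB c).mpr ⟨hc, hyc⟩
  have h1 := hinv _ (mul_mem hbB hcB)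
  have h2 : t * (b * c) * t⁻¹ = (t * b * t⁻¹) * (t * c * t⁻¹) := by group
  rw [h2, hinv b hbB, hinv c hcB] at h1
  unfold Commute SemiconjBy
  have h3 := congrArg (fun z => z⁻¹) h1
  simp only [mul_inv_rev, inv_inv] at h3
  exact h3.symm

end H70.RegT
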