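import Mathlib
import Cfsg.Agent.Lib.H70.RegD
import Cfsg.Agent.Lib.H70.Friendship

/-!
The case `O_p(G) = 1`, `p` odd: contradiction by the friendship theorem.
-/

set_option autoImplicit false

namespace H70.RegT

open Subgroup Cfsg
open scoped Pointwise commutatorElement

variable {G : Type*} [Group G] {p : ℕ}

theorem two_mul_conj_le [Finite G] (M : Subgroup G) (h : ∃ g ∈ normalizer (M : Set G), g ∉ M) :
    2 * Set.ncard {x : G | ∃ g : G, g⁻¹ * x * g ∈ M} ≤ Nat.card G := by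
  classical
  set N := normalizer (M : Set G) with hN
  let f : (G ⧸ N) × M → G := fun a => a.1.out * (a.2 : G) * (a.1.out)⁻¹
  have h1 : {x : G | ∃ g : G, g⁻¹ * x * g ∈ M} ⊆ f '' Set.univ := by
    rintro x ⟨g, hg⟩
    obtain ⟨n, hn⟩ := QuotientGroup.mk_out_eq_mul N g
    refine ⟨(QuotientGroup.mk g, ⟨(n : G)⁻¹ * (g⁻¹ * x * g) * n, ?_⟩), Set.mem_univ _, ?_⟩
    · have h2 := (mem_normalizer_iff.mp (inv_mem n.2) (g⁻¹ * x * g)).mp hg
      rwa [inv_inv] at h2
    · change (QuotientGroup.mk g : G ⧸ N).out * ((n : G)⁻¹ * (g⁻¹ * x * g) * n) *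
        ((QuotientGroup.mk g : G ⧸ N).out)⁻¹ = x
      rw [hn]; group
  have h2 : Set.ncard {x : G | ∃ g : G, g⁻¹ * x * g ∈ M} ≤ N.index * Nat.card M := by
    calc Set.ncard {x : G | ∃ g : G, g⁻¹ * x * g ∈ M} ≤ Set.ncard (f '' Set.univ) :=
          Set.ncard_le_ncard h1 (Set.toFinite _)
      _ ≤ Set.ncard (Set.univ : Set ((G ⧸ N) × M)) := Set.ncard_image_le (Set.toFinite _)
      _ = N.index * Nat.card M := by rw [Set.ncard_univ, Nat.card_prod, Subgroup.index_eq_card]
  have h3 : Nat.card M * M.relIndex N = Nat.card N := by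
    have := Subgroup.relIndex_mul_relIndex (⊥ : Subgroup G) M N bot_le le_normalizer
    rwa [Subgroup.relIndex_bot_left, Subgroup.relIndex_bot_left] at this
  have h4 : M.relIndex N ≠ 1 := by
    intro h5
    obtain ⟨g, hg, hgM⟩ := h
    exact hgM (Subgroup.relIndex_eq_one.mp h5 hg)
  have h5 : M.relIndex N ≠ 0 := by
    intro h6
    rw [h6, mul_zero] at h3
    exact Nat.card_pos.ne' h3.symm
  have h6 := Subgroup.card_mul_index N
  have h7 : 2 ≤ M.relIndex N := by omega
  calc 2 * Set.ncard {x : G | ∃ g : G, g⁻¹ * x * g ∈ M} ≤ 2 * (N.index * Nat.card M) := by gcongr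
    _ = Nat.card M * 2 * N.index := by ring
    _ ≤ Nat.card M * M.relIndex N * N.index := by gcongr
    _ = Nat.card G := by rw [h3, h6]

variable [Finite G]

/-- (b) no involution modulo the center inverts a `p`-element -/
theorem Dat.false_of_inverted (D : Dat p G) (hp2 : p ≠ 2) {t y : G} (ht : Inv t) (hy1 : y ≠ 1)
    (hyp : ∃ k : ℕ, y ^ (p ^ k) = 1) (hty : t * y * t⁻¹ = y⁻¹) : False := by
  classical
  haveI : Fact p.Prime := ⟨D.hp⟩
  obtain ⟨hL1, hL2⟩ := D.inverted hp2 ht hy1 hyp hty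
  -- a Sylow subgroup containing `y`
  have hyz : IsPGroup p (zpowers y) := by
    obtain ⟨k, hk⟩ := hyp
    rw [isPGroup_iff_pow]
    rintro z hz
    obtain ⟨m, rfl⟩ := mem_zpowers_iff.mp hz
    refine ⟨k, ?_⟩
    rw [← zpow_natCast, ← zpow_mul, mul_comm, zpow_mul, zpow_natCast, hk, one_zpow]
  obtain ⟨P, hP⟩ := hyz.exists_le_sylow
  have hyP : y ∈ P := hP (mem_zpowers y)
  have hPp : ∀ u ∈ P, ∃ k : ℕ, u ^ (p ^ k) = 1 := (isPGroup_iff_pow (P : Subgroup G)).mp P.2
  -- central element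
  have hPne : Nontrivial P := ⟨⟨y, hyP⟩, 1, fun h => hy1 (congrArg Subtype.val h)⟩
  haveI := P.2.center_nontrivial
  obtain ⟨⟨z, hz⟩, hz1⟩ := exists_ne (1 : center P)
  have hz1' : (z : G) ≠ 1 := fun h => hz1 (Subtype.ext (Subtype.ext h))
  have hzc : ∀ u ∈ P, Commute (z : G) u := by
    intro u hu
    have := mem_center_iff.mp hz ⟨u, hu⟩
    exact (congrArg Subtype.val this).symm
  obtain ⟨hM1, hM2⟩ := D.inverted hp2 ht hz1' (hPp z z.2) (hL1 z (hPp z z.2) (hzc y hyP).symm)
  have hPy : ∀ u ∈ P, Commute y u := fun u hu =>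
    hM2 y u hyp (hPp u hu) (hzc y hyP) (hzc u hu)
  -- the cover
  obtain ⟨x, hx⟩ := D.exists_X
  set H := centralizer ({x} : Set G) with hH
  set M := centralizer ({y} : Set G) with hM
  have hHn : ∃ g ∈ normalizer (H : Set G), g ∉ H := by
    obtain ⟨q, hq, hqp, hmove⟩ := D.exists_move
    obtain ⟨g, -, hgx, hgn⟩ := hmove x hx
    refine ⟨g, ?_, fun h => hgn (mem_centralizer_singleton_iff.mp h)⟩
    apply mem_normalizer_of_conj
    intro u hu
    rw [mem_centralizer_singleton_iff] at hu ⊢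
    have hxu : Commute x u := hu.symm
    exact (D.trans hx (hx.conj g) hgx.symm (commute_conj hxu)).eq.symm
  have hMn : ∃ g ∈ normalizer (M : Set G), g ∉ M := by
    refine ⟨t, ?_, fun h => ?_⟩
    · apply mem_normalizer_of_conj
      intro u hu
      rw [mem_centralizer_singleton_iff] at hu ⊢
      have hyu : Commute y u := hu.symm
      have := commute_conj (g := t) hyu
      rw [hty] at this
      exact (Commute.inv_left_iff.mp this).eq.symm
    · have h1 := mem_centralizer_singleton_iff.mp h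
      rw [h1] at hty
      have h2 : y = y⁻¹ := by rw [← hty]; group
      obtain ⟨k, hk⟩ := hyp
      have h3 : orderOf y ∣ p ^ k := orderOf_dvd_of_pow_eq_one hk
      have h4 : orderOf y ∣ 2 := by
        apply orderOf_dvd_of_pow_eq_one
        rw [pow_two]; nth_rewrite 1 [h2]; group
      have h5 : (p ^ k).Coprime 2 := Nat.Coprime.pow_left k ((Nat.coprime_primes D.hp Nat.prime_two).mpr hp2)
      exact hy1 (orderOf_eq_one_iff.mp (Nat.eq_one_of_dvd_coprimes h5 h3 h4))
  have h1 := two_mul_conj_le H hHn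
  have h2 := two_mul_conj_le M hMn
  set A := {x : G | ∃ g : G, g⁻¹ * x * g ∈ H} with hA
  set B := {x : G | ∃ g : G, g⁻¹ * x * g ∈ M} with hB
  have hAB : A ∪ B = Set.univ := by
    rw [Set.eq_univ_iff_forall]
    intro g
    by_cases hg : (orderOf g).Coprime p
    · left
      by_cases hgc : g ∈ center G
      · refine ⟨1, ?_⟩
        have : (1 : G)⁻¹ * g * 1 = g := by group
        rw [this]
        exact mem_centralizer_singleton_iff.mpr (commute_of_center hgc x).eq
      · obtain ⟨h, hh⟩ := D.cl ⟨hg, hgc⟩ hx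
        refine ⟨h, mem_centralizer_singleton_iff.mpr ?_⟩
        have := commute_conj (g := h⁻¹) hh
        have e1 : h⁻¹ * (h * x * h⁻¹) * h⁻¹⁻¹ = x := by group
        rw [e1, inv_inv] at this
        exact this.eq
    · right
      obtain ⟨a, b, hab, ⟨j, hj⟩, hb⟩ := H70.Real.exists_decomp p D.hp g
      have hb' : (orderOf (g ^ b)).Coprime p := ((Nat.Prime.coprime_iff_not_dvd D.hp).mpr hb).symm
      have ha1 : g ^ a ≠ 1 := by
        intro h
        rw [h, one_mul] at hab
        rw [hab] at hb'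
        exact hg hb'
      have ha2 : (g ^ a) ^ (p ^ j) = 1 := by rw [← hj]; exact pow_orderOf_eq_one _
      have hbc : g ^ b ∈ center G := D.mem_center_of_commute ha1 ha2 hb'
        ((Commute.refl g).pow_pow b a)
      -- `g^a` lies in a conjugate of `P`
      have haz : IsPGroup p (zpowers (g ^ a)) := by
        rw [isPGroup_iff_pow]
        rintro z hz
        obtain ⟨m, rfl⟩ := mem_zpowers_iff.mp hz
        refine ⟨j, ?_⟩
        rw [← zpow_natCast, ← zpow_mul, mul_comm, zpow_mul, zpow_natCast, ha2, one_zpow]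
      obtain ⟨P', hP'⟩ := haz.exists_le_sylow
      obtain ⟨h, hh⟩ := MulAction.exists_smul_eq G P P'
      have h3 : g ^ a ∈ (P' : Subgroup G) := hP' (mem_zpowers _)
      rw [← hh, Sylow.coe_subgroup_smul] at h3
      obtain ⟨u, hu, hua⟩ := h3
      simp only [MulDistribMulAction.toMonoidEnd_apply, MulDistribMulAction.toMonoidHom_apply, MulAut.smul_def, MulAut.conj_apply] at hua
      refine ⟨h, mem_centralizer_singleton_iff.mpr ?_⟩
      have h4 : h⁻¹ * g * h = u * g ^ b := by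
        calc h⁻¹ * g * h = h⁻¹ * (g ^ a * g ^ b) * h := by rw [hab]
          _ = h⁻¹ * (h * u * h⁻¹) * (g ^ b * h) := by rw [hua]; group
          _ = u * g ^ b := by rw [(commute_of_center hbc h).eq]; group
      rw [h4]
      exact ((hPy u hu).symm.mul_left (commute_of_center hbc y)).eq
  have h1mem : (1 : G) ∈ A ∩ B := ⟨⟨1, by simp [one_mem]⟩, ⟨1, by simp [one_mem]⟩⟩
  have h3 := Set.ncard_union_add_ncard_inter A B (Set.toFinite _) (Set.toFinite _)
  rw [hAB, Set.ncard_univ] at h3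
  have h4 : 0 < Set.ncard (A ∩ B) := (Set.ncard_pos (Set.toFinite _)).mpr ⟨1, h1mem⟩
  omega

/-- (c) -/
theorem Dat.mul_inv (D : Dat p G) (hp2 : p ≠ 2) {t s : G} (ht : Inv t) (hs : Inv s) (hw : t * s ∉ center G) :
    X p (t * s) ∧ Commute (t * (t * s) * t⁻¹) (t * s) ∧ Commute (s * (t * s) * s⁻¹) (t * s) := by
  set w := t * s with hwdef
  have hc : (t * t) * (s * s) ∈ center G := mul_mem ht.2 hs.2
  have e1 : t * w * t⁻¹ = (t * t) * (s * s) * w⁻¹ := by
    have h1 : (t * t) * (s * s) * w⁻¹ = (t * t) * (s * s * s⁻¹ * t⁻¹) := by rw [hwdef]; group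
    rw [h1, hwdef]; group
  have e2 : s * w * s⁻¹ = (t * t) * (s * s) * w⁻¹ := by
    have h1 : (t * t) * (s * s) * w⁻¹ = (t * t) * (s * t⁻¹) := by rw [hwdef]; group
    rw [h1, (commute_of_center ht.2 (s * t⁻¹)).eq, hwdef]; group
  have hcomm : Commute ((t * t) * (s * s) * w⁻¹) w :=
    (commute_of_center hc w).mul_left (Commute.refl w).inv_left
  refine ⟨⟨?_, hw⟩, by rw [e1]; exact hcomm, by rw [e2]; exact hcomm⟩
  obtain ⟨a, b, hab, ⟨j, hj⟩, hb⟩ := H70.Real.exists_decomp p D.hp w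
  have hb' : (orderOf (w ^ b)).Coprime p := ((Nat.Prime.coprime_iff_not_dvd D.hp).mpr hb).symm
  by_cases ha1 : w ^ a = 1
  · rw [ha1, one_mul] at hab
    rwa [hab] at hb'
  exfalso
  have ha2 : (w ^ a) ^ (p ^ j) = 1 := by rw [← hj]; exact pow_orderOf_eq_one _
  -- `t w^a t⁻¹ = c^a w^-a`
  have e3 : t * w ^ a * t⁻¹ = ((t * t) * (s * s)) ^ a * (w ^ a)⁻¹ := by
    rw [← conj_pow, e1, (commute_of_center hc w⁻¹).mul_pow, inv_pow]
  have hca : ((t * t) * (s * s)) ^ a ∈ center G := pow_mem hc a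
  have e4 : (((t * t) * (s * s)) ^ a) ^ (p ^ j) = 1 := by
    have h1 : ((t * t) * (s * s)) ^ a = t * w ^ a * t⁻¹ * w ^ a := by rw [e3]; group
    have h2 : Commute (t * w ^ a * t⁻¹) (w ^ a) := by
      rw [e3]
      exact (commute_of_center hca _).mul_left (Commute.refl _).inv_left
    rw [h1, h2.mul_pow, ha2, mul_one, conj_pow, ha2]; group
  have e5 : ((t * t) * (s * s)) ^ a = 1 := by
    have h1 := D.center_coprime hca
    have h2 : orderOf (((t * t) * (s * s)) ^ a) ∣ p ^ j := orderOf_dvd_of_pow_eq_one e4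
    exact orderOf_eq_one_iff.mp (Nat.eq_one_of_dvd_coprimes (Nat.Coprime.pow_right j h1) dvd_rfl h2)
  rw [e5, one_mul] at e3
  exact D.false_of_inverted hp2 ht ha1 ⟨j, ha2⟩ e3

/-- existence of involutions modulo the center -/
theorem Dat.exists_inv (D : Dat p G) (hp2 : p ≠ 2) {x : G} (hx : X p x) : ∃ u : G, Inv u ∧ Commute x u := by
  classical
  obtain ⟨y, hy, hyc⟩ := exists_mem_T D.hA D.hB D.hp Nat.prime_two (Ne.symm hp2) D.nc_two hx.1 hx.2
  obtain ⟨⟨k, hk⟩, hxy⟩ := (D.hA.mem_T D.hp Nat.prime_two (Ne.symm hp2) hx.1 hx.2).mp hy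
  have hex : ∃ j : ℕ, y ^ (2 ^ j) ∈ center G := ⟨k, by rw [hk]; exact one_mem _⟩
  have h1 := Nat.find_spec hex
  set j := Nat.find hex with hj
  have h0 : j ≠ 0 := by
    intro h
    rw [h] at h1
    exact hyc (by simpa using h1)
  obtain ⟨i, hi⟩ := Nat.exists_eq_succ_of_ne_zero h0
  have h2 : y ^ (2 ^ i) ∉ center G := fun h => by
    have := Nat.find_min' hex h
    omega
  refine ⟨y ^ (2 ^ i), ⟨h2, ?_⟩, hxy.pow_right _⟩
  rw [← pow_add, ← mul_two, ← pow_succ]
  rw [hi] at h1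
  exact h1

/-- commuting modulo the center, but not commuting -/
def Perp (t s : G) : Prop := t * s * t⁻¹ * s⁻¹ ∈ center G ∧ ¬ Commute t s

omit [Finite G] in
theorem Perp.symm {t s : G} (h : Perp t s) : Perp s t := by
  refine ⟨?_, fun h' => h.2 h'.symm⟩
  have h1 := inv_mem h.1
  have h2 : (t * s * t⁻¹ * s⁻¹)⁻¹ = s * t * s⁻¹ * t⁻¹ := by group
  rwa [h2] at h1

theorem Dat.perp_of (D : Dat p G) {t s : G} (ht : t * t ∈ center G) (hsX : X p s) (hs : s * s ∈ center G)
    (h1 : Commute (t * s * t⁻¹) s) (h2 : ¬ Commute t s) : Perp t s := by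
  refine ⟨?_, h2⟩
  have h3 := D.inverts hsX ht h1 h2 (Commute.refl s)
  have h4 : t * s * t⁻¹ * s⁻¹ = (s * (t * s * t⁻¹)) * (s * s)⁻¹ := by
    rw [← h1.eq]; group
  rw [h4]
  exact mul_mem h3 (inv_mem hs)

omit [Finite G] in
theorem Perp.commute {t s : G} (h : Perp t s) : Commute (t * s * t⁻¹) s := by
  have h1 : t * s * t⁻¹ = (t * s * t⁻¹ * s⁻¹) * s := by group
  rw [h1]
  exact (commute_of_center h.1 s).mul_left (Commute.refl s)

theorem Dat.perp_congr (D : Dat p G) (hp2 : p ≠ 2) {t s s' : G} (ht : Inv t) (hs : Inv s) (hs' : Inv s')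
    (h : Perp t s) (hc : Commute s s') : Perp t s' := by
  have hsX := D.inv_X hp2 hs
  have hs'X := D.inv_X hp2 hs'
  have h1 : Commute s (t * s' * t⁻¹) := D.trans hsX (hsX.conj t) h.commute.symm (commute_conj hc)
  have h2 : Commute (t * s' * t⁻¹) s' := D.comm hsX h1 hc
  refine D.perp_of ht.2 hs'X hs'.2 h2 (fun h3 => h.2 ?_)
  exact (D.trans hsX hs'X hc h3.symm).symm

/-- the product of two noncommuting involutions modulo the center: `t`, `s` are perpendicular to
every involution modulo the center in `C(ts)` -/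
theorem Dat.perp_mul (D : Dat p G) (hp2 : p ≠ 2) {t s u : G} (ht : Inv t) (hs : Inv s) (hts : ¬ Commute t s)
    (hu : Inv u) (hwu : Commute (t * s) u) : Perp t u ∧ Perp s u := by
  have hw : t * s ∉ center G := by
    intro h
    apply hts
    have h1 := (commute_of_center h t).symm
    have h2 : s = t⁻¹ * (t * s) := by group
    rw [h2]
    exact (Commute.refl t).inv_right.mul_right h1
  obtain ⟨hwX, h1, h2⟩ := D.mul_inv hp2 ht hs hw
  have huX := D.inv_X hp2 hu
  have hn1 : ¬ Commute t (t * s) := by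
    intro h
    apply hts
    have h2 : s = t⁻¹ * (t * s) := by group
    rw [h2]
    exact (Commute.refl t).inv_right.mul_right h
  have hn2 : ¬ Commute s (t * s) := by
    intro h
    apply hts
    have h2 : t = (t * s) * s⁻¹ := by group
    rw [h2]
    exact h.symm.mul_left (Commute.refl s).inv_left
  have key : ∀ v : G, v * v ∈ center G → Commute (v * (t * s) * v⁻¹) (t * s) → ¬ Commute v (t * s) → Perp v u := by
    intro v hv hv1 hv2
    have h3 : Commute (t * s) (v * u * v⁻¹) := D.trans hwX (hwX.conj v) hv1.symm (commute_conj hwu)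
    refine D.perp_of hv huX hu.2 (D.comm hwX h3 hwu) (fun h4 => hv2 ?_)
    exact (D.trans hwX huX hwu h4.symm).symm
  exact ⟨key t ht.2 h1 hn1, key s hs.2 h2 hn2⟩

/-- uniqueness of the common neighbour -/
theorem Dat.perp_unique (D : Dat p G) (hp2 : p ≠ 2) {t s u : G} (ht : Inv t) (hs : Inv s)
    (hu : Inv u) (htu : Perp t u) (hsu : Perp s u) : Commute (t * s) u :=
  D.commute_mul (D.inv_X hp2 hu) ht.2 hs.2 htu.commute htu.2 hsu.commute hsu.2

omit [Finite G] in
theorem Dat.cent_eq (D : Dat p G) {x y : G} (hx : X p x) (hy : X p y) (h : Commute x y) :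
    centralizer ({x} : Set G) = centralizer ({y} : Set G) := by
  ext g
  rw [mem_centralizer_singleton_iff, mem_centralizer_singleton_iff]
  exact ⟨fun h1 => (D.trans hy hx h.symm (Commute.symm h1)).eq.symm,
    fun h1 => (D.trans hx hy h (Commute.symm h1)).eq.symm⟩

omit [Finite G] in
theorem commute_of_cent_eq {x y : G} (h : centralizer ({x} : Set G) = centralizer ({y} : Set G)) : Commute x y := by
  have : x ∈ centralizer ({x} : Set G) := mem_centralizer_singleton_iff.mpr rfl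
  rw [h, mem_centralizer_singleton_iff] at this
  exact this

/-- (d): any two noncommuting involutions modulo the center are perpendicular -/
theorem Dat.perp_all (D : Dat p G) (hp2 : p ≠ 2) {t s : G} (ht : Inv t) (hs : Inv s) (hts : ¬ Commute t s) :
    Perp t s := by
  classical
  let V := {H : Subgroup G // ∃ t : G, Inv t ∧ centralizer ({t} : Set G) = H}
  haveI : Fintype V := Fintype.ofFinite V
  haveI : Nonempty V := ⟨⟨_, t, ht, rfl⟩⟩
  let Γ : SimpleGraph V :=
    { Adj := fun H K => ∃ t s : G, Inv t ∧ Inv s ∧ centralizer ({t} : Set G) = H.1 ∧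
        centralizer ({s} : Set G) = K.1 ∧ Perp t s
      symm := ⟨by
        rintro H K ⟨t, s, h1, h2, h3, h4, h5⟩
        exact ⟨s, t, h2, h1, h4, h3, h5.symm⟩⟩
      loopless := ⟨by
        rintro H ⟨t, s, h1, h2, h3, h4, h5⟩
        exact h5.2 (commute_of_cent_eq (h3.trans h4.symm))⟩ }
  have hadj : ∀ (H K : V), Γ.Adj H K → ∀ t s : G, Inv t → Inv s → centralizer ({t} : Set G) = H.1 →
      centralizer ({s} : Set G) = K.1 → Perp t s := by
    rintro H K ⟨t', s', h1, h2, h3, h4, h5⟩ t s ht hs ht' hs'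
    have c1 : Commute s' s := commute_of_cent_eq (h4.trans hs'.symm)
    have c2 : Commute t' t := commute_of_cent_eq (h3.trans ht'.symm)
    have h6 := D.perp_congr hp2 h1 h2 hs h5 c1
    exact (D.perp_congr hp2 hs h1 ht h6.symm c2).symm
  have hfr : H70.Friendship.IsFriendship Γ := by
    apply H70.Friendship.isFriendship_of
    rintro ⟨H, t, ht, rfl⟩ ⟨K, s, hs, rfl⟩ hne
    have hts : ¬ Commute t s := by
      intro h
      exact hne (Subtype.ext (D.cent_eq (D.inv_X hp2 ht) (D.inv_X hp2 hs) h))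
    have hw : t * s ∉ center G := by
      intro h
      apply hts
      have h1 := (commute_of_center h t).symm
      have h2 : s = t⁻¹ * (t * s) := by group
      rw [h2]
      exact (Commute.refl t).inv_right.mul_right h1
    obtain ⟨hwX, -, -⟩ := D.mul_inv hp2 ht hs hw
    obtain ⟨u, hu, hwu⟩ := D.exists_inv hp2 hwX
    obtain ⟨h1, h2⟩ := D.perp_mul hp2 ht hs hts hu hwu
    refine ⟨⟨_, u, hu, rfl⟩, ⟨⟨t, u, ht, hu, rfl, rfl, h1⟩, ⟨s, u, hs, hu, rfl, rfl, h2⟩⟩, ?_⟩
    rintro ⟨L, v, hv, rfl⟩ h3 h4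
    have h5 := hadj _ _ h3 t v ht hv rfl rfl
    have h6 := hadj _ _ h4 s v hs hv rfl rfl
    have h7 := D.perp_unique hp2 ht hs hv h5 h6
    apply Subtype.ext
    have h8 : Commute v u := D.trans (D.inv_X hp2 hv) hwX h7.symm hwu
    exact D.cent_eq (D.inv_X hp2 hv) (D.inv_X hp2 hu) h8
  obtain ⟨⟨H0, t0, ht0, rfl⟩, hpol⟩ := H70.Friendship.friendship_theorem hfr
  obtain ⟨g, hg⟩ := D.cl (D.inv_X hp2 ht) (D.inv_X hp2 ht0)
  have hs' : Inv (g⁻¹ * s * g) := by
    have := hs.conj g⁻¹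
    rwa [inv_inv] at this
  have hne : (⟨_, t0, ht0, rfl⟩ : V) ≠ ⟨_, g⁻¹ * s * g, hs', rfl⟩ := by
    intro h
    have h1 : centralizer ({t0} : Set G) = centralizer ({g⁻¹ * s * g} : Set G) := congrArg Subtype.val h
    have h2 := commute_conj (g := g) (commute_of_cent_eq h1)
    have h3 : g * (g⁻¹ * s * g) * g⁻¹ = s := by group
    rw [h3] at h2
    exact hts (D.trans (D.inv_X hp2 ht) ((D.inv_X hp2 ht0).conj g) hg h2)
  have h1 := hadj _ _ (hpol _ hne) t0 _ ht0 hs' rfl rfl
  have h2 : Perp (g * t0 * g⁻¹) s := by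
    refine ⟨?_, fun h => h1.2 ?_⟩
    · have h3 := (inferInstance : (center G).Normal).conj_mem _ h1.1 g
      have h4 : g * (t0 * (g⁻¹ * s * g) * t0⁻¹ * (g⁻¹ * s * g)⁻¹) * g⁻¹ =
          g * t0 * g⁻¹ * s * (g * t0 * g⁻¹)⁻¹ * s⁻¹ := by group
      rwa [h4] at h3
    · have h3 := commute_conj (g := g⁻¹) h
      have h4 : g⁻¹ * (g * t0 * g⁻¹) * g⁻¹⁻¹ = t0 := by group
      rw [h4, inv_inv] at h3
      exact h3
  exact (D.perp_congr hp2 hs (ht0.conj g) ht h2.symm hg.symm).symm

/-- (e): an element of odd order commuting with `t` normalizes `C(s)` -/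
theorem Dat.fix_class (D : Dat p G) (hp2 : p ≠ 2) {t s a : G} (ht : Inv t) (hs : Inv s) (hts : ¬ Commute t s)
    (hat : Commute a t) (hao : Odd (orderOf a)) : Commute (a * s * a⁻¹) s := by
  have htX := D.inv_X hp2 ht
  have hsX := D.inv_X hp2 hs
  -- classes: every involution mod center commutes with `t`, `s` or `t s`
  have hw : t * s ∉ center G := by
    intro h
    apply hts
    have h1 := (commute_of_center h t).symm
    have h2 : s = t⁻¹ * (t * s) := by group
    rw [h2]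
    exact (Commute.refl t).inv_right.mul_right h1
  obtain ⟨hwX, -, -⟩ := D.mul_inv hp2 ht hs hw
  have hcls : ∀ v : G, Inv v → Commute v t ∨ Commute v s ∨ Commute v (t * s) := by
    intro v hv
    by_cases h1 : Commute v t
    · exact Or.inl h1
    by_cases h2 : Commute v s
    · exact Or.inr (Or.inl h2)
    · exact Or.inr (Or.inr (D.perp_unique hp2 ht hs hv (D.perp_all hp2 hv ht h1).symm
        (D.perp_all hp2 hv hs h2).symm).symm)
  have hat' : a * t * a⁻¹ = t := by rw [hat.eq]; group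
  have hat'' : a⁻¹ * t * a = t := by rw [mul_assoc, ← hat.eq]; group
  have hnt : ∀ v : G, ¬ Commute v t → ¬ Commute (a * v * a⁻¹) t := by
    intro v hv h
    apply hv
    have h1 := commute_conj (g := a⁻¹) h
    have h2 : a⁻¹ * (a * v * a⁻¹) * a⁻¹⁻¹ = v := by group
    rw [h2, inv_inv, hat''] at h1
    exact h1
  have hst : ¬ Commute s t := fun h => hts h.symm
  have h1 : Commute (a ^ 2 * s * (a ^ 2)⁻¹) s := by
    have e1 : a ^ 2 * s * (a ^ 2)⁻¹ = a * (a * s * a⁻¹) * a⁻¹ := by rw [pow_two]; group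
    set b := a * s * a⁻¹ with hb
    have hbI : Inv b := hs.conj a
    have hbX := D.inv_X hp2 hbI
    have hbt : ¬ Commute b t := hnt s hst
    have hcI : Inv (a * b * a⁻¹) := hbI.conj a
    have hct : ¬ Commute (a * b * a⁻¹) t := hnt b hbt
    rw [e1]
    rcases hcls b hbI with h | h | h
    · exact absurd h hbt
    · -- `b ~ s`
      have h2 := commute_conj (g := a) h
      rw [← hb] at h2
      exact D.trans (D.inv_X hp2 hcI) hbX h2 h
    · rcases hcls _ hcI with h' | h' | h'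
      · exact absurd h' hct
      · exact h'
      · -- `a b a⁻¹ ~ w ~ b`, hence `b ~ s`
        have h2 : Commute (a * b * a⁻¹) b := D.trans (D.inv_X hp2 hcI) hwX h' h.symm
        have h3 := commute_conj (g := a⁻¹) h2
        have e2 : a⁻¹ * (a * b * a⁻¹) * a⁻¹⁻¹ = b := by group
        have e3 : a⁻¹ * b * a⁻¹⁻¹ = s := by rw [hb]; group
        rw [e2, e3] at h3
        exact D.trans (D.inv_X hp2 hcI) hbX h2 h3
  have h2 : a ^ 2 ∈ normalizer (Hs p s : Set G) := (mem_normalizer_Hs D.hA hsX.1 hsX.2).mpr h1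
  obtain ⟨m, hm⟩ := hao
  have h3 : a = (a ^ 2) ^ (m + 1) := by
    rw [← pow_mul]
    have : 2 * (m + 1) = orderOf a + 1 := by omega
    rw [this, pow_succ, pow_orderOf_eq_one, one_mul]
  have h4 : a ∈ normalizer (Hs p s : Set G) := by rw [h3]; exact pow_mem h2 _
  exact (mem_normalizer_Hs D.hA hsX.1 hsX.2).mp h4

theorem Dat.false_odd (D : Dat p G) (hp2 : p ≠ 2) : False := by
  obtain ⟨x, hx⟩ := D.exists_X
  obtain ⟨t, ht, hxt⟩ := D.exists_inv hp2 hx
  have htX := D.inv_X hp2 ht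
  obtain ⟨y, hy, hyt⟩ := D.exists_not_commute htX
  obtain ⟨s, hs, hys⟩ := D.exists_inv hp2 hy
  have hsX := D.inv_X hp2 hs
  have hts : ¬ Commute t s := fun h => hyt (D.trans hy hsX hys h.symm)
  have hst : ¬ Commute s t := fun h => hts h.symm
  obtain ⟨q, hq, hqp, hq2, hnc⟩ := D.exists_prime 2
  obtain ⟨a, ha, hac⟩ := exists_mem_T D.hA D.hB D.hp hq hqp hnc htX.1 htX.2
  obtain ⟨b, hb, hbc⟩ := exists_mem_T D.hA D.hB D.hp hq hqp hnc hsX.1 hsX.2
  obtain ⟨⟨k, hk⟩, hta⟩ := (D.hA.mem_T D.hp hq hqp htX.1 htX.2).mp ha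
  obtain ⟨⟨l, hl⟩, hsb⟩ := (D.hA.mem_T D.hp hq hqp hsX.1 hsX.2).mp hb
  have haX : X p a := ⟨coprime_of_pow D.hp hq hqp hk, hac⟩
  have hbX : X p b := ⟨coprime_of_pow D.hp hq hqp hl, hbc⟩
  have hao : Odd (orderOf a) := Nat.coprime_two_right.mp (coprime_of_pow Nat.prime_two hq hq2 hk)
  have hbo : Odd (orderOf b) := Nat.coprime_two_right.mp (coprime_of_pow Nat.prime_two hq hq2 hl)
  have h1 := D.fix_class hp2 ht hs hts hta.symm hao
  have h2 := D.fix_class hp2 hs ht hst hsb.symm hbo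
  -- the commutator
  have h3 : Commute s (a * b * a⁻¹) := D.trans hsX (hsX.conj a) h1.symm (commute_conj hsb)
  have h4 : Commute t (b * a * b⁻¹) := D.trans htX (htX.conj b) h2.symm (commute_conj hta)
  set c := a * b * a⁻¹ * b⁻¹ with hc
  have h5 : Commute s c := h3.mul_right hsb.inv_right
  have h6 : Commute t c := by
    have e1 : c = a * (b * a * b⁻¹)⁻¹ := by rw [hc]; group
    rw [e1]
    exact hta.mul_right h4.inv_right
  have hcc : c ∈ center G := by
    by_contra h
    have hcX : X p c := ⟨D.coprime_of_commute hsX h5, h⟩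
    exact hst (D.trans hsX hcX h5 h6.symm)
  have e1 : a * b * a⁻¹ = b * c := by
    rw [← (commute_of_center hcc b).eq, hc]; group
  -- `t` inverts `b` modulo the center
  have hpts := D.perp_all hp2 ht hs hts
  have h7 := D.inverts hsX ht.2 hpts.commute hts hsb
  set d := b * (t * b * t⁻¹) with hd
  have e2 : t * b * t⁻¹ = b⁻¹ * d := by rw [hd]; group
  have e3 : a * (b⁻¹ * d) * a⁻¹ = b⁻¹ * d * c := by
    have h8 : t * (a * b * a⁻¹) * t⁻¹ = t * (b * c) * t⁻¹ := by rw [e1]
    have h9 : t * (a * b * a⁻¹) * t⁻¹ = a * (t * b * t⁻¹) * a⁻¹ := by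
      have h10 : t * a = a * t := hta.eq
      calc t * (a * b * a⁻¹) * t⁻¹ = (t * a) * b * (t * a)⁻¹ := by group
        _ = (a * t) * b * (a * t)⁻¹ := by rw [h10]
        _ = a * (t * b * t⁻¹) * a⁻¹ := by group
    have h10 : t * (b * c) * t⁻¹ = (t * b * t⁻¹) * c := by
      have h11 : t * (b * c) * t⁻¹ = t * b * (c * t⁻¹) := by group
      rw [h11, (commute_of_center hcc t⁻¹).eq]; group
    rw [h9, h10, e2] at h8
    exact h8
  have e4 : a * b⁻¹ * a⁻¹ = b⁻¹ * c := by
    have h8 : a * (b⁻¹ * d) * a⁻¹ = a * b⁻¹ * a⁻¹ * d := by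
      have h11 : a * (b⁻¹ * d) * a⁻¹ = a * b⁻¹ * (d * a⁻¹) := by group
      rw [h11, (commute_of_center h7 a⁻¹).eq]; group
    rw [h8] at e3
    have h9 : b⁻¹ * d * c = b⁻¹ * c * d := by
      rw [mul_assoc, (commute_of_center h7 c).eq, ← mul_assoc]
    rw [h9] at e3
    exact mul_right_cancel e3
  have e5 : c * c = 1 := by
    have h8 : (a * b * a⁻¹) * (a * b⁻¹ * a⁻¹) = 1 := by group
    rw [e1, e4] at h8
    have h9 : b * c * (b⁻¹ * c) = c * c := by
      rw [mul_assoc, ← mul_assoc c, (commute_of_center hcc b⁻¹).eq]; group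
    rwa [h9] at h8
  have e6 : c ^ (q ^ l) = 1 := by
    have h8 : (a * b * a⁻¹) ^ (q ^ l) = 1 := by rw [conj_pow, hl]; group
    rw [e1, (commute_of_center hcc b).symm.mul_pow, hl, one_mul] at h8
    exact h8
  have e7 : c = 1 := by
    have h8 : orderOf c ∣ 2 := orderOf_dvd_of_pow_eq_one (by rw [pow_two]; exact e5)
    have h9 : orderOf c ∣ q ^ l := orderOf_dvd_of_pow_eq_one e6
    have h10 : (q ^ l).Coprime 2 := Nat.Coprime.pow_left l ((Nat.coprime_primes hq Nat.prime_two).mpr hq2)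
    exact orderOf_eq_one_iff.mp (Nat.eq_one_of_dvd_coprimes h10 h9 h8)
  rw [e7, mul_one] at e1
  have hab : Commute a b := commute_of_conj_eq e1
  exact hts (D.trans htX haX hta (D.trans haX hbX hab hsb.symm))

/-- MAIN THEOREM for `O_p(G) = 1` -/
theorem Dat.false (D : Dat p G) : False := by
  by_cases hp2 : p = 2
  · subst hp2; exact D.false_two
  · exact D.false_odd hp2

end H70.RegT
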