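import Mathlib
import Cfsg.Agent.Lib.H70.RegE
import Cfsg.Agent.Lib.H66.CoprimeConj
import Cfsg.Agent.Lib.H70.ClassSize

/-!
Reduction to the case `O_p(G) = 1`.
-/

set_option autoImplicit false

namespace H70.RegT

open Subgroup Cfsg
open scoped Pointwise commutatorElement

universe u

variable {G : Type u} [Group G] {p : ℕ}

/-- coprime lifting of centralizers, for `q`-elements modulo a normal `p`-subgroup -/
theorem exists_fix [Finite G] (hp : p.Prime) {q : ℕ} (hq : q.Prime) (hqp : q ≠ p) (O : Subgroup G) [O.Normal]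
    (hO : IsPGroup p O) {x g : G} {k : ℕ} (hx : x ^ (q ^ k) = 1) (h : g * x * g⁻¹ * x⁻¹ ∈ O) :
    ∃ o ∈ O, Commute (o⁻¹ * g) x := by
  haveI : Fact q.Prime := ⟨hq⟩
  haveI : Fact p.Prime := ⟨hp⟩
  obtain ⟨n, hn⟩ := IsPGroup.iff_card.mp hO
  have hcop : (Nat.card O).Coprime q := by
    rw [hn]; exact Nat.Coprime.pow_left n ((Nat.coprime_primes hp hq).mpr (Ne.symm hqp))
  have hz : IsPGroup q (zpowers x) := by
    rw [isPGroup_iff_pow]
    rintro z hz
    obtain ⟨m, rfl⟩ := mem_zpowers_iff.mp hz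
    refine ⟨k, ?_⟩
    rw [← zpow_natCast, ← zpow_mul, mul_comm, zpow_mul, zpow_natCast, hx, one_zpow]
  have hle : zpowers (g * x * g⁻¹) ≤ O ⊔ zpowers x := by
    rw [zpowers_le]
    have h1 : g * x * g⁻¹ = (g * x * g⁻¹ * x⁻¹) * x := by group
    rw [h1]
    exact mul_mem (mem_sup_left h) (mem_sup_right (mem_zpowers x))
  have hcard : Nat.card (zpowers x) = Nat.card (zpowers (g * x * g⁻¹)) := by
    rw [Nat.card_zpowers, Nat.card_zpowers, orderOf_conj']
  obtain ⟨o, ho, hQ⟩ := H66.CoprimeConj.exists_conj_of_le_sup O (zpowers x) (zpowers (g * x * g⁻¹)) hcop hz hle hcard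
  have h1 : g * x * g⁻¹ ∈ (zpowers x).map (MulAut.conj o).toMonoidHom := by
    rw [← hQ]; exact mem_zpowers _
  obtain ⟨y, hy, hyx⟩ := h1
  simp only [MulEquiv.coe_toMonoidHom, MulAut.conj_apply] at hyx
  have hOn : O.Normal := inferInstance
  -- `y x⁻¹ ∈ O`
  have h2 : y * x⁻¹ ∈ O := by
    have h4 : o * y * o⁻¹ * x⁻¹ ∈ O := by rw [hyx]; exact h
    have h5 : y * x⁻¹ = o⁻¹ * (o * y * o⁻¹ * x⁻¹) * (x * o * x⁻¹) := by group
    rw [h5]
    exact mul_mem (mul_mem (inv_mem ho) h4) (hOn.conj_mem o ho x)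
  have h3 : y * x⁻¹ ∈ zpowers x := mul_mem hy (inv_mem (mem_zpowers x))
  have h4 : y * x⁻¹ = 1 := by
    have h5 := H66.CoprimeConj.disjoint_of_coprime_pgroup O (zpowers x) hcop hz
    have h6 : y * x⁻¹ ∈ O ⊓ zpowers x := mem_inf.mpr ⟨h2, h3⟩
    rwa [h5, mem_bot] at h6
  have h5 : y = x := mul_inv_eq_one.mp h4
  refine ⟨o, ho, commute_of_conj_eq ?_⟩
  calc o⁻¹ * g * x * (o⁻¹ * g)⁻¹ = o⁻¹ * (g * x * g⁻¹) * o := by group
    _ = o⁻¹ * (o * y * o⁻¹) * o := by rw [hyx]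
    _ = x := by rw [h5]; group

/-- a noncentral element has a noncentral power of prime power order -/
theorem exists_primary [Finite G] {x : G} (hx : x ∉ center G) :
    ∃ z ∈ zpowers x, ∃ q k : ℕ, q.Prime ∧ z ^ (q ^ k) = 1 ∧ z ∉ center G := by
  by_contra hcon
  push Not at hcon
  apply hx
  apply H70.SylowSub.mem_of_parts (center G) (orderOf x) x rfl
  rintro z hz ⟨q, k, hq, hk⟩
  exact hcon z hz q k hq (by rw [← hk]; exact pow_orderOf_eq_one z)

theorem exists_primary' [Finite G] (hp : p.Prime) {x : G} (hx : X p x) :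
    ∃ z ∈ zpowers x, ∃ q k : ℕ, q.Prime ∧ q ≠ p ∧ z ^ (q ^ k) = 1 ∧ X p z := by
  obtain ⟨z, hz, q, k, hq, hk, hzc⟩ := exists_primary hx.2
  obtain ⟨m, rfl⟩ := mem_zpowers_iff.mp hz
  have h1 : (orderOf (x ^ m)).Coprime p := Nat.Coprime.coprime_dvd_left (orderOf_dvd_of_mem_zpowers hz) hx.1
  refine ⟨x ^ m, hz, q, k, hq, ?_, hk, h1, hzc⟩
  rintro rfl
  have h2 : orderOf (x ^ m) ∣ q ^ k := orderOf_dvd_of_pow_eq_one hk
  have h3 := Nat.eq_one_of_dvd_coprimes (Nat.Coprime.pow_right k h1) dvd_rfl h2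
  rw [orderOf_eq_one_iff] at h3
  exact hzc (h3 ▸ one_mem _)

theorem commute_zpowers {x z g : G} (hz : z ∈ zpowers x) (h : Commute x g) : Commute z g := by
  obtain ⟨m, rfl⟩ := mem_zpowers_iff.mp hz
  exact h.zpow_left m

theorem fact_range [Finite G] {G' : Type*} [Group G'] (hp : p.Prime) {r : ℕ} (hr : r.Prime) (hrp : r ≠ p) (C : Subgroup G)
    (f : C →* G') (hf : IsPGroup p f.ker) :
    (Nat.card f.range).factorization r = (Nat.card C).factorization r := by
  haveI : Fact p.Prime := ⟨hp⟩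
  obtain ⟨a, ha⟩ := IsPGroup.iff_card.mp hf
  have h1 : Nat.card C = Nat.card f.range * Nat.card f.ker := by
    rw [Subgroup.card_eq_card_quotient_mul_card_subgroup f.ker,
      Nat.card_congr (QuotientGroup.quotientKerEquivRange f).toEquiv]
  rw [h1, ha]
  haveI : Finite f.range := Finite.of_surjective f.rangeRestrict f.rangeRestrict_surjective
  have h0 : Nat.card f.range ≠ 0 := Nat.card_pos.ne'
  rw [Nat.factorization_mul h0 (pow_ne_zero _ hp.ne_zero), Nat.Prime.factorization_pow hp]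
  simp [Ne.symm hrp]

/-- lifting data for a `q`-element -/
theorem exists_lift_data [Finite G] (hp : p.Prime) {q : ℕ} (hq : q.Prime) (hqp : q ≠ p) (O : Subgroup G) [O.Normal]
    (hO : IsPGroup p O) {x : G} {k : ℕ} (hx : x ^ (q ^ k) = 1) :
    (∀ g : G ⧸ O, Commute (QuotientGroup.mk x) g → ∃ u : G, QuotientGroup.mk u = g ∧ Commute x u) ∧
    (∀ g : G ⧸ O, Commute (QuotientGroup.mk x) g → (orderOf g).Coprime p →
      ∃ u : G, QuotientGroup.mk u = g ∧ Commute x u ∧ (orderOf u).Coprime p) ∧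
    (∀ r : ℕ, r.Prime → r ≠ p → (Nat.card (centralizer ({(QuotientGroup.mk x : G ⧸ O)} : Set (G ⧸ O)))).factorization r =
      (Nat.card (centralizer ({x} : Set G))).factorization r) := by
  have h1 : ∀ g : G ⧸ O, Commute (QuotientGroup.mk x) g → ∃ u : G, QuotientGroup.mk u = g ∧ Commute x u := by
    intro g hg
    obtain ⟨v, rfl⟩ := QuotientGroup.mk_surjective g
    have h2 : v * x * v⁻¹ * x⁻¹ ∈ O := by
      rw [← QuotientGroup.eq_one_iff]
      have h3 : (QuotientGroup.mk (v * x * v⁻¹ * x⁻¹) : G ⧸ O) =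
        QuotientGroup.mk v * QuotientGroup.mk x * (QuotientGroup.mk v)⁻¹ * (QuotientGroup.mk x)⁻¹ := rfl
      rw [h3, ← hg.eq]; group
    obtain ⟨o, ho, hc⟩ := exists_fix hp hq hqp O hO hx h2
    refine ⟨o⁻¹ * v, ?_, hc.symm⟩
    have h3 : (QuotientGroup.mk (o⁻¹ * v) : G ⧸ O) = (QuotientGroup.mk o)⁻¹ * QuotientGroup.mk v := rfl
    rw [h3, (QuotientGroup.eq_one_iff o).mpr ho]; group
  set C := centralizer ({x} : Set G) with hC
  let f : C →* G ⧸ O := (QuotientGroup.mk' O).comp C.subtype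
  have hrange : f.range = centralizer ({(QuotientGroup.mk x : G ⧸ O)} : Set (G ⧸ O)) := by
    ext g
    rw [mem_centralizer_singleton_iff]
    constructor
    · rintro ⟨u, rfl⟩
      have h2 := mem_centralizer_singleton_iff.mp u.2
      change (QuotientGroup.mk ((u : G) * x) : G ⧸ O) = QuotientGroup.mk (x * u)
      rw [h2]
    · intro hg
      have hg' : Commute (QuotientGroup.mk x : G ⧸ O) g := Eq.symm hg
      obtain ⟨u, hu, hxu⟩ := h1 g hg'
      exact ⟨⟨u, mem_centralizer_singleton_iff.mpr hxu.eq.symm⟩, hu⟩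
  refine ⟨h1, ?_, ?_⟩
  · intro g hg hgo
    obtain ⟨u, hu, hxu⟩ := h1 g hg
    have hgr : g ∈ f.range := ⟨⟨u, mem_centralizer_singleton_iff.mpr hxu.eq.symm⟩, hu⟩
    obtain ⟨v, hv, hvo⟩ := H70.ClassSize.exists_lift_coprime hp f.rangeRestrict f.rangeRestrict_surjective ⟨g, hgr⟩ (by
      rwa [← Subgroup.orderOf_coe])
    refine ⟨v, congrArg Subtype.val hv, (mem_centralizer_singleton_iff.mp v.2).symm, ?_⟩
    rwa [Subgroup.orderOf_coe]
  · intro r hr hrp
    rw [← hrange]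
    apply fact_range hp hr hrp
    rw [isPGroup_iff_pow]
    intro y hy
    have h2 : (y : G) ∈ O := by
      rw [← QuotientGroup.eq_one_iff]
      exact hy
    obtain ⟨j, hj⟩ := (isPGroup_iff_pow O).mp hO y h2
    exact ⟨j, Subtype.ext hj⟩

/-- lifting data for noncentral `p`-regular elements of the quotient -/
theorem exists_lift_X [Finite G] (hA : HA p G) (hp : p.Prime) (O : Subgroup G) [O.Normal]
    (hO : IsPGroup p O) {x : G ⧸ O} (hx : X p x) :
    (∀ y : G ⧸ O, (orderOf y).Coprime p → Commute x y → ∀ g, Commute x g → Commute y g) ∧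
    ∃ z : G, X p z ∧ ∀ r : ℕ, r.Prime → r ≠ p → (Nat.card (centralizer ({x} : Set (G ⧸ O)))).factorization r =
      (Nat.card (centralizer ({z} : Set G))).factorization r := by
  obtain ⟨z, hz, q, k, hq, hqp, hk, hzX⟩ := exists_primary' hp hx
  -- lift `z`
  have hzo : orderOf z ∣ q ^ k := orderOf_dvd_of_pow_eq_one hk
  obtain ⟨i, -, hi⟩ := (Nat.dvd_prime_pow hq).mp hzo
  obtain ⟨w, hw, j, hj⟩ := H70.SylowSub.exists_lift (QuotientGroup.mk' O) (QuotientGroup.mk'_surjective O) hq hi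
  have hw' : (QuotientGroup.mk w : G ⧸ O) = z := hw
  have hwj : w ^ (q ^ j) = 1 := by rw [← hj]; exact pow_orderOf_eq_one w
  obtain ⟨d1, d2, d3⟩ := exists_lift_data hp hq hqp O hO hwj
  rw [hw'] at d1 d2 d3
  have hwc : w ∉ center G := by
    intro hc
    apply hzX.2
    apply mem_center_of_forall
    intro g
    obtain ⟨u, rfl⟩ := QuotientGroup.mk_surjective g
    rw [← hw']
    exact (commute_of_center hc u).map (QuotientGroup.mk' O)
  have hwX : X p w := ⟨coprime_of_pow hp hq hqp hwj, hwc⟩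
  have key : ∀ y : G ⧸ O, (orderOf y).Coprime p → Commute z y → ∀ g, Commute z g → Commute y g := by
    intro y hy hzy g hzg
    obtain ⟨u, rfl, hwu, huo⟩ := d2 y hzy hy
    obtain ⟨v, rfl, hwv⟩ := d1 g hzg
    exact (hA w hwX.1 hwX.2 u huo hwu v hwv).map (QuotientGroup.mk' O)
  refine ⟨fun y hy hxy g hxg => key y hy (commute_zpowers hz hxy) g (commute_zpowers hz hxg), w, hwX, ?_⟩
  intro r hr hrp
  rw [← d3 r hr hrp]
  have h1 : centralizer ({x} : Set (G ⧸ O)) = centralizer ({z} : Set (G ⧸ O)) := by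
    ext g
    rw [mem_centralizer_singleton_iff, mem_centralizer_singleton_iff]
    constructor
    · intro h
      exact (commute_zpowers hz (Commute.symm h)).eq.symm
    · intro h
      exact (key x hx.1 (commute_zpowers hz (Commute.refl x)) g (Commute.symm h)).eq.symm
  rw [h1]

/-- THE MAIN THEOREM -/
theorem main [Finite G] (hp : p.Prime) (hA : HA p G) (hB : HB p G)
    (hN : ∃ q r : ℕ, q.Prime ∧ r.Prime ∧ q ≠ p ∧ r ≠ p ∧ q ≠ r ∧ NC q G ∧ NC r G) {x : G} (hx : X p x)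
    {q : ℕ} (hq : q.Prime) (hqp : q ≠ p) :
    (Nat.card (centralizer ({x} : Set G))).factorization q = (Nat.card G).factorization q := by
  by_contra hcon
  set O := pCore p G with hOdef
  have hO : IsPGroup p O := H1.Cores.isPGroup_pCore p
  have hG : ∀ r : ℕ, r.Prime → r ≠ p → (Nat.card (G ⧸ O)).factorization r = (Nat.card G).factorization r := by
    intro r hr hrp
    have h1 := fact_range (G' := G ⧸ O) hp hr hrp (⊤ : Subgroup G) ((QuotientGroup.mk' O).comp (⊤ : Subgroup G).subtype) (by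
      rw [isPGroup_iff_pow]
      intro y hy
      have h2 : (y : G) ∈ O := by
        rw [← QuotientGroup.eq_one_iff]
        exact hy
      obtain ⟨j, hj⟩ := (isPGroup_iff_pow O).mp hO y h2
      exact ⟨j, Subtype.ext hj⟩)
    have h2 : ((QuotientGroup.mk' O).comp (⊤ : Subgroup G).subtype).range = ⊤ := by
      rw [MonoidHom.range_eq_top]
      intro g
      obtain ⟨u, rfl⟩ := QuotientGroup.mk_surjective g
      exact ⟨⟨u, mem_top _⟩, rfl⟩
    rw [h2, Subgroup.card_top, Subgroup.card_top] at h1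
    exact h1
  -- noncentral `r`-elements remain noncentral
  have hnc : ∀ r : ℕ, r.Prime → r ≠ p → ∀ y : G, (∃ k : ℕ, y ^ (r ^ k) = 1) → y ∉ center G →
      (QuotientGroup.mk y : G ⧸ O) ∉ center (G ⧸ O) := by
    rintro r hr hrp y ⟨k, hk⟩ hyc hc
    obtain ⟨-, -, d3⟩ := exists_lift_data hp hr hrp O hO hk
    have h1 := d3 q hq hqp
    have h2 : centralizer ({(QuotientGroup.mk y : G ⧸ O)} : Set (G ⧸ O)) = ⊤ := by
      rw [eq_top_iff]
      intro g _
      exact mem_centralizer_singleton_iff.mpr (commute_of_center hc g).eq.symm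
    rw [h2, Subgroup.card_top, hG q hq hqp] at h1
    rw [hB x y hx.1 hx.2 (coprime_of_pow hp hr hrp hk) hyc q hq hqp, ← h1] at hcon
    exact hcon rfl
  have D : Dat p (G ⧸ O) := by
    refine ⟨hp, ?_, ?_, ?_, ?_, ?_⟩
    · intro y hy hyc
      exact (exists_lift_X hA hp O hO ⟨hy, hyc⟩).1
    · intro y z hy hyc hz hzc r hr hrp
      obtain ⟨-, y', hy', h1⟩ := exists_lift_X hA hp O hO ⟨hy, hyc⟩
      obtain ⟨-, z', hz', h2⟩ := exists_lift_X hA hp O hO ⟨hz, hzc⟩
      rw [h1 r hr hrp, h2 r hr hrp]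
      exact hB y' z' hy'.1 hy'.2 hz'.1 hz'.2 r hr hrp
    · obtain ⟨r, s, hr, hs, hrp, hsp, hrs, ⟨y, ⟨k, hk⟩, hy⟩, ⟨z, ⟨l, hl⟩, hz⟩⟩ := hN
      refine ⟨r, s, hr, hs, hrp, hsp, hrs, ⟨QuotientGroup.mk y, ⟨k, ?_⟩, hnc r hr hrp y ⟨k, hk⟩ hy⟩,
        ⟨QuotientGroup.mk z, ⟨l, ?_⟩, hnc s hs hsp z ⟨l, hl⟩ hz⟩⟩
      · rw [← QuotientGroup.mk_pow, hk]; rfl
      · rw [← QuotientGroup.mk_pow, hl]; rfl
    · obtain ⟨z, -, r, k, hr, hrp, hk, hzX⟩ := exists_primary' hp hx
      obtain ⟨-, -, d3⟩ := exists_lift_data hp hr hrp O hO hk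
      refine ⟨q, hq, hqp, QuotientGroup.mk z, ?_, hnc r hr hrp z ⟨k, hk⟩ hzX.2, ?_⟩
      · have h1 : (QuotientGroup.mk z : G ⧸ O) ^ (r ^ k) = 1 := by rw [← QuotientGroup.mk_pow, hk]; rfl
        exact coprime_of_pow hp hr hrp h1
      · rw [d3 q hq hqp, hG q hq hqp, ← hB x z hx.1 hx.2 hzX.1 hzX.2 q hq hqp]
        apply lt_of_le_of_ne _ hcon
        exact (Nat.factorization_le_iff_dvd Nat.card_pos.ne' Nat.card_pos.ne').mpr (Subgroup.card_subgroup_dvd_card _) q
    · exact H1.Cores.pCore_quotient_pCore p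
  exact D.false

end H70.RegT
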