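import Mathlib
import Cfsg.Agent.Lib.H70.RegF

/-!
Two `p`-regular class sizes.
-/

set_option autoImplicit false

namespace H70.RegT

open Subgroup Cfsg
open scoped Pointwise commutatorElement

universe u

variable {G : Type u} [Group G] {p : ℕ}

theorem coprime_of_pow_ne {q r : ℕ} (hq : q.Prime) (hr : r.Prime) (hqr : q ≠ r) {x y : G} {k l : ℕ}
    (hx : x ^ (q ^ k) = 1) (hy : y ^ (r ^ l) = 1) : (orderOf x).Coprime (orderOf y) :=
  Nat.Coprime.coprime_dvd_left (orderOf_dvd_of_pow_eq_one hx)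
    (Nat.Coprime.coprime_dvd_right (orderOf_dvd_of_pow_eq_one hy)
      (Nat.Coprime.pow k l ((Nat.coprime_primes hq hr).mpr hqr)))

theorem mem_zpowers_mul_left {x y : G} (hxy : Commute x y) (hcop : (orderOf x).Coprime (orderOf y)) :
    x ∈ zpowers (x * y) := by
  obtain ⟨N, h1, h2⟩ := Nat.chineseRemainder hcop 1 0
  refine mem_zpowers_iff.2 ⟨(N : ℤ), ?_⟩
  rw [zpow_natCast, hxy.mul_pow, pow_eq_pow_iff_modEq.2 h1, pow_one,
    pow_eq_pow_iff_modEq.2 h2, pow_zero, mul_one]

theorem mem_zpowers_mul_right {x y : G} (hxy : Commute x y) (hcop : (orderOf x).Coprime (orderOf y)) :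
    y ∈ zpowers (x * y) := by
  rw [hxy.eq]; exact mem_zpowers_mul_left hxy.symm hcop.symm

theorem X.mul {x y : G} (hx : X p x) (hy : (orderOf y).Coprime p) (hxy : Commute x y)
    (hcop : (orderOf x).Coprime (orderOf y)) : X p (x * y) := by
  refine ⟨Nat.Coprime.coprime_dvd_left hxy.orderOf_mul_dvd_mul_orderOf (Nat.Coprime.mul_left hx.1 hy), ?_⟩
  intro hc
  apply hx.2
  obtain ⟨m, hm⟩ := mem_zpowers_iff.mp (mem_zpowers_mul_left hxy hcop)
  rw [← hm]
  exact zpow_mem hc m

/-- nested centralizers of the same order -/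
theorem commute_of_card_le [Finite G] {x y g : G}
    (h : ∀ g, Commute x g → Commute y g)
    (hc : Nat.card (centralizer ({y} : Set G)) ≤ Nat.card (centralizer ({x} : Set G)))
    (hg : Commute y g) : Commute x g := by
  have hle : centralizer ({x} : Set G) ≤ centralizer ({y} : Set G) := by
    intro u hu
    rw [mem_centralizer_singleton_iff] at hu ⊢
    exact (h u (Commute.symm hu)).eq.symm
  have heq := Subgroup.eq_of_le_of_card_ge hle hc
  have h1 : g ∈ centralizer ({y} : Set G) := mem_centralizer_singleton_iff.mpr hg.eq.symm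
  rw [← heq] at h1
  exact Commute.symm (mem_centralizer_singleton_iff.mp h1)

section two

variable [Finite G]

/-- (i) elements of coprime order -/
theorem central_of_coprime (hcard : ∀ x y : G, X p x → X p y →
      Nat.card (centralizer ({x} : Set G)) = Nat.card (centralizer ({y} : Set G)))
    {x y : G} (hx : X p x) (hy : (orderOf y).Coprime p) (hxy : Commute x y)
    (hcop : (orderOf x).Coprime (orderOf y)) {g : G} (hg : Commute x g) : Commute y g := by
  have hX := hx.mul hy hxy hcop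
  have h1 := commute_of_card_le (x := x * y) (y := x) (g := g)
    (fun g hg => commute_zpowers (mem_zpowers_mul_left hxy hcop) hg) (hcard x (x * y) hx hX).le hg
  exact commute_zpowers (mem_zpowers_mul_right hxy hcop) h1

theorem pow_of_orderOf {x : G} {q k : ℕ} (h : orderOf x = q ^ k) : x ^ (q ^ k) = 1 := by
  rw [← h]; exact pow_orderOf_eq_one x

/-- if all `r`-elements of `C(x)` are central in `G`, all `r`-elements are central -/
theorem all_central {r : ℕ} (hr : r.Prime)
    {x y : G} (hc : Nat.card (centralizer ({x} : Set G)) = Nat.card (centralizer ({y} : Set G)))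
    (h : ∀ z : G, (∃ k : ℕ, z ^ (r ^ k) = 1) → Commute x z → z ∈ center G)
    (hy : ∃ k : ℕ, y ^ (r ^ k) = 1) : y ∈ center G := by
  haveI : Fact r.Prime := ⟨hr⟩
  set C := centralizer ({x} : Set G) with hC
  set E := centralizer ({y} : Set G) with hE
  obtain ⟨R⟩ : Nonempty (Sylow r C) := inferInstance
  set R0 := (R : Subgroup C).map C.subtype with hR0
  have hR0p : IsPGroup r R0 := R.2.map _
  have hR0c : R0 ≤ center G := by
    rintro _ ⟨z, hz, rfl⟩
    apply h _ _ (mem_centralizer_singleton_iff.mp z.2).symm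
    obtain ⟨k, hk⟩ := (isPGroup_iff_pow (R : Subgroup C)).mp R.2 z hz
    exact ⟨k, congrArg Subtype.val hk⟩
  haveI hR0n : R0.Normal := by
    constructor
    intro z hz g
    have : g * z * g⁻¹ = z := by
      rw [← (commute_of_center (hR0c hz) g).eq]; group
    rw [this]; exact hz
  have hyz : IsPGroup r (zpowers y) := by
    obtain ⟨k, hk⟩ := hy
    rw [isPGroup_iff_pow]
    rintro z hz
    obtain ⟨m, rfl⟩ := mem_zpowers_iff.mp hz
    refine ⟨k, ?_⟩
    rw [← zpow_natCast, ← zpow_mul, mul_comm, zpow_mul, zpow_natCast, hk, one_zpow]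
  have hsup : IsPGroup r ↥(R0 ⊔ zpowers y) := IsPGroup.to_sup_of_normal_left hR0p hyz
  have hle : R0 ⊔ zpowers y ≤ E := by
    apply sup_le
    · intro z hz
      exact mem_centralizer_singleton_iff.mpr (commute_of_center (hR0c hz) y).eq
    · rw [zpowers_le]
      exact mem_centralizer_singleton_iff.mpr rfl
  have hsup' : IsPGroup r ((R0 ⊔ zpowers y).subgroupOf E) := hsup.comap_subtype
  obtain ⟨S, hS⟩ := hsup'.exists_le_sylow
  have h1 : Nat.card (S : Subgroup E) = Nat.card (R : Subgroup C) := by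
    have e1 := Sylow.card_eq_multiplicity S
    have e2 := Sylow.card_eq_multiplicity R
    rw [hc] at e2
    exact e1.trans e2.symm
  have h2 : Nat.card ↥(R0 ⊔ zpowers y) ≤ Nat.card R0 := by
    calc Nat.card ↥(R0 ⊔ zpowers y) = Nat.card ((R0 ⊔ zpowers y).subgroupOf E) :=
          (Nat.card_congr (subgroupOfEquivOfLe hle).toEquiv).symm
      _ ≤ Nat.card (S : Subgroup E) := Subgroup.card_le_of_le hS
      _ = Nat.card (R : Subgroup C) := h1
      _ = Nat.card R0 := (Subgroup.card_map_of_injective C.subtype_injective).symm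
  have h3 := Subgroup.eq_of_le_of_card_ge (le_sup_left : R0 ≤ R0 ⊔ zpowers y) h2
  apply hR0c
  rw [h3]
  exact mem_sup_right (mem_zpowers y)

/-- Theorem M -/
theorem dichotomy (hp : p.Prime) (hcard : ∀ x y : G, X p x → X p y →
      Nat.card (centralizer ({x} : Set G)) = Nat.card (centralizer ({y} : Set G))) (hne : ∃ x : G, X p x) :
    (∃ q : ℕ, q.Prime ∧ q ≠ p ∧ ∀ r : ℕ, r.Prime → r ≠ p → r ≠ q → ∀ y : G, (∃ k : ℕ, y ^ (r ^ k) = 1) →
      y ∈ center G) ∨
    (HA p G ∧ ∀ x : G, X p x → ∀ q : ℕ, q.Prime → q ≠ p →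
      (Nat.card (centralizer ({x} : Set G))).factorization q = (Nat.card G).factorization q) := by
  by_cases hcase : ∃ x : G, X p x ∧ ∃ q : ℕ, q.Prime ∧ q ≠ p ∧ (∃ k : ℕ, x ^ (q ^ k) = 1) ∧
      ∀ r : ℕ, r.Prime → r ≠ p → r ≠ q → ∀ y : G, (∃ k : ℕ, y ^ (r ^ k) = 1) → Commute x y → y ∈ center G
  · left
    obtain ⟨x, hx, q, hq, hqp, -, h⟩ := hcase
    refine ⟨q, hq, hqp, fun r hr hrp hrq y hy => ?_⟩
    by_contra hyc
    have hyX : X p y := ⟨by obtain ⟨k, hk⟩ := hy; exact coprime_of_pow hp hr hrp hk, hyc⟩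
    exact hyc (all_central hr (hcard x y hx hyX) (h r hr hrp hrq) hy)
  right
  push Not at hcase
  -- `HA` for primary elements
  have hprim : ∀ x : G, X p x → (∃ q k : ℕ, q.Prime ∧ q ≠ p ∧ x ^ (q ^ k) = 1) → ∀ y : G,
      (orderOf y).Coprime p → Commute x y → ∀ g, Commute x g → Commute y g := by
    rintro x hx ⟨q, k, hq, hqp, hk⟩ y hy hxy g hg
    obtain ⟨r, hr, hrp, hrq, z, ⟨l, hl⟩, hxz, hzc⟩ := hcase x hx q hq hqp ⟨k, hk⟩
    have hzX : X p z := ⟨coprime_of_pow hp hr hrp hl, hzc⟩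
    have hcz : ∀ g, Commute x g → Commute z g := fun g hg =>
      central_of_coprime hcard hx hzX.1 hxz (coprime_of_pow_ne hq hr (Ne.symm hrq) hk hl) hg
    -- every prime power part of `y` is fine
    have key : y ∈ centralizer ((centralizer ({x} : Set G) : Subgroup G) : Set G) := by
      apply H70.SylowSub.mem_of_parts _ (orderOf y) y rfl
      rintro v hv ⟨s, j, hs, hj⟩
      have hvp : (orderOf v).Coprime p := Nat.Coprime.coprime_dvd_left (orderOf_dvd_of_mem_zpowers hv) hy
      have hv1 := pow_of_orderOf hj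
      have hxv : Commute x v := (commute_zpowers hv hxy.symm).symm
      rw [mem_centralizer_iff]
      intro u hu
      have hu' : Commute x u := Commute.symm (mem_centralizer_singleton_iff.mp hu)
      by_cases hsq : s = q
      · subst hsq
        have h1 : Commute v u := central_of_coprime hcard hzX hvp (hcz v hxv)
          (coprime_of_pow_ne hr hs hrq hl hv1) (hcz u hu')
        exact h1.eq.symm
      · have h1 : Commute v u := central_of_coprime hcard hx hvp hxv
          (coprime_of_pow_ne hq hs (Ne.symm hsq) hk hv1) hu'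
        exact h1.eq.symm
    rw [mem_centralizer_iff] at key
    exact Commute.symm (key g (mem_centralizer_singleton_iff.mpr hg.eq.symm))
  have hA : HA p G := by
    intro x hx hxc y hy hxy g hg
    obtain ⟨z, hz, q, k, hq, hqp, hk, hzX⟩ := exists_primary' hp ⟨hx, hxc⟩
    exact hprim z hzX ⟨q, k, hq, hqp, hk⟩ y hy (commute_zpowers hz hxy) g (commute_zpowers hz hg)
  have hB : HB p G := by
    intro x y hx hxc hy hyc q _ _
    rw [hcard x y ⟨hx, hxc⟩ ⟨hy, hyc⟩]
  obtain ⟨x0, hx0⟩ := hne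
  obtain ⟨z, -, q, k, hq, hqp, hk, hzX⟩ := exists_primary' hp hx0
  obtain ⟨r, hr, hrp, hrq, v, ⟨l, hl⟩, hzv, hvc⟩ := hcase z hzX q hq hqp ⟨k, hk⟩
  refine ⟨hA, fun x hx s hs hsp => ?_⟩
  exact main hp hA hB ⟨q, r, hq, hr, hqp, hrp, Ne.symm hrq, ⟨z, ⟨k, hk⟩, hzX.2⟩, ⟨v, ⟨l, hl⟩, hvc⟩⟩ hx hs hsp

end two

end H70.RegT
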