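import Mathlib
import Cfsg.Agent.Lib.H70.RegG
import Cfsg.Agent.Lib.H70.Cover
import Cfsg.Agent.Lib.H4.Burnside

/-!
Three class sizes, with a proper inclusion of centralizers of noncentral elements.
-/

set_option autoImplicit false

namespace H70.RegT

open Subgroup Cfsg
open scoped Pointwise commutatorElement

universe u

variable {G : Type u} [Group G] {p : ℕ}

theorem isSolvable_of_two_primes {M : Type*} [Group M] [Finite M] {p q : ℕ} (hp : p.Prime) (hq : q.Prime)
    (hM : ∀ r, r.Prime → r ∣ Nat.card M → r = p ∨ r = q) : Group.IsSolvable M := by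
  classical
  apply H4.Burnside.isSolvable_of_card_eq p q hp hq _ M rfl
  have hpos : Nat.card M ≠ 0 := Nat.card_pos.ne'
  by_cases hpq : p = q
  · subst hpq
    refine ⟨(Nat.card M).factorization p, 0, ?_⟩
    rw [pow_zero, mul_one]
    have h := Nat.eq_prime_pow_of_unique_prime_dvd hpos (p := p) (fun {r} hr hd => by
      rcases hM r hr hd with h | h <;> exact h)
    conv_lhs => rw [h]
    conv_rhs => rw [h]
    rw [Nat.Prime.factorization_pow hp]
    simp
  · refine ⟨(Nat.card M).factorization p, (Nat.card M).factorization q, ?_⟩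
    apply Nat.eq_of_factorization_eq hpos (mul_ne_zero (pow_ne_zero _ hp.ne_zero) (pow_ne_zero _ hq.ne_zero))
    intro r
    rw [Nat.factorization_mul (pow_ne_zero _ hp.ne_zero) (pow_ne_zero _ hq.ne_zero), hp.factorization_pow,
      hq.factorization_pow, Finsupp.add_apply, Finsupp.single_apply, Finsupp.single_apply]
    by_cases hr : r.Prime ∧ r ∣ Nat.card M
    · rcases hM r hr.1 hr.2 with h | h
      · rw [if_pos h.symm, if_neg (by rw [h]; exact fun h => hpq h.symm), h]; simp
      · rw [if_neg (by rw [h]; exact hpq), if_pos h.symm, h]; simp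
    · have h0 : (Nat.card M).factorization r = 0 := by
        by_cases hrp : r.Prime
        · exact Nat.factorization_eq_zero_of_not_dvd (fun h => hr ⟨hrp, h⟩)
        · exact Nat.factorization_eq_zero_of_not_prime _ hrp
      rw [h0]
      by_cases h1 : p = r
      · rw [if_pos h1, h1, h0]
        by_cases h2 : q = r
        · exact absurd (h1.trans h2.symm) hpq
        · simp [h2]
      · rw [if_neg h1]
        by_cases h2 : q = r
        · rw [if_pos h2, h2, h0]
        · simp [h2]

/-- if all `r`-elements are central for all primes `r` different from two primes, the group is solvable -/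
theorem isSolvable_of_central [Finite G] {p q : ℕ} (hp : p.Prime) (hq : q.Prime)
    (h : ∀ r : ℕ, r.Prime → r ≠ p → r ≠ q → ∀ y : G, (∃ k : ℕ, y ^ (r ^ k) = 1) → y ∈ center G) :
    Group.IsSolvable G := by
  haveI h3 : Group.IsSolvable (G ⧸ center G) := by
    apply isSolvable_of_two_primes hp hq
    intro r hr hrd
    by_contra hcon
    push Not at hcon
    haveI : Fact r.Prime := ⟨hr⟩
    obtain ⟨R⟩ : Nonempty (Sylow r G) := inferInstance
    have h1 : (R : Subgroup G) ≤ center G := fun z hz =>
      h r hr hcon.1 hcon.2 z ((isPGroup_iff_pow (R : Subgroup G)).mp R.2 z hz)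
    rw [← Subgroup.index_eq_card] at hrd
    exact R.not_dvd_index (hrd.trans (Subgroup.index_dvd_of_le h1))
  haveI h0 : Group.IsSolvable (center G) := by
    apply Group.isSolvable_of_comm
    intro a b
    apply Subtype.ext
    exact (mem_center_iff.mp b.2 a)
  exact Group.isSolvable_of_ker_le_range (center G).subtype (QuotientGroup.mk' (center G)) (by simp)

theorem exists_nc [Finite G] (hs : ¬ Group.IsSolvable G) {p q : ℕ} (hp : p.Prime) (hq : q.Prime) :
    ∃ r : ℕ, r.Prime ∧ r ≠ p ∧ r ≠ q ∧ NC r G := by
  by_contra hcon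
  apply hs
  apply isSolvable_of_central hp hq
  intro r hr hrp hrq y hy
  by_contra hyc
  exact hcon ⟨r, hr, hrp, hrq, y, hy, hyc⟩

/-- a variant of `all_central` with only the `r`-parts equal -/
theorem all_central' [Finite G] {r : ℕ} (hr : r.Prime)
    {x y : G} (hc : (Nat.card (centralizer ({x} : Set G))).factorization r =
      (Nat.card (centralizer ({y} : Set G))).factorization r)
    (h : ∀ z : G, (∃ k : ℕ, z ^ (r ^ k) = 1) → Commute x z → z ∈ center G)
    (hy : ∃ k : ℕ, y ^ (r ^ k) = 1) : y ∈ center G := by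
  haveI : Fact r.Prime := ⟨hr⟩
  set C := centralizer ({x} : Set G) with hC
  set E := centralizer ({y} : Set G) with hE
  obtain ⟨R⟩ : Nonempty (Sylow r C) := inferInstance
  set R0 := (R : Subgroup C).map C.subtype with hR0
  have hR0p : IsPGroup r R0 := R.2.map _
  have hR0c : R0 ≤ center G := by
    rintro _ ⟨z, hz, rfl⟩
    apply h _ _ (mem_centralizer_singleton_iff.mp z.2).symm
    obtain ⟨k, hk⟩ := (isPGroup_iff_pow (R : Subgroup C)).mp R.2 z hz
    exact ⟨k, congrArg Subtype.val hk⟩
  haveI hR0n : R0.Normal := by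
    constructor
    intro z hz g
    have : g * z * g⁻¹ = z := by
      rw [← (commute_of_center (hR0c hz) g).eq]; group
    rw [this]; exact hz
  have hyz : IsPGroup r (zpowers y) := by
    obtain ⟨k, hk⟩ := hy
    rw [isPGroup_iff_pow]
    rintro z hz
    obtain ⟨m, rfl⟩ := mem_zpowers_iff.mp hz
    refine ⟨k, ?_⟩
    rw [← zpow_natCast, ← zpow_mul, mul_comm, zpow_mul, zpow_natCast, hk, one_zpow]
  have hsup : IsPGroup r ↥(R0 ⊔ zpowers y) := IsPGroup.to_sup_of_normal_left hR0p hyz
  have hle : R0 ⊔ zpowers y ≤ E := by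
    apply sup_le
    · intro z hz
      exact mem_centralizer_singleton_iff.mpr (commute_of_center (hR0c hz) y).eq
    · rw [zpowers_le]
      exact mem_centralizer_singleton_iff.mpr rfl
  have hsup' : IsPGroup r ((R0 ⊔ zpowers y).subgroupOf E) := hsup.comap_subtype
  obtain ⟨S, hS⟩ := hsup'.exists_le_sylow
  have h1 : Nat.card (S : Subgroup E) = Nat.card (R : Subgroup C) := by
    have e1 := Sylow.card_eq_multiplicity S
    have e2 := Sylow.card_eq_multiplicity R
    rw [hc] at e2
    exact e1.trans e2.symm
  have h2 : Nat.card ↥(R0 ⊔ zpowers y) ≤ Nat.card R0 := by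
    calc Nat.card ↥(R0 ⊔ zpowers y) = Nat.card ((R0 ⊔ zpowers y).subgroupOf E) :=
          (Nat.card_congr (subgroupOfEquivOfLe hle).toEquiv).symm
      _ ≤ Nat.card (S : Subgroup E) := Subgroup.card_le_of_le hS
      _ = Nat.card (R : Subgroup C) := h1
      _ = Nat.card R0 := (Subgroup.card_map_of_injective C.subtype_injective).symm
  have h3 := Subgroup.eq_of_le_of_card_ge (le_sup_left : R0 ≤ R0 ⊔ zpowers y) h2
  apply hR0c
  rw [h3]
  exact mem_sup_right (mem_zpowers y)

/-- centralizer inside a centralizer, for coprime orders -/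
theorem card_cent_sub [Finite G] {x : G} (y : centralizer ({x} : Set G))
    (hcop : (orderOf x).Coprime (orderOf (y : G))) :
    Nat.card (centralizer ({y} : Set (centralizer ({x} : Set G)))) = Nat.card (centralizer ({x * y} : Set G)) := by
  have hxy : Commute x y := (mem_centralizer_singleton_iff.mp y.2).symm
  have h1 : (centralizer ({y} : Set (centralizer ({x} : Set G)))).map (centralizer ({x} : Set G)).subtype = centralizer ({x * (y : G)} : Set G) := by
    ext g
    rw [mem_centralizer_singleton_iff]
    constructor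
    · rintro ⟨u, hu, rfl⟩
      have h2 : Commute (u : G) (y : G) := by
        have := mem_centralizer_singleton_iff.mp hu
        exact congrArg Subtype.val this
      have h3 : Commute (u : G) x := mem_centralizer_singleton_iff.mp u.2
      exact (h3.mul_right h2).eq
    · intro hg
      have hg' : Commute (x * y) g := Commute.symm hg
      have h2 := commute_zpowers (mem_zpowers_mul_left hxy hcop) hg'
      have h3 := commute_zpowers (mem_zpowers_mul_right hxy hcop) hg'
      exact ⟨⟨g, mem_centralizer_singleton_iff.mpr h2.eq.symm⟩,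
        mem_centralizer_singleton_iff.mpr (Subtype.ext h3.eq.symm), rfl⟩
  rw [← h1, Subgroup.card_map_of_injective (centralizer ({x} : Set G)).subtype_injective]

/-- `r`-parts, when all `r`-elements of `C` lie in `D ≤ C` -/
theorem factorization_eq_of_forall [Finite G] {C D : Subgroup G} (hDC : D ≤ C) {r : ℕ} (hr : r.Prime)
    (h : ∀ z ∈ C, (∃ k : ℕ, z ^ (r ^ k) = 1) → z ∈ D) :
    (Nat.card C).factorization r = (Nat.card D).factorization r := by
  haveI : Fact r.Prime := ⟨hr⟩
  obtain ⟨R⟩ : Nonempty (Sylow r C) := inferInstance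
  apply le_antisymm
  · have h1 : (R : Subgroup C).map C.subtype ≤ D := by
      rintro _ ⟨z, hz, rfl⟩
      obtain ⟨k, hk⟩ := (isPGroup_iff_pow (R : Subgroup C)).mp R.2 z hz
      exact h _ z.2 ⟨k, congrArg Subtype.val hk⟩
    have h2 := Subgroup.card_dvd_of_le h1
    rw [Subgroup.card_map_of_injective C.subtype_injective, Sylow.card_eq_multiplicity R] at h2
    exact (hr.pow_dvd_iff_le_factorization Nat.card_pos.ne').mp h2
  · exact (Nat.factorization_le_iff_dvd Nat.card_pos.ne' Nat.card_pos.ne').mpr (Subgroup.card_dvd_of_le hDC) r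

/-- trichotomy for a noncentral `p`-element with a nonminimal centralizer -/
theorem tri [Finite G] {a b : ℕ} (_hba : b < a)
    (hab : ∀ x : G, x ∉ center G → Nat.card (centralizer ({x} : Set G)) = a ∨ Nat.card (centralizer ({x} : Set G)) = b)
    (hp : p.Prime) {x y : G} (hx : x ∉ center G) (hxp : ∃ k : ℕ, x ^ (p ^ k) = 1)
    (hxa : Nat.card (centralizer ({x} : Set G)) = a) (hyb : Nat.card (centralizer ({y} : Set G)) = b)
    (hle : centralizer ({y} : Set G) ≤ centralizer ({x} : Set G)) :
    (∀ q : ℕ, q.Prime → q ≠ p → a.factorization q = b.factorization q) ∨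
    (∃ q : ℕ, q.Prime ∧ q ≠ p ∧ a.factorization q ≠ b.factorization q ∧
      (∀ r : ℕ, r.Prime → r ≠ p → r ≠ q → a.factorization r = b.factorization r) ∧
      (∀ r : ℕ, r.Prime → r ≠ p → r ≠ q → ∀ z : G, (∃ k : ℕ, z ^ (r ^ k) = 1) → Commute x z →
        ∀ g, Commute x g → Commute z g)) := by
  set C := centralizer ({x} : Set G) with hC
  obtain ⟨kx, hkx⟩ := hxp
  have hcopx : ∀ z : G, (orderOf z).Coprime p → (orderOf x).Coprime (orderOf z) := fun z hz =>
    Nat.Coprime.coprime_dvd_left (orderOf_dvd_of_pow_eq_one hkx) (Nat.Coprime.pow_left kx hz.symm)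
  -- `p`-regular noncentral elements of `C`
  have hX : ∀ z : C, X p z → Nat.card (centralizer ({z} : Set C)) = b := by
    intro z hz
    have hzo : (orderOf (z : G)).Coprime p := by rw [Subgroup.orderOf_coe]; exact hz.1
    have hcop := hcopx z hzo
    have h1 := card_cent_sub z hcop
    have hxz : Commute x z := (mem_centralizer_singleton_iff.mp z.2).symm
    have hnc : x * z ∉ center G := by
      intro h
      apply hx
      obtain ⟨m, hm⟩ := mem_zpowers_iff.mp (mem_zpowers_mul_left hxz hcop)
      rw [← hm]; exact zpow_mem h m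
    rcases hab _ hnc with h2 | h2
    · exfalso
      apply hz.2
      have h3 : centralizer ({z} : Set C) = ⊤ := by
        apply Subgroup.eq_top_of_card_eq
        rw [h1, h2, ← hxa]
      apply mem_center_of_forall
      intro g
      have : g ∈ centralizer ({z} : Set C) := by rw [h3]; exact mem_top g
      exact Commute.symm (mem_centralizer_singleton_iff.mp this)
    · rw [h1, h2]
  by_cases hne : ∃ z : C, X p z
  · obtain ⟨z0, hz0⟩ := hne
    have hz0b := hX z0 hz0
    rcases dichotomy hp (fun x y hx hy => (hX x hx).trans (hX y hy).symm) ⟨z0, hz0⟩ with ⟨q, hq, hqp, h⟩ | ⟨-, h⟩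
    · -- all `r`-elements of `C` are central in `C`
      have hr0 : ∀ r : ℕ, r.Prime → r ≠ p → r ≠ q → a.factorization r = b.factorization r := by
        intro r hr hrp hrq
        have h1 := factorization_eq_of_forall (G := C) (C := ⊤) (D := centralizer ({z0} : Set C)) le_top hr (by
          intro z _ hz
          exact mem_centralizer_singleton_iff.mpr (commute_of_center (h r hr hrp hrq z hz) z0).eq)
        rw [Subgroup.card_top, hz0b] at h1
        rw [← hxa]; exact h1
      by_cases hqe : a.factorization q = b.factorization q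
      · left
        intro r hr hrp
        by_cases hrq : r = q
        · rw [hrq]; exact hqe
        · exact hr0 r hr hrp hrq
      · right
        refine ⟨q, hq, hqp, hqe, hr0, ?_⟩
        rintro r hr hrp hrq z ⟨k, hk⟩ hxz g hxg
        have h1 := h r hr hrp hrq ⟨z, mem_centralizer_singleton_iff.mpr hxz.eq.symm⟩ ⟨k, Subtype.ext hk⟩
        have h2 := commute_of_center h1 ⟨g, mem_centralizer_singleton_iff.mpr hxg.eq.symm⟩
        exact congrArg Subtype.val h2
    · left
      intro q hq hqp
      have h1 := h z0 hz0 q hq hqp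
      rw [hz0b] at h1
      rw [← hxa]; exact h1.symm
  · left
    intro q hq hqp
    rw [← hxa, ← hyb]
    apply factorization_eq_of_forall hle hq
    rintro z hz ⟨k, hk⟩
    have hzo := coprime_of_pow hp hq hqp hk
    have hyC : y ∈ C := hle (mem_centralizer_singleton_iff.mpr rfl)
    have h1 : (⟨z, hz⟩ : C) ∈ center C := by
      by_contra hc
      exact hne ⟨⟨z, hz⟩, by rw [← Subgroup.orderOf_coe]; exact hzo, hc⟩
    have h2 := commute_of_center h1 ⟨y, hyC⟩
    exact mem_centralizer_singleton_iff.mpr (congrArg Subtype.val h2.eq)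

/-- all Sylow `q`-subgroups of order prime to the class sizes are central -/
theorem central_of_index [Finite G] {q : ℕ} (hq : q.Prime)
    (h : ∀ g : G, (Nat.card (centralizer ({g} : Set G))).factorization q = (Nat.card G).factorization q) {z : G}
    (hz : ∃ k : ℕ, z ^ (q ^ k) = 1) : z ∈ center G := by
  haveI : Fact q.Prime := ⟨hq⟩
  -- a Sylow subgroup containing `z`
  have hzp : IsPGroup q (zpowers z) := by
    obtain ⟨k, hk⟩ := hz
    rw [isPGroup_iff_pow]
    rintro w hw
    obtain ⟨m, rfl⟩ := mem_zpowers_iff.mp hw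
    refine ⟨k, ?_⟩
    rw [← zpow_natCast, ← zpow_mul, mul_comm, zpow_mul, zpow_natCast, hk, one_zpow]
  obtain ⟨Q, hQ⟩ := hzp.exists_le_sylow
  have h1 : centralizer ((Q : Subgroup G) : Set G) = ⊤ := by
    apply H70.Cover.eq_top_of_cover
    intro g
    set C := centralizer ({g} : Set G) with hC
    obtain ⟨R⟩ : Nonempty (Sylow q C) := inferInstance
    have hRc : Nat.card ((R : Subgroup C).map C.subtype) = Nat.card Q := by
      rw [Subgroup.card_map_of_injective C.subtype_injective, Sylow.card_eq_multiplicity R,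
        Sylow.card_eq_multiplicity Q, h g]
    obtain ⟨S, hS⟩ := (R.2.map C.subtype : IsPGroup q ((R : Subgroup C).map C.subtype)).exists_le_sylow
    have hSe : (R : Subgroup C).map C.subtype = (S : Subgroup G) := by
      apply Subgroup.eq_of_le_of_card_ge hS
      rw [hRc, Sylow.card_eq_multiplicity S, Sylow.card_eq_multiplicity Q]
    obtain ⟨u, hu⟩ := MulAction.exists_smul_eq G Q S
    refine ⟨u, ?_⟩
    rw [mem_centralizer_iff]
    intro v hv
    have h2 : u * v * u⁻¹ ∈ (S : Subgroup G) := by
      rw [← hu, Sylow.coe_subgroup_smul]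
      exact ⟨v, hv, by simp⟩
    rw [← hSe] at h2
    obtain ⟨w, -, hw⟩ := h2
    have h3 : Commute (u * v * u⁻¹) g := by
      have := mem_centralizer_singleton_iff.mp w.2
      rw [← hw]; exact this
    have h4 := commute_conj (g := u⁻¹) h3
    have h5 : u⁻¹ * (u * v * u⁻¹) * u⁻¹⁻¹ = v := by group
    rw [h5, inv_inv] at h4
    exact h4.eq
  apply mem_center_of_forall
  intro g
  have h2 : g ∈ centralizer ((Q : Subgroup G) : Set G) := by rw [h1]; exact mem_top g
  exact mem_centralizer_iff.mp h2 z (hQ (mem_zpowers z))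

/-- CASE B -/
theorem caseB [Finite G] {a b : ℕ} (hba : b < a)
    (hab : ∀ x : G, x ∉ center G → Nat.card (centralizer ({x} : Set G)) = a ∨ Nat.card (centralizer ({x} : Set G)) = b)
    {x y : G} (hx : x ∉ center G) (hxa : Nat.card (centralizer ({x} : Set G)) = a)
    (hyb : Nat.card (centralizer ({y} : Set G)) = b)
    (hle : centralizer ({y} : Set G) ≤ centralizer ({x} : Set G)) : Group.IsSolvable G := by
  classical
  by_contra hs
  have ha0 : a ≠ 0 := by rw [← hxa]; exact Nat.card_pos.ne'
  have hb0 : b ≠ 0 := by rw [← hyb]; exact Nat.card_pos.ne'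
  -- cards
  have hmax : ∀ z w : G, z ∉ center G → w ∉ center G → Nat.card (centralizer ({z} : Set G)) = a →
      (∀ g, Commute z g → Commute w g) → (∀ g, Commute w g → Commute z g) := by
    intro z w hz hw hza h g hg
    apply commute_of_card_le h _ hg
    rcases hab w hw with h1 | h1
    · rw [h1, hza]
    · rw [h1, hza]; exact hba.le
  -- primary `x`
  obtain ⟨z, hz, p, k, hp, hk, hzc⟩ := exists_primary hx
  have hxz : ∀ g, Commute x g → Commute z g := fun g hg => commute_zpowers hz hg
  have hlexz : centralizer ({x} : Set G) ≤ centralizer ({z} : Set G) := fun g hg =>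
    mem_centralizer_singleton_iff.mpr (hxz g (Commute.symm (mem_centralizer_singleton_iff.mp hg))).eq.symm
  have hza : Nat.card (centralizer ({z} : Set G)) = a := by
    rcases hab z hzc with h | h
    · exact h
    · exfalso
      have := Subgroup.card_le_of_le hlexz
      rw [hxa, h] at this
      omega
  have htri := tri hba hab hp hzc ⟨k, hk⟩ hza hyb (hle.trans hlexz)
  -- noncentral `r`-elements in centralizers
  have hS1 : ∀ r : ℕ, r.Prime → a.factorization r = b.factorization r → NC r G → ∀ g : G, g ∉ center G →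
      ∃ v : G, (∃ k : ℕ, v ^ (r ^ k) = 1) ∧ Commute g v ∧ v ∉ center G := by
    rintro r hr he ⟨v0, hv0, hv0c⟩ g hg
    by_contra hcon
    push Not at hcon
    apply hv0c
    apply all_central' hr (x := g) _ hcon hv0
    rcases hab g hg with h1 | h1 <;> rcases hab v0 hv0c with h2 | h2 <;> rw [h1, h2] <;> first | rfl | exact he | exact he.symm
  by_cases hδ : ∃ d : ℕ, d.Prime ∧ ∀ r : ℕ, r.Prime → r ≠ d → a.factorization r = b.factorization r
  · -- CASE I
    obtain ⟨d, hd, hδ⟩ := hδ
    have hdne : a.factorization d ≠ b.factorization d := by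
      intro h
      apply hba.ne
      apply (Nat.eq_of_factorization_eq ha0 hb0 _).symm
      intro r
      by_cases hr : r.Prime
      · by_cases hrd : r = d
        · rw [hrd]; exact h
        · exact hδ r hr hrd
      · rw [Nat.factorization_eq_zero_of_not_prime _ hr, Nat.factorization_eq_zero_of_not_prime _ hr]
    -- claim
    have hclaim : ∀ r : ℕ, r.Prime → r ≠ d → ∀ v : G, v ∉ center G → (∃ k : ℕ, v ^ (r ^ k) = 1) →
        ∀ s : ℕ, s.Prime → s ≠ d → s ≠ r → ∀ w : G, (∃ k : ℕ, w ^ (s ^ k) = 1) → Commute v w →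
        ∀ g, Commute v g → Commute w g := by
      rintro r hr hrd v hv ⟨kv, hkv⟩ s hs' hsd hsr w ⟨kw, hkw⟩ hvw g hvg
      have hcop : (orderOf v).Coprime (orderOf w) := coprime_of_pow_ne hr hs' (Ne.symm hsr) hkv hkw
      have hvwc : v * w ∉ center G := by
        intro h
        apply hv
        obtain ⟨m, hm⟩ := mem_zpowers_iff.mp (mem_zpowers_mul_left hvw hcop)
        rw [← hm]; exact zpow_mem h m
      have hle1 : centralizer ({v * w} : Set G) ≤ centralizer ({v} : Set G) := fun g hg =>
        mem_centralizer_singleton_iff.mpr (commute_zpowers (mem_zpowers_mul_left hvw hcop)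
          (Commute.symm (mem_centralizer_singleton_iff.mp hg))).eq.symm
      by_cases hcard : Nat.card (centralizer ({v} : Set G)) ≤ Nat.card (centralizer ({v * w} : Set G))
      · have heq := Subgroup.eq_of_le_of_card_ge hle1 hcard
        have h1 : g ∈ centralizer ({v} : Set G) := mem_centralizer_singleton_iff.mpr hvg.eq.symm
        rw [← heq] at h1
        exact commute_zpowers (mem_zpowers_mul_right hvw hcop) (Commute.symm (mem_centralizer_singleton_iff.mp h1))
      · have hva : Nat.card (centralizer ({v} : Set G)) = a ∧ Nat.card (centralizer ({v * w} : Set G)) = b := by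
          rcases hab v hv with h1 | h1 <;> rcases hab _ hvwc with h2 | h2 <;> omega
        rcases tri hba hab hr hv ⟨kv, hkv⟩ hva.1 hva.2 hle1 with h1 | ⟨q', hq', hq'r, hne', -, h1⟩
        · exact absurd (h1 d hd (Ne.symm hrd)) hdne
        · have hq'd : q' = d := by
            by_contra hq'd
            exact hne' (hδ q' hq' hq'd)
          exact h1 s hs' hsr (by rw [hq'd]; exact hsd) w ⟨kw, hkw⟩ hvw g hvg
    have hprim : ∀ v : G, v ∉ center G → (∃ r k : ℕ, r.Prime ∧ r ≠ d ∧ v ^ (r ^ k) = 1) →
        ∀ y : G, (orderOf y).Coprime d → Commute v y → ∀ g, Commute v g → Commute y g := by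
      rintro v hv ⟨r, kv, hr, hrd, hkv⟩ y hy hvy g hvg
      obtain ⟨s, hs', hsd, hsr, hnc⟩ := exists_nc hs hd hr
      obtain ⟨w, ⟨kw, hkw⟩, hvw, hwc⟩ := hS1 s hs' (hδ s hs' hsd) hnc v hv
      have hcvw := hclaim r hr hrd v hv ⟨kv, hkv⟩ s hs' hsd hsr w ⟨kw, hkw⟩ hvw
      have hcwv : ∀ g, Commute w g → Commute v g :=
        hclaim s hs' hsd w hwc ⟨kw, hkw⟩ r hr hrd (Ne.symm hsr) v ⟨kv, hkv⟩ hvw.symm
      have key : y ∈ centralizer ((centralizer ({v} : Set G) : Subgroup G) : Set G) := by
        apply H70.SylowSub.mem_of_parts _ (orderOf y) y rfl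
        rintro u hu ⟨t, j, ht, hj⟩
        have hup : (orderOf u).Coprime d := Nat.Coprime.coprime_dvd_left (orderOf_dvd_of_mem_zpowers hu) hy
        have hu1 := pow_of_orderOf hj
        have hvu : Commute v u := (commute_zpowers hu hvy.symm).symm
        rw [mem_centralizer_iff]
        intro m hm
        have hm' : Commute v m := Commute.symm (mem_centralizer_singleton_iff.mp hm)
        by_cases htd : t = d
        · -- then `u = 1`
          subst htd
          have h2 : orderOf u = 1 := by
            rw [hj] at hup ⊢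
            exact Nat.eq_one_of_dvd_coprimes (Nat.Coprime.pow_right j hup) dvd_rfl dvd_rfl
          rw [orderOf_eq_one_iff] at h2
          rw [h2]; simp
        by_cases htr : t = r
        · have h1 : Commute u m := hclaim s hs' hsd w hwc ⟨kw, hkw⟩ t ht htd (by rw [htr]; exact Ne.symm hsr) u
            ⟨j, hu1⟩ (hcvw u hvu) m (hcvw m hm')
          exact h1.eq.symm
        · have h1 : Commute u m := hclaim r hr hrd v hv ⟨kv, hkv⟩ t ht htd htr u ⟨j, hu1⟩ hvu m hm'
          exact h1.eq.symm
      rw [mem_centralizer_iff] at key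
      exact Commute.symm (key g (mem_centralizer_singleton_iff.mpr hvg.eq.symm))
    have hA : HA d G := by
      intro v hv hvc y hy hvy g hg
      obtain ⟨w, hw, q, k, hq, hqp, hk, hwX⟩ := exists_primary' hd ⟨hv, hvc⟩
      exact hprim w hwX.2 ⟨q, k, hq, hqp, hk⟩ y hy (commute_zpowers hw hvy) g (commute_zpowers hw hg)
    have hB : HB d G := by
      intro v w _ hvc _ hwc q hq hqd
      have he := hδ q hq hqd
      rcases hab v hvc with h1 | h1 <;> rcases hab w hwc with h2 | h2 <;> rw [h1, h2] <;> first | rfl | exact he | exact he.symm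
    obtain ⟨q, hq, hqd, -, hncq⟩ := exists_nc hs hd hd
    obtain ⟨r, hr, hrd, hrq, hncr⟩ := exists_nc hs hd hq
    obtain ⟨v, ⟨kv, hkv⟩, hvc⟩ := hncq
    have hvX : X d v := ⟨coprime_of_pow hd hq hqd hkv, hvc⟩
    have hmain := main hd hA hB ⟨q, r, hq, hr, hqd, hrd, Ne.symm hrq, ⟨v, ⟨kv, hkv⟩, hvc⟩, hncr⟩ hvX hq hqd
    apply hvc
    apply central_of_index hq _ ⟨kv, hkv⟩
    intro g
    by_cases hg : g ∈ center G
    · have h1 : centralizer ({g} : Set G) = ⊤ := by
        rw [eq_top_iff]
        intro u _
        exact mem_centralizer_singleton_iff.mpr (commute_of_center hg u).eq.symm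
      rw [h1, Subgroup.card_top]
    · rw [← hmain]
      have he := hδ q hq hqd
      rcases hab g hg with h1 | h1 <;> rcases hab v hvc with h2 | h2 <;> rw [h1, h2] <;> first | rfl | exact he | exact he.symm
  · -- CASE II
    rcases htri with h1 | ⟨q, hq, hqp, hqne, h1, h2⟩
    · exact hδ ⟨p, hp, h1⟩
    obtain ⟨r, hr, hrp, hrq, hncr⟩ := exists_nc hs hp hq
    obtain ⟨u, ⟨ku, hku⟩, hzu, huc⟩ := hS1 r hr (h1 r hr hrp hrq) hncr z hzc
    have hcu := h2 r hr hrp hrq u ⟨ku, hku⟩ hzu
    have hle2 : centralizer ({z} : Set G) ≤ centralizer ({u} : Set G) := fun g hg =>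
      mem_centralizer_singleton_iff.mpr (hcu g (Commute.symm (mem_centralizer_singleton_iff.mp hg))).eq.symm
    have hua : Nat.card (centralizer ({u} : Set G)) = a := by
      rcases hab u huc with h | h
      · exact h
      · exfalso
        have := Subgroup.card_le_of_le hle2
        rw [hza, h] at this
        omega
    rcases tri hba hab hr huc ⟨ku, hku⟩ hua hyb ((hle.trans hlexz).trans hle2) with h3 | ⟨q', hq', hq'r, hne', h3, -⟩
    · exact hδ ⟨r, hr, h3⟩
    · apply hδ
      refine ⟨q', hq', fun s hs' hsq' => ?_⟩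
      by_cases hsr : s = r
      · rw [hsr]; exact h1 r hr hrp hrq
      · exact h3 s hs' hsr hsq'

end H70.RegT
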