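import Mathlib
import Cfsg.Agent.Lib.H70.ItoA
import Cfsg.Agent.Lib.H70.RegH
import Cfsg.Agent.Lib.H69.FrobData
import Cfsg.Agent.Lib.H18.OddOrder
import Cfsg.Agent.Lib.H24.SzIso
import Cfsg.Agent.S2238
import Cfsg.Agent.S4248

/-!
A finite group with a nontrivial partition into abelian subgroups in which no centralizer of a nontrivial
element is of prime power order is solvable.
-/

set_option autoImplicit false

namespace H70.RegT

open Subgroup Cfsg
open scoped Pointwise

theorem Mix.solvable_of_sz {M : Type*} [Group M] [Finite M] (h : Mix M) (hS : Cfsg.Lie.IsoSuzuki M) :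
    Group.IsSolvable M := by
  obtain ⟨F, _, _, m, hm, hF, ⟨e0⟩⟩ := hS
  have e : M ≃* Cfsg.Sz F m := e0.trans (H24.SzIso.equiv hF hm).symm
  by_cases h2 : 2 ∣ Nat.card M
  · exfalso
    haveI : Fact (Nat.Prime 2) := ⟨Nat.prime_two⟩
    haveI : Finite (Cfsg.Sz F m) := Finite.of_equiv M e.toEquiv
    have h' : Mix (Cfsg.Sz F m) := h.of_equiv e
    have h2' : 2 ∣ Nat.card (Cfsg.Sz F m) := by rwa [← Nat.card_congr e.toEquiv]
    obtain ⟨t, ht⟩ := exists_prime_orderOf_dvd_card' 2 h2'
    have ht1 : t ≠ 1 := by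
      rintro rfl
      rw [orderOf_one] at ht
      omega
    obtain ⟨r, hr, hr2, w, hw1, htw, k, hk⟩ := h' t ht1 2 Nat.prime_two
    have hcop : (orderOf t).Coprime (orderOf w) := by
      rw [ht]
      exact Nat.Coprime.coprime_dvd_right (orderOf_dvd_of_pow_eq_one hk)
        (Nat.Coprime.pow_right k ((Nat.coprime_primes Nat.prime_two hr).mpr (Ne.symm hr2)))
    have h3 := mem_zpowers_mul_left htw hcop
    have h4 := mem_zpowers_mul_right htw hcop
    have h5 : t * w ≠ 1 := by
      intro h5
      rw [h5] at h3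
      simp at h3
      exact ht1 h3
    obtain ⟨U, ⟨hU, hgU⟩, -⟩ := Cfsg.Agent.S2238.result hm hF (t * w) h5
    have htU : t ∈ U := (zpowers_le.mpr hgU) h3
    have hwU : w ∈ U := (zpowers_le.mpr hgU) h4
    rcases hU with ⟨P, rfl⟩ | ⟨-, hc⟩
    · obtain ⟨l, hl⟩ := (isPGroup_iff_pow (P : Subgroup (Cfsg.Sz F m))).mp P.2 w hwU
      exact hw1 (eq_one_of_pow_pow Nat.prime_two hr hr2 hk hl)
    · have h6 : orderOf t ∣ Nat.card U := by
        have := orderOf_dvd_natCard (⟨t, htU⟩ : U)
        rwa [← Subgroup.orderOf_coe] at this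
      rw [ht] at h6
      have e1 : 2 ^ (2 * m + 1) = 2 * 2 ^ (2 * m) := by ring
      have e2 : 2 ^ (m + 1) = 2 * 2 ^ m := by ring
      have e3 : 2 ^ (m + 1) ≤ 2 ^ (2 * m + 1) := Nat.pow_le_pow_right (by norm_num) (by omega)
      have e4 : 0 < 2 ^ (2 * m) := by positivity
      simp only [Set.mem_insert_iff, Set.mem_singleton_iff] at hc
      omega
  · exact H18.OddOrder.solvable (Nat.not_even_iff_odd.mp (fun h3 => h2 (even_iff_two_dvd.mp h3)))

/-- a Frobenius group with a partition into abelian subgroups is solvable -/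
theorem solvable_of_frobenius {M : Type*} [Group M] [Finite M] (S : Set (Subgroup M))
    (hpart : ∀ g : M, g ≠ 1 → ∃! H : Subgroup M, H ∈ S ∧ g ∈ H)
    (hab : ∀ A ∈ S, ∀ a ∈ A, ∀ b ∈ A, a * b = b * a) {H : Subgroup M} (hH : Cfsg.IsFrobeniusComplement H) :
    Group.IsSolvable M := by
  obtain ⟨N, hN, hNn, hNc, hNnil⟩ := H1.FpfNilp.frobeniusKernel_nilpotent hH
  obtain ⟨hH1, hH2, hTI⟩ := id hH
  have hfpf := H1.FrobConj.fpf_of_TI hTI hN
  have hNb : N ≠ ⊥ := by
    rintro rfl
    apply hH2
    have := hNc.sup_eq_top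
    rwa [bot_sup_eq] at this
  have hHs : Group.IsSolvable H := by
    by_cases h2 : 2 ∣ Nat.card H
    · haveI : Fact (Nat.Prime 2) := ⟨Nat.prime_two⟩
      obtain ⟨t, ht⟩ := exists_prime_orderOf_dvd_card' 2 h2
      have ht' : orderOf (t : M) = 2 := by rw [Subgroup.orderOf_coe, ht]
      have ht2 : (t : M) * t = 1 := by rw [← pow_two, ← ht']; exact pow_orderOf_eq_one _
      have ht1 : (t : M) ≠ 1 := by
        intro h
        rw [h, orderOf_one] at ht'
        omega
      obtain ⟨hc, -⟩ := H1.Frob.involution_facts hTI hH2 t.2 ht1 ht2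
      obtain ⟨A, ⟨hA, htA⟩, hAu⟩ := hpart t ht1
      have key : ∀ h ∈ H, h ∈ A := by
        intro h hh
        by_cases h1 : h = 1
        · rw [h1]; exact one_mem _
        by_cases h22 : h * h = 1
        · have h3 : orderOf h = 2 := by
            apply orderOf_eq_prime _ h1
            rw [pow_two]; exact h22
          rw [H69.FrobData.involution_unique hNb hfpf hh t.2 h3 ht']
          exact htA
        · have hcomm : h * t = t * h := by
            have := hc h hh
            calc h * t = h * t * h⁻¹ * h := by group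
              _ = t * h := by rw [this]
          have h3 : (h * t) * (h * t) = h * h := by
            calc (h * t) * (h * t) = h * (t * h) * t := by group
              _ = h * (h * t) * t := by rw [hcomm]
              _ = h * h * (t * t) := by group
              _ = h * h := by rw [ht2, mul_one]
          have h4 : h * t ≠ 1 := by
            intro h4
            apply h22
            rw [← h3, h4, one_mul]
          obtain ⟨B, ⟨hB, hhB⟩, -⟩ := hpart h h1
          obtain ⟨D, ⟨hD, hhD⟩, -⟩ := hpart (h * t) h4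
          have h5 : B = D := by
            apply (hpart (h * h) h22).unique ⟨hB, mul_mem hhB hhB⟩
            refine ⟨hD, ?_⟩
            rw [← h3]; exact mul_mem hhD hhD
          rw [← h5] at hhD
          have h6 : (t : M) ∈ B := by
            have := mul_mem (inv_mem hhB) hhD
            rwa [inv_mul_cancel_left] at this
          rw [← hAu B ⟨hB, h6⟩]; exact hhB
      apply Group.isSolvable_of_comm
      intro a b
      apply Subtype.ext
      exact hab A hA a (key a a.2) b (key b b.2)
    · exact H18.OddOrder.solvable (Nat.not_even_iff_odd.mp (fun h3 => h2 (even_iff_two_dvd.mp h3)))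
  haveI : Group.IsSolvable N := by
    haveI := hNnil
    infer_instance
  haveI : Group.IsSolvable (M ⧸ N) := by
    haveI := hHs
    apply Group.isSolvable_of_surjective (f := (QuotientGroup.mk' N).comp H.subtype)
    intro x
    obtain ⟨g, rfl⟩ := QuotientGroup.mk'_surjective N x
    have hg : g ∈ N ⊔ H := by rw [hNc.sup_eq_top]; exact mem_top _
    obtain ⟨n, hn, h, hh, rfl⟩ := Subgroup.mem_sup_of_normal_left.mp hg
    refine ⟨⟨h, hh⟩, ?_⟩
    rw [map_mul]
    have : (QuotientGroup.mk' N) n = 1 := (QuotientGroup.eq_one_iff n).mpr hn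
    rw [this, one_mul]; rfl
  exact Group.isSolvable_of_ker_le_range N.subtype (QuotientGroup.mk' N) (by simp)

theorem partition_solvable {M : Type*} [Group M] [Finite M] (hM : Mix M) (S : Set (Subgroup M))
    (hS2 : ∃ H ∈ S, ∃ K ∈ S, H ≠ K) (hS1 : ∀ H ∈ S, H ≠ ⊥)
    (hpart : ∀ g : M, g ≠ 1 → ∃! H : Subgroup M, H ∈ S ∧ g ∈ H)
    (hab : ∀ A ∈ S, ∀ a ∈ A, ∀ b ∈ A, a * b = b * a) : Group.IsSolvable M := by
  rcases Cfsg.Agent.S4248.result S hS2 hS1 hpart with ⟨⟨e⟩⟩ | ⟨p, hp, h⟩ | ⟨H, hH⟩ | ⟨F, _, _, -, ⟨e⟩⟩ |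
    ⟨F, _, _, -, -, ⟨e⟩⟩ | h
  · apply isSolvable_of_two_primes Nat.prime_two Nat.prime_three
    intro r hr hrd
    rw [Nat.card_congr e.toEquiv, Nat.card_perm, Nat.card_fin] at hrd
    have h1 : r ∣ 2 ^ 3 * 3 := by
      have : (4).factorial = 2 ^ 3 * 3 := by decide
      rwa [this] at hrd
    rcases (Nat.Prime.dvd_mul hr).mp h1 with h2 | h2
    · left
      exact (Nat.prime_dvd_prime_iff_eq hr Nat.prime_two).mp (hr.dvd_of_dvd_pow h2)
    · right
      exact (Nat.prime_dvd_prime_iff_eq hr Nat.prime_three).mp h2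
  · exact absurd (hM.hughes hp) h
  · exact solvable_of_frobenius S hpart hab hH
  · exact absurd (hM.of_equiv e) (not_mix_psl2 F)
  · exact absurd (hM.of_equiv e) (not_mix_pgl2 F)
  · exact hM.solvable_of_sz h

end H70.RegT
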