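import Cfsg.Agent.Lib.H89.MX0
import Cfsg.Agent.Lib.H57.Small
import Cfsg.Agent.Lib.H3.ClassTwo
import Cfsg.Agent.Lib.H3.Extraspecial
import Cfsg.Agent.Lib.H28.PCube

/-!
Essential subgroups of order less than `p ^ 4` which are not pearls: elementary abelian of order `p ^ 3`.
-/

set_option autoImplicit false
set_option linter.all false

open Subgroup Cfsg Cfsg.FusionSystem H67.HallPetrescu H57.Mc H89.MX

namespace H70.MXR

section Grp

open H57.Small H57.Ess
open scoped commutatorElement

variable {V : Type*} [Group V] [Finite V] {p : ℕ} [hp : Fact p.Prime]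

theorem reach_two {A B : Subgroup V} (hA : Ch A) (hB : Ch B) (hle : A ≤ B) (cA : Nat.card A = p)
    (cB : Nat.card B = p ^ 2) (cV : Nat.card V = p ^ 3) : Reach p (⊤ : Subgroup V) := by
  have h1 : Reach p A := Reach.bot.of_card hA bot_le (by rw [cA, Subgroup.card_bot, mul_one])
  have h2 : Reach p B := h1.of_card hB hle (by rw [cA, cB, pow_two])
  exact h2.of_card Ch.top le_top (by rw [Subgroup.card_top, cV, cB]; ring)

theorem elem_of_comm (hcomm : ∀ a b : V, a * b = b * a) (cV : Nat.card V = p ^ 3)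
    (hnr : ¬ Reach p (⊤ : Subgroup V)) : ∀ x : V, x ^ p = 1 := by
  by_contra hne
  apply hnr
  have hprod : Nat.card (tor hcomm p) * Nat.card (pw hcomm p) = p ^ 3 := by
    have h1 : (pwHom hcomm p).range = pw hcomm p := by
      ext x; constructor
      · rintro ⟨y, rfl⟩; exact ⟨y, rfl⟩
      · rintro ⟨y, rfl⟩; exact ⟨y, rfl⟩
    have h2 := Subgroup.card_mul_index (pwHom hcomm p).ker
    rw [Subgroup.index_ker, h1, ker_pwHom, cV] at h2
    exact h2
  obtain ⟨k, hk3, hk⟩ : ∃ k ≤ 3, Nat.card (tor hcomm p) = p ^ k :=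
    (Nat.dvd_prime_pow hp.out).1 ⟨_, hprod.symm⟩
  have hk3' : k ≠ 3 := by
    rintro rfl
    apply hne
    intro x
    have : tor hcomm p = ⊤ := Subgroup.eq_top_of_card_eq _ (by rw [hk, cV])
    have hx : x ∈ tor hcomm p := by rw [this]; exact Subgroup.mem_top x
    exact mem_tor.1 hx
  have hk0 : k ≠ 0 := by
    rintro rfl
    obtain ⟨x, hx⟩ := exists_prime_orderOf_dvd_card' (G := V) p (by rw [cV]; exact dvd_pow_self p (by norm_num))
    have hx' : x ∈ tor hcomm p := mem_tor.2 (by rw [← hx]; exact pow_orderOf_eq_one x)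
    rw [pow_zero, Subgroup.card_eq_one] at hk
    rw [hk, Subgroup.mem_bot] at hx'
    rw [hx', orderOf_one] at hx
    exact hp.out.one_lt.ne hx
  have hk12 : k = 1 ∨ k = 2 := by omega
  rcases hk12 with rfl | rfl
  · have hpw : Nat.card (pw hcomm p) = p ^ 2 := by
      rw [hk, pow_one] at hprod
      have : p * Nat.card (pw hcomm p) = p * p ^ 2 := by rw [hprod]; ring
      exact Nat.eq_of_mul_eq_mul_left hp.out.pos this
    refine reach_two (Ch.tor hcomm p) (Ch.pw hcomm p) ?_ (by rw [hk, pow_one]) hpw cV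
    obtain ⟨x, hx⟩ := exists_prime_orderOf_dvd_card' (G := pw hcomm p) p
      (by rw [hpw]; exact dvd_pow_self p (by norm_num))
    have hxt : (x : V) ∈ tor hcomm p :=
      by
      have h := pow_orderOf_eq_one x
      rw [hx] at h
      exact mem_tor.2 (congrArg Subtype.val h)
    have h1 : Subgroup.zpowers (x : V) ≤ tor hcomm p := Subgroup.zpowers_le.2 hxt
    have h2 : Subgroup.zpowers (x : V) = tor hcomm p :=
      Subgroup.eq_of_le_of_card_ge h1 (by rw [Nat.card_zpowers, Subgroup.orderOf_coe, hx, hk, pow_one])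
    rw [← h2, Subgroup.zpowers_le]; exact x.2
  · have hpw : Nat.card (pw hcomm p) = p := by
      rw [hk] at hprod
      have : p ^ 2 * Nat.card (pw hcomm p) = p ^ 2 * p := by rw [hprod]; ring
      exact Nat.eq_of_mul_eq_mul_left (pow_pos hp.out.pos 2) this
    refine reach_two (Ch.pw hcomm p) (Ch.tor hcomm p) ?_ hpw hk cV
    intro x hx
    rw [mem_tor]
    have h := pow_card_eq_one' (x := (⟨x, hx⟩ : pw hcomm p))
    rw [hpw] at h
    exact congrArg Subtype.val h

theorem exp_of_nonab (hp2 : p ≠ 2) (hnc : ¬ IsMulCommutative V) (cV : Nat.card V = p ^ 3)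
    (hnr : ¬ Reach p (⊤ : Subgroup V)) : ∀ x : V, x ^ p = 1 := by
  by_contra hne
  apply hnr
  have hzc := H28.PCube.card_center cV hnc
  have hcz := H28.PCube.commutator_eq_center cV hnc
  have hZ : _root_.commutator V ≤ Subgroup.center V := hcz.le
  have hzp : ∀ z ∈ Subgroup.center V, z ^ p = 1 := by
    intro z hz
    have h := pow_card_eq_one' (x := (⟨z, hz⟩ : Subgroup.center V))
    rw [hzc] at h
    exact congrArg Subtype.val h
  have hcp : ∀ a b : V, ⁅a, b⁆ ^ p = 1 := fun a b => hzp _ (H3.ClassTwo.commutator_le_center_iff.1 hZ a b)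
  let f : V →* V :=
    { toFun := fun x => x ^ p
      map_one' := one_pow p
      map_mul' := fun a b => H3.ClassTwo.mul_pow_prime hZ hp.out hp2 a b (hcp b a) }
  have hfz : ∀ x, f x ∈ Subgroup.center V := by
    intro x
    rw [Subgroup.mem_center_iff]
    intro g
    have h := H3.ClassTwo.pow_left hZ x g p
    rw [hcp] at h
    exact (commutatorElement_eq_one_iff_mul_comm.1 h).symm
  have hr : Nat.card f.range = p := by
    have h1 : Nat.card f.range ∣ p := by
      rw [← hzc]
      apply Subgroup.card_dvd_of_le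
      rintro _ ⟨x, rfl⟩; exact hfz x
    rcases (Nat.dvd_prime hp.out).1 h1 with h | h
    · exfalso; apply hne; intro x
      have hx : f x ∈ f.range := ⟨x, rfl⟩
      rw [Subgroup.card_eq_one.1 h, Subgroup.mem_bot] at hx
      exact hx
    · exact h
  have hk : Nat.card f.ker = p ^ 2 := by
    have h2 := Subgroup.card_mul_index f.ker
    rw [Subgroup.index_ker, hr, cV] at h2
    have : Nat.card f.ker * p = p ^ 2 * p := by rw [h2]; ring
    exact Nat.eq_of_mul_eq_mul_right hp.out.pos this
  have hch : Ch f.ker := by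
    intro φ x hx
    have hx' : x ^ p = 1 := hx
    show (φ x) ^ p = 1
    rw [← map_pow, hx', map_one]
  refine reach_two Ch.center hch ?_ hzc hk cV
  intro z hz
  exact hzp z hz

theorem elem_sq (hcomm : ∀ a b : V, a * b = b * a) (cV : Nat.card V = p ^ 2)
    (hnr : ¬ Reach p (⊤ : Subgroup V)) : ∀ x : V, x ^ p = 1 := by
  by_contra hne
  apply hnr
  obtain ⟨k, hk2, hk⟩ : ∃ k ≤ 2, Nat.card (tor hcomm p) = p ^ k :=
    (Nat.dvd_prime_pow hp.out).1 (by rw [← cV]; exact Subgroup.card_subgroup_dvd_card _)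
  have hk2' : k ≠ 2 := by
    rintro rfl
    apply hne
    intro x
    have : tor hcomm p = ⊤ := Subgroup.eq_top_of_card_eq _ (by rw [hk, cV])
    have hx : x ∈ tor hcomm p := by rw [this]; exact Subgroup.mem_top x
    exact mem_tor.1 hx
  have hk0 : k ≠ 0 := by
    rintro rfl
    obtain ⟨x, hx⟩ := exists_prime_orderOf_dvd_card' (G := V) p (by rw [cV]; exact dvd_pow_self p (by norm_num))
    have hx' : x ∈ tor hcomm p := mem_tor.2 (by rw [← hx]; exact pow_orderOf_eq_one x)
    rw [pow_zero, Subgroup.card_eq_one] at hk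
    rw [hk, Subgroup.mem_bot] at hx'
    rw [hx', orderOf_one] at hx
    exact hp.out.one_lt.ne hx
  have hk1 : k = 1 := by omega
  subst hk1
  have h1 : Reach p (tor hcomm p) :=
    Reach.bot.of_card (Ch.tor hcomm p) bot_le (by rw [hk, Subgroup.card_bot, mul_one, pow_one])
  exact h1.of_card Ch.top le_top (by rw [Subgroup.card_top, cV, hk]; ring)

end Grp

variable {Ω : Type*} [Group Ω] {S : Subgroup Ω} [Finite S] {p n : ℕ} [hp : Fact p.Prime]
  {F : FusionSystem S} {E C W B : Subgroup Ω} {τ : MulAut E}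

theorem elem (h5 : 5 ≤ p) (hS : IsPGroup p ↥S) (hF : F.IsSaturated p) (hE : F.IsEssential p E)
    (hnp : ¬ ((Nat.card ↥E = p ^ 2 ∧ IsElementaryAbelian p E) ∨
      (Nat.card ↥E = p ^ 3 ∧ IsExtraspecial p ↥E ∧ Monoid.exponent ↥E = p)))
    (hlt : ¬ p ^ 4 ≤ Nat.card ↥E) : Nat.card E = p ^ 3 ∧ IsElementaryAbelian p E := by
  have hnr := H57.Small.not_reach hS hF hE
  have hES : E ≤ S := hE.1.1
  haveI : Finite E := Finite.of_injective _ (Subgroup.inclusion_injective hES)
  have hEp : IsPGroup p E := hS.to_le hES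
  obtain ⟨k, hk⟩ := IsPGroup.iff_card.1 hEp
  have hk3 : k ≤ 3 := by
    by_contra h
    apply hlt
    rw [hk]
    exact Nat.pow_le_pow_right hp.out.pos (by omega)
  have helem : ∀ (hc : IsMulCommutative E), (∀ x : E, x ^ p = 1) → IsElementaryAbelian p E :=
    fun hc hx => ⟨hc, fun a ha => congrArg Subtype.val (hx ⟨a, ha⟩)⟩
  interval_cases k
  · exfalso
    apply hnr
    have : (⊤ : Subgroup E) = ⊥ := by
      rw [← Subgroup.card_eq_one, Subgroup.card_top, hk, pow_zero]
    rw [this]; exact H57.Small.Reach.bot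
  · exfalso
    apply hnr
    exact H57.Small.Reach.bot.of_card H57.Small.Ch.top bot_le
      (by rw [Subgroup.card_top, hk, Subgroup.card_bot, mul_one, pow_one])
  · exfalso
    apply hnp
    left
    have hc : IsMulCommutative E := IsPGroup.isMulCommutative_of_card_eq_prime_sq hk
    exact ⟨hk, helem hc (elem_sq (fun a b => hc.is_comm.comm a b) hk hnr)⟩
  · by_cases hc : IsMulCommutative E
    · exact ⟨hk, helem hc (elem_of_comm (fun a b => hc.is_comm.comm a b) hk hnr)⟩
    · exfalso
      apply hnp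
      right
      have hx := exp_of_nonab (by omega) hc hk hnr
      refine ⟨hk, ?_, ?_⟩
      · refine H3.Extraspecial.isExtraspecial_of (H28.PCube.commutator_eq_center hk hc).le
          (H28.PCube.card_center hk hc) ?_
        by_contra h
        push_neg at h
        exact hc ⟨⟨fun a b => commutatorElement_eq_one_iff_mul_comm.1 (h a b)⟩⟩
      · have h1 : Monoid.exponent ↥E ∣ p := Monoid.exponent_dvd_of_forall_pow_eq_one hx
        rcases (Nat.dvd_prime hp.out).1 h1 with h | h
        · exfalso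
          have h2 : Subsingleton E := Monoid.exp_eq_one_iff.1 h
          have h3 := Nat.card_of_subsingleton (1 : E)
          rw [hk] at h3
          exact (Nat.one_lt_pow (by norm_num) hp.out.one_lt).ne' h3
        · exact h

end H70.MXR
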