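import Mathlib
import Cfsg.Agent.Lib.H70.Basic
import Cfsg.Agent.Lib.H1.Coprime2
import Cfsg.Agent.Lib.H1.Hall
import Cfsg.Agent.Lib.H2.NPC
import Cfsg.Agent.Lib.H3.LocalNPC

/-!
Groups in which `p` divides the order of every proper subgroup that is neither a `q`-group nor a `q'`-group.
-/

set_option autoImplicit false
open Subgroup Cfsg
open scoped commutatorElement Pointwise

namespace H70.MixG

variable {G : Type*} [Group G] {p q : ℕ}

/-- every proper subgroup which is neither a `q`-group nor a `q'`-group has order divisible by `p` -/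
def Mix (p q : ℕ) (G : Type*) [Group G] : Prop :=
  ∀ H : Subgroup G, H ≠ ⊤ → ¬ IsPGroup q H → q ∣ Nat.card H → p ∣ Nat.card H

theorem Mix.subgroup (h : Mix p q G) (K : Subgroup G) : Mix p q K := by
  intro H hH hq hd
  have e : H ≃* H.map K.subtype := H.equivMapOfInjective _ K.subtype_injective
  have hc : Nat.card (H.map K.subtype) = Nat.card H := Subgroup.card_map_of_injective K.subtype_injective
  rw [← hc]
  apply h
  · intro ht
    apply hH
    rw [eq_top_iff]
    intro x _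
    have : (x : G) ∈ H.map K.subtype := by rw [ht]; trivial
    obtain ⟨y, hy, hyx⟩ := this
    have : y = x := Subtype.ext hyx
    rwa [← this]
  · intro hp
    exact hq (hp.of_equiv e.symm)
  · rw [hc]; exact hd

/-- the key consequence: a subgroup of order prime to `p` with order divisible by `q` is a `q`-group -/
theorem Mix.isPGroup (h : Mix p q G) (hpG : p ∣ Nat.card G) (H : Subgroup G)
    (hpH : ¬ p ∣ Nat.card H) (hqH : q ∣ Nat.card H) : IsPGroup q H := by
  by_contra hn
  apply hpH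
  apply h H _ hn hqH
  rintro rfl
  rw [Subgroup.card_top] at hpH
  exact hpH hpG

theorem relIndex_sup_of_le_normalizer {H K : Subgroup G} (h : H ≤ normalizer (K : Set G)) :
    K.relIndex (H ⊔ K) = K.relIndex H := by
  have h1 : ((H ⊔ K : Subgroup G) : Set G) = (H : Set G) * (K : Set G) :=
    Subgroup.coe_mul_of_left_le_normalizer_right H K h
  haveI : (K.subgroupOf (normalizer (K : Set G))).Normal := inferInstance
  have h2 := Subgroup.relIndex_sup_right (H := H.subgroupOf (normalizer (K : Set G)))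
    (K := K.subgroupOf (normalizer (K : Set G)))
  rw [← Subgroup.subgroupOf_sup h Subgroup.le_normalizer, Subgroup.relIndex_subgroupOf (sup_le h Subgroup.le_normalizer),
    Subgroup.relIndex_subgroupOf h] at h2
  exact h2

/-- a `q`-element-free normalizer statement: an element of order `r ^ k`, `r ≠ p, q` prime, normalizing a nontrivial
`q`-subgroup is trivial -/
theorem Mix.eq_one_of_normalizes [Finite G] [hp : Fact p.Prime] [hq : Fact q.Prime] (h : Mix p q G)
    (hpG : p ∣ Nat.card G) (hpq : p ≠ q) {D : Subgroup G} (hD : IsPGroup q D) (hD1 : D ≠ ⊥) {g : G}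
    (hg : g ∈ normalizer (D : Set G)) {r k : ℕ} (hr : r.Prime) (hrp : r ≠ p) (hrq : r ≠ q) (hgo : orderOf g = r ^ k) :
    g = 1 := by
  have hgD : zpowers g ≤ normalizer (D : Set G) := by rw [zpowers_le]; exact hg
  have hcard : Nat.card (D ⊔ zpowers g : Subgroup G) ∣ Nat.card D * Nat.card (zpowers g) := by
    have h1 : D.relIndex (D ⊔ zpowers g) = D.relIndex (zpowers g) := by
      rw [sup_comm]
      exact relIndex_sup_of_le_normalizer hgD
    have h2 : Nat.card (D ⊔ zpowers g : Subgroup G) = Nat.card D * D.relIndex (D ⊔ zpowers g) := by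
      have := Subgroup.card_mul_index (D.subgroupOf (D ⊔ zpowers g))
      rw [← this, Subgroup.relIndex, H1.SZ.card_subgroupOf_of_le le_sup_left]
    rw [h2, h1]
    exact Nat.mul_dvd_mul dvd_rfl (Subgroup.relIndex_dvd_card _ _)
  obtain ⟨m, hm⟩ := IsPGroup.iff_card.mp hD
  rw [hm, Nat.card_zpowers, hgo] at hcard
  have hpn : ¬ p ∣ Nat.card (D ⊔ zpowers g : Subgroup G) := by
    intro hd
    rcases hp.out.dvd_mul.mp (hd.trans hcard) with h1 | h1
    · exact hpq ((Nat.prime_dvd_prime_iff_eq hp.out hq.out).mp (hp.out.dvd_of_dvd_pow h1))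
    · exact hrp ((Nat.prime_dvd_prime_iff_eq hp.out hr).mp (hp.out.dvd_of_dvd_pow h1)).symm
  have hqd : q ∣ Nat.card (D ⊔ zpowers g : Subgroup G) := by
    have h1 : q ∣ Nat.card D := by
      rw [hm]
      apply dvd_pow_self
      rintro rfl
      apply hD1
      rw [← Subgroup.card_eq_one, hm, pow_zero]
    exact h1.trans (Subgroup.card_dvd_of_le le_sup_left)
  have h1 := h.isPGroup hpG _ hpn hqd
  obtain ⟨j, hj⟩ := IsPGroup.iff_orderOf.mp h1 ⟨g, (le_sup_right : zpowers g ≤ _) (mem_zpowers g)⟩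
  rw [Subgroup.orderOf_mk, hgo] at hj
  rcases Nat.eq_zero_or_pos k with hk | hk
  · rw [hk, pow_zero] at hgo
    exact orderOf_eq_one_iff.mp hgo
  · exfalso
    have h2 : r ∣ q ^ j := by rw [← hj]; exact dvd_pow_self r hk.ne'
    exact hrq ((Nat.prime_dvd_prime_iff_eq hr hq.out).mp (hr.dvd_of_dvd_pow h2))

/-- if `G` is `q`-nilpotent -/
theorem Mix.of_npc [Finite G] [hp : Fact p.Prime] [hq : Fact q.Prime] (h : Mix p q G) (hpG : p ∣ Nat.card G)
    (hqG : q ∣ Nat.card G) (hpq : p ≠ q) (hn : HasNormalPComplement q G) {r : ℕ} (hr : r.Prime) (hrG : r ∣ Nat.card G) :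
    r = p ∨ r = q := by
  by_contra hcon
  push Not at hcon
  obtain ⟨hrp, hrq⟩ := hcon
  haveI : Fact r.Prime := ⟨hr⟩
  obtain ⟨Q, M, hM, hc⟩ := hn
  haveI := hM
  have hQne : (Q : Subgroup G) ≠ ⊥ := by
    intro hb
    exact Q.ne_bot_of_dvd_card hqG hb
  have hcardM : Nat.card M * Nat.card Q = Nat.card G := hc.card_mul_card
  have hqM : ¬ q ∣ Nat.card M := by
    have h1 := Q.not_dvd_index
    rwa [hc.index_eq_card] at h1
  have hrM : r ∣ Nat.card M := by
    rw [← hcardM] at hrG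
    rcases hr.dvd_mul.mp hrG with h1 | h1
    · exact h1
    · exfalso
      obtain ⟨n, hn⟩ := IsPGroup.iff_card.mp Q.isPGroup'
      rw [show Nat.card Q = q ^ n from hn] at h1
      exact hrq ((Nat.prime_dvd_prime_iff_eq hr hq.out).mp (hr.dvd_of_dvd_pow h1))
  have hcop : (Nat.card Q).Coprime (Nat.card M) := by
    obtain ⟨n, hn⟩ := IsPGroup.iff_card.mp Q.isPGroup'
    rw [show Nat.card Q = q ^ n from hn]
    exact ((Nat.Prime.coprime_iff_not_dvd hq.out).mpr hqM).pow_left n
  have hQs : Group.IsSolvable (Q : Subgroup G) := by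
    have := Q.isPGroup'.isNilpotent
    infer_instance
  obtain ⟨S, hS, hQS⟩ := H1.Coprime2.exists_invariant_sylow (Q : Subgroup G) M
    (by rw [normalizer_eq_top]; exact le_top) hcop (Or.inl hQs) r
  -- `S ⊔ Q`
  have hcard : Nat.card (S ⊔ (Q : Subgroup G) : Subgroup G) ∣ Nat.card S * Nat.card Q := by
    have h1 : S.relIndex (S ⊔ (Q : Subgroup G)) = S.relIndex (Q : Subgroup G) := by
      rw [sup_comm]
      exact relIndex_sup_of_le_normalizer hQS
    have h2 : Nat.card (S ⊔ (Q : Subgroup G) : Subgroup G) = Nat.card S * S.relIndex (S ⊔ (Q : Subgroup G)) := by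
      have := Subgroup.card_mul_index (S.subgroupOf (S ⊔ (Q : Subgroup G)))
      rw [← this, Subgroup.relIndex, H1.SZ.card_subgroupOf_of_le le_sup_left]
    rw [h2, h1]
    exact Nat.mul_dvd_mul dvd_rfl (Subgroup.relIndex_dvd_card _ _)
  obtain ⟨n, hn⟩ := IsPGroup.iff_card.mp Q.isPGroup'
  have hpn : ¬ p ∣ Nat.card (S ⊔ (Q : Subgroup G) : Subgroup G) := by
    intro hd
    rcases hp.out.dvd_mul.mp (hd.trans hcard) with h1 | h1
    · rw [hS.2] at h1
      exact hrp ((Nat.prime_dvd_prime_iff_eq hp.out hr).mp (hp.out.dvd_of_dvd_pow h1)).symm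
    · rw [show Nat.card Q = q ^ n from hn] at h1
      exact hpq ((Nat.prime_dvd_prime_iff_eq hp.out hq.out).mp (hp.out.dvd_of_dvd_pow h1))
  have hqd : q ∣ Nat.card (S ⊔ (Q : Subgroup G) : Subgroup G) := by
    have h1 : q ∣ Nat.card Q := by
      rw [show Nat.card Q = q ^ n from hn]
      apply dvd_pow_self
      rintro rfl
      apply hQne
      rw [← Subgroup.card_eq_one]
      exact hn.trans (pow_zero q)
    exact h1.trans (Subgroup.card_dvd_of_le le_sup_right)
  have h1 := h.isPGroup hpG _ hpn hqd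
  have h2 : r ∣ Nat.card (S ⊔ (Q : Subgroup G) : Subgroup G) := by
    have h3 : r ∣ Nat.card S := by
      rw [hS.2]
      exact dvd_pow_self r (hr.factorization_pos_of_dvd Nat.card_pos.ne' hrM).ne'
    exact h3.trans (Subgroup.card_dvd_of_le le_sup_left)
  obtain ⟨m, hm⟩ := IsPGroup.iff_card.mp h1
  rw [hm] at h2
  exact hrq ((Nat.prime_dvd_prime_iff_eq hr hq.out).mp (hr.dvd_of_dvd_pow h2))

/-- if `G` is not `q`-nilpotent there is a `p`-element acting nontrivially on a `q`-subgroup -/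
theorem Mix.exists_act [Finite G] [hp : Fact p.Prime] [hq : Fact q.Prime] (h : Mix p q G) (hpG : p ∣ Nat.card G)
    (hpq : p ≠ q) (hn : ¬ HasNormalPComplement q G) :
    ∃ D : Subgroup G, IsPGroup q D ∧ ∃ g ∈ normalizer (D : Set G), ∃ k : ℕ, orderOf g = p ^ k ∧
      g ∉ centralizer (D : Set G) := by
  obtain ⟨D, hD, g, hg, r, k, hr, hrq, hgo, hgc⟩ := H3.LocalNPC.exists_bad hn
  refine ⟨D, hD, g, hg, ?_⟩
  by_cases hrp : r = p
  · exact ⟨k, by rw [hgo, hrp], hgc⟩
  · exfalso
    have hD1 : D ≠ ⊥ := by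
      rintro rfl
      apply hgc
      rw [mem_centralizer_iff]
      intro t ht
      rw [SetLike.mem_coe, mem_bot] at ht
      rw [ht, one_mul, mul_one]
    have := h.eq_one_of_normalizes hpG hpq hD hD1 hg hr hrp hrq hgo
    apply hgc
    rw [this]
    exact one_mem _

/-- a `p`-element acting nontrivially on a finite group: orbits -/
theorem exists_orbit [Finite G] [hp : Fact p.Prime] {D : Subgroup G} {g : G}
    (hg : g ∈ normalizer (D : Set G)) {k : ℕ} (hgo : orderOf g = p ^ k) (hgc : g ∉ centralizer (D : Set G)) :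
    p + 1 ≤ Nat.card D ∧ (p + 1 = Nat.card D → ∀ x ∈ D, ∀ y ∈ D, x ≠ 1 → y ≠ 1 → ∃ i : ℤ, g ^ i * x * (g ^ i)⁻¹ = y) := by
  classical
  obtain ⟨d, hd, hgd⟩ : ∃ d ∈ D, g * d * g⁻¹ ≠ d := by
    by_contra hcon
    push Not at hcon
    apply hgc
    rw [mem_centralizer_iff]
    intro t ht
    have := hcon t ht
    calc t * g = g * t * g⁻¹ * g := by rw [this]
      _ = g * t := by group
  set φ := D.normalizerMonoidHom with hφ
  set H := zpowers (φ ⟨g, hg⟩) with hH
  have hHp : IsPGroup p H := by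
    have h1 : orderOf (φ ⟨g, hg⟩) ∣ p ^ k := by
      refine (orderOf_map_dvd φ _).trans ?_
      rw [Subgroup.orderOf_mk, hgo]
    obtain ⟨j, hj, hj'⟩ := (Nat.dvd_prime_pow hp.out).mp h1
    exact IsPGroup.of_card (n := j) (by rw [hH, Nat.card_zpowers, hj'])
  have hφa : ∀ (i : ℤ) (x : D), ((φ ⟨g, hg⟩ ^ i) x : G) = g ^ i * x * (g ^ i)⁻¹ := by
    intro i x
    rw [← map_zpow]
    rfl
  set d' : D := ⟨d, hd⟩ with hd'
  have hd1 : d' ≠ 1 := by
    intro h
    apply hgd
    have : d = 1 := congrArg Subtype.val h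
    rw [this]; group
  obtain ⟨j, hj⟩ := hHp.card_orbit d'
  have hsub : MulAction.orbit H d' ⊆ {x : D | x ≠ 1} := by
    rintro _ ⟨a, rfl⟩
    intro h
    apply hd1
    have h1 : (a : MulAut D) d' = 1 := h
    exact (MulEquiv.map_eq_one_iff _).mp h1
  have hcard1 : Nat.card {x : D | x ≠ 1} + 1 = Nat.card D := by
    have h1 := Set.ncard_add_ncard_compl ({1} : Set D)
    rw [Set.ncard_singleton] at h1
    have h2 : ({1} : Set D)ᶜ = {x : D | x ≠ 1} := by ext x; simp
    rw [h2] at h1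
    have h3 : Nat.card {x : D | x ≠ 1} = ({x : D | x ≠ 1} : Set D).ncard := rfl
    rw [h3]; omega
  have hle : Nat.card (MulAction.orbit H d') ≤ Nat.card {x : D | x ≠ 1} :=
    Nat.card_mono (Set.toFinite _) hsub
  have hj0 : j ≠ 0 := by
    rintro rfl
    rw [pow_zero] at hj
    have h1 := (Nat.card_eq_one_iff_unique.mp hj).1
    apply hgd
    have h2 : (⟨φ ⟨g, hg⟩ d', ⟨⟨φ ⟨g, hg⟩, mem_zpowers _⟩, rfl⟩⟩ : MulAction.orbit H d') =
        ⟨d', MulAction.mem_orbit_self d'⟩ := h1.elim _ _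
    have h3 : φ ⟨g, hg⟩ d' = d' := congrArg Subtype.val h2
    have h4 := hφa 1 d'
    rw [zpow_one, zpow_one, h3] at h4
    exact h4.symm
  have hpj : p ≤ p ^ j := Nat.le_self_pow hj0 p
  refine ⟨by omega, ?_⟩
  intro heq x hx y hy hx1 hy1
  have hcard2 : Nat.card (MulAction.orbit H d') = Nat.card {x : D | x ≠ 1} := by omega
  have hset : MulAction.orbit H d' = {x : D | x ≠ 1} :=
    Set.eq_of_subset_of_ncard_le hsub hcard2.ge (Set.toFinite _)
  have hx' : (⟨x, hx⟩ : D) ∈ MulAction.orbit H d' := by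
    rw [hset]; intro h; exact hx1 (congrArg Subtype.val h)
  have hy' : (⟨y, hy⟩ : D) ∈ MulAction.orbit H d' := by
    rw [hset]; intro h; exact hy1 (congrArg Subtype.val h)
  rw [← MulAction.orbit_eq_iff.mpr hx'] at hy'
  obtain ⟨⟨_, i, rfl⟩, hi⟩ := hy'
  refine ⟨i, ?_⟩
  have h5 : (φ ⟨g, hg⟩ ^ i) ⟨x, hx⟩ = ⟨y, hy⟩ := hi
  rw [← hφa i ⟨x, hx⟩, h5]

end H70.MixG
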