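import Mathlib
import Cfsg.Agent.Lib.H70.MixA
import Cfsg.Agent.Lib.H27.GenSub
import Cfsg.Agent.Lib.H1.Solv
import Cfsg.Agent.Lib.H4.Burnside
import Cfsg.Agent.Lib.H5.PBf
import Cfsg.Agent.Lib.H81.InvertSylow

/-!
The minimal counterexample to S4017: basic structure.
-/

set_option autoImplicit false
open Subgroup Cfsg
open scoped commutatorElement Pointwise

namespace H70.MixG

variable {G : Type*} [Group G] {p a : ℕ}

/-- a Sylow `2`-subgroup with a transitive `p`-element -/
structure TQ (p a : ℕ) [Finite G] (Q : Sylow 2 G) (g : G) : Prop where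
  card : Nat.card (Q : Subgroup G) = 2 ^ a
  comm : ∀ x ∈ (Q : Subgroup G), ∀ y ∈ (Q : Subgroup G), x * y = y * x
  sq : ∀ x ∈ (Q : Subgroup G), x ^ 2 = 1
  norm : g ∈ normalizer ((Q : Subgroup G) : Set G)
  ord : ∃ k, orderOf g = p ^ k
  trans : ∀ x ∈ (Q : Subgroup G), ∀ y ∈ (Q : Subgroup G), x ≠ 1 → y ≠ 1 → ∃ i : ℤ, g ^ i * x * (g ^ i)⁻¹ = y

/-- existence of `Q`, `g` -/
theorem exists_TQ [Finite G] (hp : p.Prime) (hpa : p + 1 = 2 ^ a) (hmix : Mix p 2 G) (hpG : p ∣ Nat.card G)
    (hfac : (Nat.card G).factorization 2 ≤ a) (hn : ¬ HasNormalPComplement 2 G) :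
    ∃ (Q : Sylow 2 G) (g : G), TQ p a Q g := by
  haveI : Fact p.Prime := ⟨hp⟩
  haveI : Fact (Nat.Prime 2) := ⟨Nat.prime_two⟩
  have hp2 : p ≠ 2 := by
    rintro rfl
    have h1 : Even (2 ^ a) := by
      rcases Nat.eq_zero_or_pos a with h | h
      · rw [h] at hpa; norm_num at hpa
      · exact (Nat.even_pow.mpr ⟨even_two, h.ne'⟩)
    rw [← hpa] at h1
    exact absurd h1 (by decide)
  obtain ⟨D, hD, g, hg, k, hgo, hgc⟩ := hmix.exists_act hpG hp2 hn
  obtain ⟨h1, h2⟩ := exists_orbit hg hgo hgc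
  obtain ⟨m, hm⟩ := IsPGroup.iff_card.mp hD
  have hma : m ≤ a := by
    have h3 : 2 ^ m ∣ Nat.card G := by rw [← hm]; exact Subgroup.card_subgroup_dvd_card D
    exact ((Nat.prime_two.pow_dvd_iff_le_factorization Nat.card_pos.ne').mp h3).trans hfac
  have hma' : m = a := by
    rw [hpa, hm] at h1
    have := (Nat.pow_le_pow_iff_right (by norm_num : 1 < 2)).mp h1
    omega
  subst hma'
  have hfac' : (Nat.card G).factorization 2 = m := by
    apply le_antisymm hfac
    rw [← Nat.prime_two.pow_dvd_iff_le_factorization Nat.card_pos.ne', ← hm]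
    exact Subgroup.card_subgroup_dvd_card D
  let Q : Sylow 2 G := Sylow.ofCard D (by rw [hfac', hm])
  have hQD : (Q : Subgroup G) = D := rfl
  have htr := h2 (by rw [hpa, hm])
  haveI : Nontrivial D := by
    rw [← Finite.one_lt_card_iff_nontrivial, hm, ← hpa]
    have := hp.one_lt
    omega
  -- a central involution of `D`
  obtain ⟨z, hzc, hz⟩ : ∃ z : D, z ∈ center D ∧ orderOf z = 2 := by
    have h1 := hD.center_nontrivial
    have h2 : 2 ∣ Nat.card (center D) := by
      obtain ⟨n, hn⟩ := IsPGroup.iff_card.mp (hD.to_subgroup (center D))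
      rw [hn]
      rcases Nat.eq_zero_or_pos n with h | h
      · rw [h, pow_zero] at hn
        have := Finite.one_lt_card (α := center D)
        omega
      · exact dvd_pow_self 2 h.ne'
    obtain ⟨w, hw⟩ := exists_prime_orderOf_dvd_card' 2 h2
    exact ⟨w, w.2, by rw [Subgroup.orderOf_coe, hw]⟩
  have hz1 : (z : G) ≠ 1 := by
    intro h
    have : z = 1 := Subtype.ext h
    rw [this, orderOf_one] at hz
    exact absurd hz (by norm_num)
  have hkey : ∀ x ∈ D, x ≠ 1 → (∀ y ∈ D, x * y = y * x) ∧ x ^ 2 = 1 := by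
    intro x hx hx1
    obtain ⟨i, hi⟩ := htr z z.2 x hx hz1 hx1
    have hgi : g ^ i ∈ normalizer (D : Set G) := zpow_mem hg i
    constructor
    · intro y hy
      have hy' : (g ^ i)⁻¹ * y * g ^ i ∈ D := by
        have := (mem_normalizer_iff.mp (inv_mem hgi) y).mp hy
        simpa using this
      have h3 := mem_center_iff.mp hzc ⟨_, hy'⟩
      have h4 : (g ^ i)⁻¹ * y * g ^ i * z = z * ((g ^ i)⁻¹ * y * g ^ i) := congrArg Subtype.val h3
      rw [← hi]
      calc g ^ i * z * (g ^ i)⁻¹ * y = g ^ i * (z * ((g ^ i)⁻¹ * y * g ^ i)) * (g ^ i)⁻¹ := by group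
        _ = g ^ i * ((g ^ i)⁻¹ * y * g ^ i * z) * (g ^ i)⁻¹ := by rw [h4]
        _ = y * (g ^ i * z * (g ^ i)⁻¹) := by group
    · rw [← hi, conj_pow]
      have : (z : G) ^ 2 = 1 := by rw [← Subgroup.coe_pow, ← hz, pow_orderOf_eq_one]; rfl
      rw [this, mul_one, mul_inv_cancel]
  refine ⟨Q, g, hm, ?_, ?_, hg, ⟨k, hgo⟩, htr⟩
  · intro x hx y hy
    by_cases hx1 : x = 1
    · rw [hx1, one_mul, mul_one]
    · exact (hkey x hx hx1).1 y hy
  · intro x hx
    by_cases hx1 : x = 1
    · rw [hx1, one_pow]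
    · exact (hkey x hx hx1).2

/-- `TQ` is invariant under conjugation -/
theorem TQ.conj [Finite G] {Q : Sylow 2 G} {g : G} (h : TQ p a Q g) (x : G) : TQ p a (x • Q) (x * g * x⁻¹) := by
  have hmem : ∀ y, y ∈ ((x • Q : Sylow 2 G) : Subgroup G) ↔ x⁻¹ * y * x ∈ (Q : Subgroup G) := by
    intro y
    rw [Sylow.coe_subgroup_smul, Subgroup.mem_pointwise_smul_iff_inv_smul_mem]
    simp [MulAut.smul_def, ← map_inv]
  refine ⟨?_, ?_, ?_, ?_, ?_, ?_⟩
  · rw [← h.card]
    exact (Nat.card_congr (Subgroup.equivSMul (MulAut.conj x) (Q : Subgroup G)).toEquiv).symm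
  · intro y hy z hz
    rw [hmem] at hy hz
    have := h.comm _ hy _ hz
    calc y * z = x * (x⁻¹ * y * x * (x⁻¹ * z * x)) * x⁻¹ := by group
      _ = x * (x⁻¹ * z * x * (x⁻¹ * y * x)) * x⁻¹ := by rw [this]
      _ = z * y := by group
  · intro y hy
    rw [hmem] at hy
    have := h.sq _ hy
    have h2 : y ^ 2 = x * (x⁻¹ * y * x) ^ 2 * x⁻¹ := by rw [pow_two, pow_two]; group
    rw [h2, this]; group
  · rw [mem_normalizer_iff]
    intro y
    have this := mem_normalizer_iff.mp h.norm (x⁻¹ * y * x)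
    have e : g * (x⁻¹ * y * x) * g⁻¹ = x⁻¹ * (x * g * x⁻¹ * y * (x * g * x⁻¹)⁻¹) * x := by group
    rw [e] at this
    exact (hmem y).trans (this.trans (hmem _).symm)
  · obtain ⟨k, hk⟩ := h.ord
    exact ⟨k, by rw [← hk]; exact (MulAut.conj x).orderOf_eq g⟩
  · intro y hy z hz hy1 hz1
    rw [hmem] at hy hz
    obtain ⟨i, hi⟩ := h.trans _ hy _ hz (by
      intro h0; apply hy1
      have : y = x * (x⁻¹ * y * x) * x⁻¹ := by group
      rw [this, h0]; group) (by
      intro h0; apply hz1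
      have : z = x * (x⁻¹ * z * x) * x⁻¹ := by group
      rw [this, h0]; group)
    refine ⟨i, ?_⟩
    rw [conj_zpow]
    calc x * g ^ i * x⁻¹ * y * (x * g ^ i * x⁻¹)⁻¹ = x * (g ^ i * (x⁻¹ * y * x) * (g ^ i)⁻¹) * x⁻¹ := by group
      _ = z := by rw [hi]; group

theorem TQ.ne_one [Finite G] {Q : Sylow 2 G} {g : G} (h : TQ p a Q g) (ha : 2 ≤ a) :
    ∃ x ∈ (Q : Subgroup G), x ≠ 1 ∧ g * x * g⁻¹ ≠ x := by
  classical
  by_contra hcon
  push Not at hcon
  have hpow : ∀ x ∈ (Q : Subgroup G), ∀ i : ℤ, g ^ i * x * (g ^ i)⁻¹ = x := by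
    intro x hx i
    by_cases hx1 : x = 1
    · rw [hx1]; group
    · have h1 : Commute g x := by
        have := hcon x hx hx1
        calc g * x = g * x * g⁻¹ * g := by group
          _ = x * g := by rw [this]
      have h2 := h1.zpow_left i
      rw [h2.eq]; group
  have h4 : 2 ^ 2 ≤ Nat.card (Q : Subgroup G) := by
    rw [h.card]; exact Nat.pow_le_pow_right (by norm_num) ha
  have h3 : 2 < Nat.card (Q : Subgroup G) := by omega
  obtain ⟨x, y, hx, hy, hxy⟩ : ∃ x y : (Q : Subgroup G), x ≠ 1 ∧ y ≠ 1 ∧ x ≠ y := by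
    by_contra hc
    push Not at hc
    have : Nat.card (Q : Subgroup G) ≤ 2 := by
      haveI := Fintype.ofFinite (Q : Subgroup G)
      rw [Nat.card_eq_fintype_card]
      by_cases hall : ∀ x : (Q : Subgroup G), x = 1
      · have : Fintype.card (Q : Subgroup G) ≤ 1 := Fintype.card_le_one_iff.mpr (fun a b => by rw [hall a, hall b])
        omega
      · push Not at hall
        obtain ⟨x, hx⟩ := hall
        have hsub : (Finset.univ : Finset (Q : Subgroup G)) ⊆ {1, x} := by
          intro y _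
          by_cases hy : y = 1
          · simp [hy]
          · simp [hc x y hx hy]
        exact (Finset.card_le_card hsub).trans (Finset.card_le_two)
    omega
  obtain ⟨i, hi⟩ := h.trans x x.2 y y.2 (fun h0 => hx (Subtype.ext h0)) (fun h0 => hy (Subtype.ext h0))
  rw [hpow x x.2 i] at hi
  exact hxy (Subtype.ext hi)

/-- a `{2,p}`-group is solvable -/
theorem isSolvable_of_two_p {M : Type*} [Group M] [Finite M] (hp : p.Prime)
    (hM : ∀ r, r.Prime → r ∣ Nat.card M → r = p ∨ r = 2) : Group.IsSolvable M := by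
  classical
  apply H4.Burnside.isSolvable_of_card_eq p 2 hp Nat.prime_two _ M rfl
  have hpos : Nat.card M ≠ 0 := Nat.card_pos.ne'
  by_cases hpq : p = 2
  · subst hpq
    refine ⟨(Nat.card M).factorization 2, 0, ?_⟩
    rw [pow_zero, mul_one]
    have h := Nat.eq_prime_pow_of_unique_prime_dvd hpos (p := 2) (fun {r} hr hd => by
      rcases hM r hr hd with h | h <;> exact h)
    conv_lhs => rw [h]
    conv_rhs => rw [h]
    rw [Nat.Prime.factorization_pow Nat.prime_two]
    simp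
  · refine ⟨(Nat.card M).factorization p, (Nat.card M).factorization 2, ?_⟩
    apply Nat.eq_of_factorization_eq hpos (mul_ne_zero (pow_ne_zero _ hp.ne_zero) (pow_ne_zero _ two_ne_zero))
    intro r
    rw [Nat.factorization_mul (pow_ne_zero _ hp.ne_zero) (pow_ne_zero _ two_ne_zero), hp.factorization_pow,
      Nat.prime_two.factorization_pow, Finsupp.add_apply, Finsupp.single_apply, Finsupp.single_apply]
    by_cases hr : r.Prime ∧ r ∣ Nat.card M
    · rcases hM r hr.1 hr.2 with h | h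
      · rw [if_pos h.symm, if_neg (by rw [h]; exact fun h => hpq h.symm), h]; simp
      · rw [if_neg (by rw [h]; exact hpq), if_pos h.symm, h]; simp
    · have h0 : (Nat.card M).factorization r = 0 := by
        by_cases hrp : r.Prime
        · exact Nat.factorization_eq_zero_of_not_dvd (fun h => hr ⟨hrp, h⟩)
        · exact Nat.factorization_eq_zero_of_not_prime _ hrp
      rw [h0]
      by_cases h1 : p = r
      · rw [if_pos h1, h1, h0]
        by_cases h2 : 2 = r
        · exact absurd (h1.trans h2.symm) hpq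
        · simp [h2]
      · rw [if_neg h1]
        by_cases h2 : 2 = r
        · rw [if_pos h2, h2, h0]
        · simp [h2]

/-- a `p'`-subgroup of a `{2,p}`-group is a `2`-group -/
theorem isPGroup_two_of_not_dvd {M : Type*} [Group M] [Finite M]
    (hM : ∀ r, r.Prime → r ∣ Nat.card M → r = p ∨ r = 2) (h : ¬ p ∣ Nat.card M) : IsPGroup 2 M := by
  apply IsPGroup.of_card (n := (Nat.card M).primeFactorsList.length)
  apply Nat.eq_prime_pow_of_unique_prime_dvd Nat.card_pos.ne'
  intro r hr hd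
  rcases hM r hr hd with h1 | h1
  · exact absurd (h1 ▸ hd) h
  · exact h1

theorem isPGroup_p_of_not_dvd {M : Type*} [Group M] [Finite M]
    (hM : ∀ r, r.Prime → r ∣ Nat.card M → r = p ∨ r = 2) (h : ¬ 2 ∣ Nat.card M) : IsPGroup p M := by
  apply IsPGroup.of_card (n := (Nat.card M).primeFactorsList.length)
  apply Nat.eq_prime_pow_of_unique_prime_dvd Nat.card_pos.ne'
  intro r hr hd
  rcases hM r hr hd with h1 | h1
  · exact h1
  · exact absurd (h1 ▸ hd) h

/-- in a `{2,p}`-group with commutative Sylow `p`-subgroups and trivial `O_2` the Sylow `p`-subgroups are normal -/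
theorem sylow_normal_of_pCore_eq_bot {M : Type*} [Group M] [Finite M] [hp : Fact p.Prime] (hp2 : p ≠ 2)
    (hM : ∀ r, r.Prime → r ∣ Nat.card M → r = p ∨ r = 2) (P : Sylow p M)
    (hP : ∀ x ∈ (P : Subgroup M), ∀ y ∈ (P : Subgroup M), x * y = y * x) (h2 : pCore 2 M = ⊥) :
    (P : Subgroup M).Normal := by
  have hs := isSolvable_of_two_p hp.out hM
  have h1 : pPrimeCore p M = ⊥ := by
    have hn : (pPrimeCore p M).Normal := inferInstance
    rw [eq_bot_iff, ← h2]
    apply H1.Cores.le_pCore hn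
    apply isPGroup_two_of_not_dvd (p := p)
    · intro r hr hd
      exact hM r hr (hd.trans (Subgroup.card_subgroup_dvd_card _))
    · have := H1.Cores.coprime_card_pPrimeCore (G := M) p
      intro hd
      exact (Nat.Prime.coprime_iff_not_dvd hp.out).mp this.symm hd
  have h3 := H1.Solv.centralizer_pCore_le hs p h1
  have h4 : pCore p M ≤ (P : Subgroup M) := H1.Cores.pCore_le_sylow P
  have h5 : (P : Subgroup M) ≤ pCore p M := by
    refine le_trans ?_ h3
    intro x hx
    rw [mem_centralizer_iff]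
    intro y hy
    exact hP y (h4 hy) x hx
  rw [le_antisymm h5 h4]
  infer_instance

/-- the key lemma: a `{2,p}`-subgroup containing `Q` and `g` normalizes `Q` -/
theorem TQ.le_normalizer [Finite G] [hp : Fact p.Prime] (hp2 : p ≠ 2) {Q : Sylow 2 G} {g : G} (h : TQ p a Q g)
    (ha : 2 ≤ a)
    (hcomm : ∀ P : Subgroup G, IsPGroup p P → ∀ x ∈ P, ∀ y ∈ P, x * y = y * x) {M : Subgroup G}
    (hM : ∀ r, r.Prime → r ∣ Nat.card M → r = p ∨ r = 2) (hQM : (Q : Subgroup G) ≤ M) (hgM : g ∈ M) :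
    M ≤ normalizer ((Q : Subgroup G) : Set G) := by
  haveI : Fact (Nat.Prime 2) := ⟨Nat.prime_two⟩
  set Q' : Sylow 2 M := Q.subtype hQM with hQ'
  have hQm : ∀ x : M, x ∈ (Q' : Subgroup M) ↔ (x : G) ∈ (Q : Subgroup G) := by
    intro x
    rw [hQ', Sylow.coe_subtype, mem_subgroupOf]
  by_cases hc : pCore 2 M = ⊥
  · exfalso
    obtain ⟨k, hk⟩ := h.ord
    have hgp : IsPGroup p (zpowers (⟨g, hgM⟩ : M)) := by
      apply IsPGroup.of_card (n := k)
      rw [Nat.card_zpowers, Subgroup.orderOf_mk, hk]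
    obtain ⟨P, hP⟩ := hgp.exists_le_sylow
    have hPn : (P : Subgroup M).Normal := by
      refine sylow_normal_of_pCore_eq_bot hp2 hM P ?_ hc
      intro x hx y hy
      have hPp : IsPGroup p ((P : Subgroup M).map M.subtype) := P.2.map _
      have := hcomm _ hPp x (mem_map_of_mem _ hx) y (mem_map_of_mem _ hy)
      exact Subtype.ext this
    obtain ⟨x, hx, hx1, hgx⟩ := h.ne_one ha
    apply hgx
    have hgP : (⟨g, hgM⟩ : M) ∈ (P : Subgroup M) := hP (mem_zpowers _)
    set x' : M := ⟨x, hQM hx⟩ with hx'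
    set g' : M := ⟨g, hgM⟩ with hg'
    have h1 : g' * x' * g'⁻¹ * x'⁻¹ ∈ (P : Subgroup M) := by
      have : x' * g'⁻¹ * x'⁻¹ ∈ (P : Subgroup M) := hPn.conj_mem _ (inv_mem hgP) x'
      have e : g' * x' * g'⁻¹ * x'⁻¹ = g' * (x' * g'⁻¹ * x'⁻¹) := by group
      rw [e]; exact mul_mem hgP this
    have h2 : g * x * g⁻¹ * x⁻¹ ∈ (Q : Subgroup G) := by
      apply mul_mem _ (inv_mem hx)
      exact (mem_normalizer_iff.mp h.norm x).mp hx
    have h3 : (⟨g * x * g⁻¹ * x⁻¹, Q.1.mem_carrier.mp h2⟩ : (Q : Subgroup G)) = 1 := by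
      have hcop : (Nat.card (Q : Subgroup G)).Coprime (Nat.card (P : Subgroup M)) := by
        obtain ⟨n, hn⟩ := IsPGroup.iff_card.mp P.2
        obtain ⟨m, hm⟩ := IsPGroup.iff_card.mp Q.2
        rw [hn, hm]
        exact Nat.Coprime.pow _ _ ((Nat.coprime_primes Nat.prime_two hp.out).mpr hp2.symm)
      rw [← orderOf_eq_one_iff]
      apply Nat.eq_one_of_dvd_coprimes hcop
      · exact orderOf_dvd_natCard _
      · rw [← Subgroup.orderOf_coe]
        have : orderOf (⟨g' * x' * g'⁻¹ * x'⁻¹, h1⟩ : (P : Subgroup M)) ∣ Nat.card (P : Subgroup M) := orderOf_dvd_natCard _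
        rw [← Subgroup.orderOf_coe, ← Subgroup.orderOf_coe] at this
        exact this
    have h4 : g * x * g⁻¹ * x⁻¹ = 1 := congrArg Subtype.val h3
    exact mul_inv_eq_one.mp h4
  · obtain ⟨⟨w, hwc⟩, hw1⟩ := Subgroup.ne_bot_iff_exists_ne_one.mp hc
    have hw1' : w ≠ 1 := fun h0 => hw1 (Subtype.ext h0)
    have hcQ : pCore 2 M ≤ (Q' : Subgroup M) := H1.Cores.pCore_le_sylow Q'
    have hwQ : (w : G) ∈ (Q : Subgroup G) := (hQm w).mp (hcQ hwc)
    have hn : (pCore 2 M).Normal := inferInstance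
    have hQc : (Q' : Subgroup M) ≤ pCore 2 M := by
      intro y hy
      by_cases hy1 : y = 1
      · rw [hy1]; exact one_mem _
      · obtain ⟨i, hi⟩ := h.trans w hwQ y ((hQm y).mp hy) (fun h0 => hw1' (Subtype.ext h0)) (fun h0 => hy1 (Subtype.ext h0))
        have e : y = (⟨g, hgM⟩ : M) ^ i * w * ((⟨g, hgM⟩ : M) ^ i)⁻¹ := by
          apply Subtype.ext
          rw [← hi]
          simp
        rw [e]
        exact hn.conj_mem _ hwc _
    have he : (Q' : Subgroup M) = pCore 2 M := le_antisymm hQc hcQ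
    intro m hm
    have hQn : (Q' : Subgroup M).Normal := by rw [he]; exact hn
    rw [mem_normalizer_iff]
    intro x
    constructor
    · intro hx
      have := hQn.conj_mem ⟨x, hQM hx⟩ ((hQm _).mpr hx) ⟨m, hm⟩
      exact (hQm _).mp this
    · intro hx
      have := hQn.conj_mem ⟨m * x * m⁻¹, hQM hx⟩ ((hQm _).mpr hx) ⟨m⁻¹, inv_mem hm⟩
      have h2 := (hQm _).mp this
      have e : m⁻¹ * (m * x * m⁻¹) * m⁻¹⁻¹ = x := by group
      rw [← e]; exact h2

end H70.MixG
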