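import Mathlib
import Cfsg.Agent.Lib.H70.MixB

/-!
The minimal counterexample to S4017: centralizers of involutions.
-/

set_option autoImplicit false
set_option linter.all false
open Subgroup Cfsg
open scoped commutatorElement Pointwise

namespace H70.MixG

variable {G : Type*} [Group G] {p a : ℕ}

/-- the context of the minimal counterexample -/
structure Ctx (p a : ℕ) (G : Type*) [Group G] [Finite G] : Prop where
  simple : IsSimpleGroup G
  hp : p.Prime
  hpa : p + 1 = 2 ^ a
  ha : 2 ≤ a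
  comm : ∀ P : Subgroup G, IsPGroup p P → ∀ x ∈ P, ∀ y ∈ P, x * y = y * x
  min : ∀ H : Subgroup G, H ≠ ⊤ → 2 ∣ Nat.card H → ∀ r, r.Prime → r ∣ Nat.card H → r = p ∨ r = 2
  bad : ∃ r, r.Prime ∧ r ∣ Nat.card G ∧ r ≠ p ∧ r ≠ 2
  tq : ∀ Q : Sylow 2 G, ∃ g, TQ p a Q g

section
variable [Finite G] (c : Ctx p a G)
include c

theorem Ctx.p_ne_two : p ≠ 2 := by
  rintro rfl
  have h := c.hpa
  have ha := c.ha
  have h1 : Even (2 ^ a) := Nat.even_pow.mpr ⟨even_two, by omega⟩
  rw [← h] at h1
  exact absurd h1 (by decide)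

theorem Ctx.two_dvd : 2 ∣ Nat.card G := by
  obtain ⟨g, h⟩ := c.tq default
  have h1 : Nat.card ((default : Sylow 2 G) : Subgroup G) ∣ Nat.card G := Subgroup.card_subgroup_dvd_card _
  rw [h.card] at h1
  exact (dvd_pow_self 2 (by have := c.ha; omega)).trans h1

theorem Ctx.even_of_le {Q : Sylow 2 G} {M : Subgroup G} (h : (Q : Subgroup G) ≤ M) : 2 ∣ Nat.card M := by
  obtain ⟨g, hg⟩ := c.tq Q
  have h1 := Subgroup.card_dvd_of_le h
  rw [hg.card] at h1
  exact (dvd_pow_self 2 (by have := c.ha; omega)).trans h1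

/-- a proper nontrivial subgroup has a proper normalizer -/
theorem Ctx.normalizer_ne_top {W : Subgroup G} (h1 : W ≠ ⊥) (h2 : W ≠ ⊤) : normalizer (W : Set G) ≠ ⊤ := by
  intro h
  have hn : W.Normal := normalizer_eq_top_iff.mp h
  haveI := c.simple
  rcases hn.eq_bot_or_eq_top with h3 | h3
  · exact h1 h3
  · exact h2 h3

theorem Ctx.ne_top_of_isPGroup {W : Subgroup G} (h : IsPGroup p W) : W ≠ ⊤ := by
  rintro rfl
  haveI : Fact p.Prime := ⟨c.hp⟩
  obtain ⟨n, hn⟩ := IsPGroup.iff_card.mp h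
  rw [Subgroup.card_top] at hn
  have := c.two_dvd
  rw [hn] at this
  exact c.p_ne_two ((Nat.prime_dvd_prime_iff_eq Nat.prime_two c.hp).mp (Nat.prime_two.dvd_of_dvd_pow this)).symm

theorem Ctx.center_eq_bot : center G = ⊥ := by
  haveI := c.simple
  have hn : (center G).Normal := inferInstance
  rcases hn.eq_bot_or_eq_top with h | h
  · exact h
  · exfalso
    obtain ⟨g, hg⟩ := c.tq default
    obtain ⟨x, hx, hx1, hne⟩ := hg.ne_one c.ha
    apply hne
    have : g ∈ center G := by rw [h]; trivial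
    rw [mem_center_iff] at this
    rw [← this x]; group

theorem Ctx.centralizer_ne_top {x : G} (hx : x ≠ 1) : centralizer ({x} : Set G) ≠ ⊤ := by
  intro h
  apply hx
  rw [← Subgroup.mem_bot, ← c.center_eq_bot, mem_center_iff]
  intro g
  have : g ∈ centralizer ({x} : Set G) := by rw [h]; trivial
  exact (mem_centralizer_singleton_iff.mp this).symm ▸ rfl

/-- **K1** -/
theorem Ctx.norm_le {Q : Sylow 2 G} {g : G} (h : TQ p a Q g) {W : Subgroup G} (hW : IsPGroup p W) (hW1 : W ≠ ⊥)
    (hQ : (Q : Subgroup G) ≤ normalizer (W : Set G)) (hg : g ∈ normalizer (W : Set G)) :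
    normalizer (W : Set G) ≤ normalizer ((Q : Subgroup G) : Set G) := by
  haveI : Fact p.Prime := ⟨c.hp⟩
  refine h.le_normalizer c.p_ne_two c.ha c.comm ?_ hQ hg
  exact c.min _ (c.normalizer_ne_top hW1 (c.ne_top_of_isPGroup hW)) (c.even_of_le hQ)

omit c in
/-- a `p`-group and a `2`-group normalizing each other commute -/
theorem commute_of_normalize {p : ℕ} [hp : Fact p.Prime] (hp2 : p ≠ 2) {Q W : Subgroup G} (hQ : IsPGroup 2 Q) (hW : IsPGroup p W)
    {x w : G} (hx : x ∈ Q) (hw : w ∈ W) (h1 : x * w * x⁻¹ ∈ W) (h2 : w * x⁻¹ * w⁻¹ ∈ Q) : x * w = w * x := by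
  have h3 : x * w * x⁻¹ * w⁻¹ ∈ W := mul_mem h1 (inv_mem hw)
  have h4 : x * w * x⁻¹ * w⁻¹ ∈ Q := by
    have e : x * w * x⁻¹ * w⁻¹ = x * (w * x⁻¹ * w⁻¹) := by group
    rw [e]; exact mul_mem hx h2
  have hcop : (Nat.card W).Coprime (Nat.card Q) := by
    haveI : Fact (Nat.Prime 2) := ⟨Nat.prime_two⟩
    obtain ⟨n, hn⟩ := IsPGroup.iff_card.mp hW
    obtain ⟨m, hm⟩ := IsPGroup.iff_card.mp hQ
    rw [hn, hm]
    exact Nat.Coprime.pow _ _ ((Nat.coprime_primes hp.out Nat.prime_two).mpr hp2)
  have h5 : x * w * x⁻¹ * w⁻¹ = 1 := by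
    have h6 : x * w * x⁻¹ * w⁻¹ ∈ W ⊓ Q := Subgroup.mem_inf.mpr ⟨h3, h4⟩
    rw [(Subgroup.inf_eq_bot_of_coprime hcop)] at h6
    exact Subgroup.mem_bot.mp h6
  have e : x * w = (x * w * x⁻¹ * w⁻¹) * (w * x) := by group
  rw [e, h5, one_mul]

/-- the odd part of the centralizer of an involution -/
def RR (t : G) : Subgroup G := (pPrimeCore 2 (centralizer ({t} : Set G))).map (centralizer ({t} : Set G)).subtype

omit c in
theorem RR_le (t : G) : RR t ≤ centralizer ({t} : Set G) := by
  rintro _ ⟨x, _, rfl⟩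
  exact x.2

omit c [Finite G] in
theorem RR_le' (t : G) : RR t ≤ centralizer ({t} : Set G) := by
  rintro _ ⟨x, _, rfl⟩
  exact x.2

omit c in
theorem RR_normal {t x : G} (hx : x ∈ centralizer ({t} : Set G)) {y : G} (hy : y ∈ RR t) : x * y * x⁻¹ ∈ RR t := by
  obtain ⟨z, hz, rfl⟩ := hy
  have hn : (pPrimeCore 2 (centralizer ({t} : Set G))).Normal := inferInstance
  exact ⟨⟨x, hx⟩ * z * ⟨x, hx⟩⁻¹, hn.conj_mem z hz _, rfl⟩

omit c in
theorem RR_odd (t : G) : ¬ 2 ∣ Nat.card (RR t) := by
  have h1 : Nat.card (RR t) = Nat.card (pPrimeCore 2 (centralizer ({t} : Set G))) :=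
    Subgroup.card_map_of_injective (centralizer ({t} : Set G)).subtype_injective
  rw [h1]
  have := H1.Cores.coprime_card_pPrimeCore (G := centralizer ({t} : Set G)) 2
  intro hd
  exact (Nat.Prime.coprime_iff_not_dvd Nat.prime_two).mp this.symm hd

theorem Ctx.RR_isPGroup {Q : Sylow 2 G} {t : G} (ht : t ∈ (Q : Subgroup G)) (ht1 : t ≠ 1) : IsPGroup p (RR t) := by
  obtain ⟨g, hg⟩ := c.tq Q
  apply isPGroup_p_of_not_dvd (p := p)
  · intro r hr hd
    have hle : (Q : Subgroup G) ≤ centralizer ({t} : Set G) := by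
      intro x hx
      rw [mem_centralizer_singleton_iff]
      exact hg.comm x hx t ht
    exact c.min _ (c.centralizer_ne_top ht1) (c.even_of_le hle) r hr (hd.trans (Subgroup.card_dvd_of_le (RR_le t)))
  · exact RR_odd t

/-- `N(Q) ∩ C(t) ≤ C(Q)` -/
theorem Ctx.norm_cent {Q : Sylow 2 G} {t : G} (ht : t ∈ (Q : Subgroup G)) (ht1 : t ≠ 1) {n : G}
    (hn : n ∈ normalizer ((Q : Subgroup G) : Set G)) (hnt : n * t = t * n) : n ∈ centralizer ((Q : Subgroup G) : Set G) := by
  haveI : Fact (Nat.Prime 2) := ⟨Nat.prime_two⟩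
  haveI : Fact p.Prime := ⟨c.hp⟩
  obtain ⟨g, hg⟩ := c.tq Q
  -- the group N = N(Q) ∩ C(t), and its elements of prime power order centralize Q
  have key : ∀ (r k : ℕ), r.Prime → ∀ n : G, n ∈ normalizer ((Q : Subgroup G) : Set G) → n * t = t * n →
      orderOf n = r ^ k → n ∈ centralizer ((Q : Subgroup G) : Set G) := by
    intro r k hr n hn hnt hno
    have hQn : (Q : Subgroup G) ≠ ⊤ := by
      intro htop
      have h1 := c.center_eq_bot
      have : t ∈ center G := by
        rw [mem_center_iff]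
        intro x
        exact hg.comm x (by rw [htop]; trivial) t ht
      rw [h1] at this
      exact ht1 (Subgroup.mem_bot.mp this)
    have hQb : (Q : Subgroup G) ≠ ⊥ := by
      intro hb
      rw [hb] at ht
      exact ht1 (Subgroup.mem_bot.mp ht)
    rcases Nat.eq_zero_or_pos k with hk | hk
    · rw [hk, pow_zero] at hno
      rw [orderOf_eq_one_iff.mp hno]; exact one_mem _
    · have hrd : r = p ∨ r = 2 := by
        apply c.min _ (c.normalizer_ne_top hQb hQn) (c.even_of_le Subgroup.le_normalizer) r hr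
        have h1 : orderOf (⟨n, hn⟩ : normalizer ((Q : Subgroup G) : Set G)) ∣ Nat.card _ := orderOf_dvd_natCard _
        rw [Subgroup.orderOf_mk, hno] at h1
        exact (dvd_pow_self r hk.ne').trans h1
      rcases hrd with rfl | rfl
      · by_contra hcon
        obtain ⟨-, h2⟩ := exists_orbit hn hno hcon
        have h3 := h2 (by rw [hg.card, c.hpa])
        obtain ⟨x, hx, hx1, -⟩ := hg.ne_one c.ha
        -- t is fixed by n, transitive, so every x equals t
        have hfix : ∀ i : ℤ, n ^ i * t * (n ^ i)⁻¹ = t := by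
          intro i
          have h4 : Commute n t := hnt
          rw [(h4.zpow_left i).eq]; group
        have hall : ∀ y ∈ (Q : Subgroup G), y ≠ 1 → y = t := by
          intro y hy hy1
          obtain ⟨i, hi⟩ := h3 t ht y hy ht1 hy1
          rw [hfix i] at hi
          exact hi.symm
        obtain ⟨x, hx, hx1, hgx⟩ := hg.ne_one c.ha
        apply hgx
        have h5 := hall x hx hx1
        have h6 : g * x * g⁻¹ ∈ (Q : Subgroup G) := (mem_normalizer_iff.mp hg.norm x).mp hx
        have h7 : g * x * g⁻¹ ≠ 1 := by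
          intro h0
          apply hx1
          have : x = g⁻¹ * (g * x * g⁻¹) * g := by group
          rw [this, h0]; group
        rw [hall _ h6 h7, h5]
      · -- 2-element normalizing the Sylow subgroup lies in it
        have hz : IsPGroup 2 (zpowers n) := IsPGroup.of_card (n := k) (by rw [Nat.card_zpowers, hno])
        have hle : zpowers n ≤ (Q : Subgroup G) := by
          have h4 : zpowers n ≤ normalizer ((Q : Subgroup G) : Set G) := by rw [zpowers_le]; exact hn
          exact (IsPGroup.inf_normalizer_sylow hz Q).symm ▸ le_inf le_rfl h4 |>.trans inf_le_right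
        have hnQ : n ∈ (Q : Subgroup G) := hle (mem_zpowers n)
        rw [mem_centralizer_iff]
        intro y hy
        exact hg.comm y hy n hnQ
  -- general element
  set N : Subgroup G := normalizer ((Q : Subgroup G) : Set G) ⊓ centralizer ({t} : Set G) with hN
  have hNle : N ≤ centralizer ((Q : Subgroup G) : Set G) := by
    have h1 : ∀ x ∈ N, ∀ r k : ℕ, r.Prime → orderOf x = r ^ k → x ∈ centralizer ((Q : Subgroup G) : Set G) := by
      intro x hx r k hr hxo
      exact key r k hr x hx.1 (mem_centralizer_singleton_iff.mp hx.2) hxo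
    refine H27.GenSub.le_of_forall_sylow (fun q hq => ?_)
    haveI : Fact q.Prime := ⟨hq⟩
    obtain ⟨S⟩ : Nonempty (Sylow q N) := inferInstance
    have hSp : IsPGroup q ((S : Subgroup N).map N.subtype) := S.2.map _
    refine ⟨(S : Subgroup N).map N.subtype, ⟨?_, ?_⟩, ?_⟩
    · rintro _ ⟨x, _, rfl⟩
      exact x.2
    · rw [Subgroup.card_map_of_injective N.subtype_injective]
      exact S.card_eq_multiplicity
    · intro x hx
      obtain ⟨k, hk⟩ := IsPGroup.iff_orderOf.mp hSp ⟨x, hx⟩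
      rw [Subgroup.orderOf_mk] at hk
      refine h1 x ?_ q k hq hk
      obtain ⟨y, _, rfl⟩ := hx
      exact y.2
  exact hNle ⟨hn, mem_centralizer_singleton_iff.mpr hnt⟩

end

end H70.MixG
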