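import Mathlib
import Cfsg.Agent.Lib.H70.MixC

/-!
The minimal counterexample to S4017: centralizers of involutions, continued.
-/

set_option autoImplicit false
set_option linter.all false
open Subgroup Cfsg
open scoped commutatorElement Pointwise

namespace H70.MixG

variable {G : Type*} [Group G] {p a : ℕ}

section
variable [Finite G] (c : Ctx p a G)
include c

theorem Ctx.le_cent {Q : Sylow 2 G} {t : G} (ht : t ∈ (Q : Subgroup G)) :
    (Q : Subgroup G) ≤ centralizer ({t} : Set G) := by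
  obtain ⟨g, hg⟩ := c.tq Q
  intro x hx
  rw [mem_centralizer_singleton_iff]
  exact hg.comm x hx t ht

/-- elements of odd order of `C(t)` lie in `RR t` -/
theorem Ctx.mem_RR_of_odd {Q : Sylow 2 G} {t : G} (ht : t ∈ (Q : Subgroup G)) (ht1 : t ≠ 1) {x : G}
    (hxt : x * t = t * x) (hx : Odd (orderOf x)) : x ∈ RR t := by
  haveI : Fact (Nat.Prime 2) := ⟨Nat.prime_two⟩
  obtain ⟨g, hg⟩ := c.tq Q
  have hle := c.le_cent ht
  set C := centralizer ({t} : Set G) with hC
  set Q' : Sylow 2 C := Q.subtype hle with hQ'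
  have hQm : ∀ x : C, x ∈ (Q' : Subgroup C) ↔ (x : G) ∈ (Q : Subgroup G) := by
    intro x
    rw [hQ', Sylow.coe_subtype, mem_subgroupOf]
  have hnc : normalizer (Q' : Set C) ≤ centralizer (Q' : Set C) := by
    intro n hn
    have h1 : (n : G) ∈ normalizer ((Q : Subgroup G) : Set G) := by
      rw [mem_normalizer_iff]
      intro y
      constructor
      · intro hy
        have := (mem_normalizer_iff.mp hn ⟨y, hle hy⟩).mp ((hQm _).mpr hy)
        exact (hQm _).mp this
      · intro hy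
        have hy' : (⟨n * y * (n : G)⁻¹, hle hy⟩ : C) ∈ (Q' : Subgroup C) := (hQm _).mpr hy
        have h2 : y ∈ C := by
          have : (n : G)⁻¹ * (n * y * (n : G)⁻¹) * n ∈ C := mul_mem (mul_mem (inv_mem n.2) (hle hy)) n.2
          have e : (n : G)⁻¹ * (n * y * (n : G)⁻¹) * n = y := by group
          rwa [e] at this
        have := (mem_normalizer_iff.mp hn ⟨y, h2⟩).mpr hy'
        exact (hQm _).mp this
    have h3 := c.norm_cent ht ht1 h1 (mem_centralizer_singleton_iff.mp n.2)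
    rw [mem_centralizer_iff]
    intro y hy
    have := mem_centralizer_iff.mp h3 (y : G) ((hQm y).mp hy)
    exact Subtype.ext this
  obtain ⟨k, hk⟩ := H5.PBf.nc_of_burnside Q' hnc
  set x' : C := ⟨x, mem_centralizer_singleton_iff.mpr hxt⟩ with hx'
  refine ⟨x', ?_, rfl⟩
  change x' ∈ pPrimeCore 2 C
  have hn : (pPrimeCore 2 C).Normal := inferInstance
  rw [← QuotientGroup.eq_one_iff, ← orderOf_eq_one_iff]
  have h1 : orderOf (x' : C ⧸ pPrimeCore 2 C) ∣ 2 ^ k := by
    rw [← hk, Subgroup.index]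
    exact orderOf_dvd_natCard _
  have h2 : orderOf (x' : C ⧸ pPrimeCore 2 C) ∣ orderOf x := by
    have h3 : orderOf x = orderOf x' := by rw [hx', Subgroup.orderOf_mk]
    rw [h3]
    exact orderOf_map_dvd (QuotientGroup.mk' _) x'
  have h4 : (2 ^ k).Coprime (orderOf x) := by
    exact Nat.Coprime.pow_left k (Nat.coprime_two_left.mpr hx)
  exact Nat.eq_one_of_dvd_coprimes h4 h1 h2

theorem Ctx.odd_p : Odd p := c.hp.odd_of_ne_two c.p_ne_two

/-- membership in `RR t` -/
theorem Ctx.mem_RR {Q : Sylow 2 G} {t : G} (ht : t ∈ (Q : Subgroup G)) (ht1 : t ≠ 1) {x : G} :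
    x ∈ RR t ↔ x * t = t * x ∧ ∃ k, orderOf x = p ^ k := by
  constructor
  · intro hx
    refine ⟨mem_centralizer_singleton_iff.mp (RR_le t hx), ?_⟩
    haveI : Fact p.Prime := ⟨c.hp⟩
    obtain ⟨k, hk⟩ := IsPGroup.iff_orderOf.mp (c.RR_isPGroup ht ht1) ⟨x, hx⟩
    exact ⟨k, by rw [← hk, Subgroup.orderOf_mk]⟩
  · rintro ⟨h1, k, hk⟩
    exact c.mem_RR_of_odd ht ht1 h1 (by rw [hk]; exact c.odd_p.pow)

theorem Ctx.RR_conj {Q : Sylow 2 G} {t : G} (ht : t ∈ (Q : Subgroup G)) (ht1 : t ≠ 1) (n : G) {x : G} (hx : x ∈ RR t) :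
    n * x * n⁻¹ ∈ RR (n * t * n⁻¹) := by
  have h1 : n * t * n⁻¹ ∈ ((n • Q : Sylow 2 G) : Subgroup G) := by
    rw [Sylow.coe_subgroup_smul, Subgroup.mem_pointwise_smul_iff_inv_smul_mem]
    have e : (MulAut.conj n)⁻¹ • (n * t * n⁻¹) = t := by
      rw [← map_inv, MulAut.smul_def, MulAut.conj_apply]; group
    rw [e]; exact ht
  have h2 : n * t * n⁻¹ ≠ 1 := by
    intro h
    apply ht1
    have : t = n⁻¹ * (n * t * n⁻¹) * n := by group
    rw [this, h]; group
  rw [c.mem_RR h1 h2]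
  obtain ⟨h3, k, hk⟩ := (c.mem_RR ht ht1).mp hx
  refine ⟨?_, k, ?_⟩
  · calc n * x * n⁻¹ * (n * t * n⁻¹) = n * (x * t) * n⁻¹ := by group
      _ = n * (t * x) * n⁻¹ := by rw [h3]
      _ = _ := by group
  · rw [← hk]; exact (MulAut.conj n).orderOf_eq x

/-- every 2-element lies in a Sylow subgroup: involutions -/
theorem exists_sylow_of_sq {t : G} (ht : t ^ 2 = 1) : ∃ Q : Sylow 2 G, t ∈ (Q : Subgroup G) := by
  haveI : Fact (Nat.Prime 2) := ⟨Nat.prime_two⟩
  have h1 : IsPGroup 2 (zpowers t) := by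
    have h0 : orderOf t ∣ 2 ^ 1 := by rw [pow_one]; exact orderOf_dvd_of_pow_eq_one ht
    obtain ⟨j, -, hj⟩ := (Nat.dvd_prime_pow Nat.prime_two).mp h0
    exact IsPGroup.of_card (n := j) (by rw [Nat.card_zpowers, hj])
  obtain ⟨Q, hQ⟩ := h1.exists_le_sylow
  exact ⟨Q, hQ (mem_zpowers t)⟩

/-- `C(t)` is generated by `RR t` and `Q` -/
theorem Ctx.cent_le {Q : Sylow 2 G} {t : G} (ht : t ∈ (Q : Subgroup G)) (ht1 : t ≠ 1) {L : Subgroup G}
    (h1 : RR t ≤ L) (h2 : (Q : Subgroup G) ≤ L) : centralizer ({t} : Set G) ≤ L := by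
  haveI : Fact (Nat.Prime 2) := ⟨Nat.prime_two⟩
  have hle := c.le_cent ht
  refine H27.GenSub.le_of_forall_sylow (fun q hq => ?_)
  haveI : Fact q.Prime := ⟨hq⟩
  by_cases hq2 : q = 2
  · subst hq2
    refine ⟨(Q.subtype hle : Subgroup _).map (centralizer ({t} : Set G)).subtype, H1.Coprime2.isSylIn_map _, ?_⟩
    rw [Sylow.coe_subtype, Subgroup.map_subgroupOf_eq_of_le hle]
    exact h2
  · obtain ⟨S⟩ : Nonempty (Sylow q (centralizer ({t} : Set G))) := inferInstance
    have hSp : IsPGroup q ((S : Subgroup _).map (centralizer ({t} : Set G)).subtype) := S.2.map _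
    refine ⟨_, H1.Coprime2.isSylIn_map S, ?_⟩
    intro x hx
    obtain ⟨k, hk⟩ := IsPGroup.iff_orderOf.mp hSp ⟨x, hx⟩
    rw [Subgroup.orderOf_mk] at hk
    apply h1
    obtain ⟨y, _, rfl⟩ := hx
    apply c.mem_RR_of_odd ht ht1 (mem_centralizer_singleton_iff.mp y.2)
    have : orderOf ((centralizer ({t} : Set G)).subtype y) = q ^ k := hk
    rw [show ((y : G)) = (centralizer ({t} : Set G)).subtype y from rfl, this]
    exact (hq.odd_of_ne_two hq2).pow

/-- `p`-subgroups containing... normalized: elements of a `p`-subgroup normalized by `Q` and normalizing `Q` centralize `Q` -/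
theorem Ctx.cent_of_norm {Q : Sylow 2 G} {W : Subgroup G} (hW : IsPGroup p W)
    (hQ : (Q : Subgroup G) ≤ normalizer (W : Set G)) (h : W ≤ normalizer ((Q : Subgroup G) : Set G)) :
    W ≤ centralizer ((Q : Subgroup G) : Set G) := by
  haveI : Fact p.Prime := ⟨c.hp⟩
  intro w hw
  rw [mem_centralizer_iff]
  intro x hx
  apply commute_of_normalize c.p_ne_two Q.2 hW hx hw
  · exact (mem_normalizer_iff.mp (hQ hx) w).mp hw
  · exact (mem_normalizer_iff.mp (h hw) x⁻¹).mp (inv_mem hx)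

/-- **K1** variant: a nontrivial `p`-subgroup normalized by `Q` and `g` is centralized by `Q` -/
theorem Ctx.cent_of_TQ {Q : Sylow 2 G} {g : G} (h : TQ p a Q g) {W : Subgroup G} (hW : IsPGroup p W)
    (hQ : (Q : Subgroup G) ≤ normalizer (W : Set G)) (hg : g ∈ normalizer (W : Set G)) :
    W ≤ centralizer ((Q : Subgroup G) : Set G) := by
  by_cases hW1 : W = ⊥
  · rw [hW1]; exact bot_le
  · exact c.cent_of_norm hW hQ (Subgroup.le_normalizer.trans (c.norm_le h hW hW1 hQ hg))

omit c in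
theorem Commute.pow_order {G : Type*} [Group G] [Finite G] {p : ℕ} (hp : p.Prime) {x y : G} (h : Commute x y)
    (hx : ∃ k, orderOf x = p ^ k) (hy : ∃ k, orderOf y = p ^ k) : ∃ k, orderOf (x * y) = p ^ k := by
  obtain ⟨k, hk⟩ := hx
  obtain ⟨l, hl⟩ := hy
  have h1 : orderOf (x * y) ∣ p ^ (k + l) := by
    refine (h.orderOf_mul_dvd_mul_orderOf).trans ?_
    rw [hk, hl, pow_add]
  obtain ⟨j, -, hj⟩ := (Nat.dvd_prime_pow hp).mp h1
  exact ⟨j, hj⟩

/-- the case `a ≥ 3` -/
theorem Ctx.Z_of_three_le (ha3 : 3 ≤ a) {Q : Sylow 2 G} {t : G} (ht : t ∈ (Q : Subgroup G)) (ht1 : t ≠ 1) :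
    RR t ≤ centralizer ((Q : Subgroup G) : Set G) := by
  haveI : Fact (Nat.Prime 2) := ⟨Nat.prime_two⟩
  haveI : Fact p.Prime := ⟨c.hp⟩
  obtain ⟨g, hg⟩ := c.tq Q
  have hQe : Cfsg.IsElementaryAbelian 2 (Q : Subgroup G) :=
    ⟨⟨⟨fun x y => Subtype.ext (hg.comm x x.2 y y.2)⟩⟩, hg.sq⟩
  -- `Q` normalizes `RR t`
  have hQN : ∀ t ∈ (Q : Subgroup G), (Q : Subgroup G) ≤ normalizer ((RR t : Subgroup G) : Set G) := by
    intro t ht x hx
    rw [mem_normalizer_iff]
    intro y
    constructor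
    · intro hy
      exact RR_normal (c.le_cent ht hx) hy
    · intro hy
      have := RR_normal (c.le_cent ht (inv_mem hx)) hy
      have e : x⁻¹ * (x * y * x⁻¹) * x⁻¹⁻¹ = y := by group
      rwa [e] at this
  -- pairwise commuting
  have hpair : ∀ t ∈ (Q : Subgroup G), t ≠ 1 → ∀ t' ∈ (Q : Subgroup G), t' ≠ 1 → ∀ x ∈ RR t, ∀ y ∈ RR t', x * y = y * x := by
    intro t ht ht1 t' ht' ht1'
    have h1 : RR t ≤ centralizer ((RR t' : Subgroup G) : Set G) := by
      apply H27.GenSub.le_of_hyperplanes 2 (Q : Subgroup G) (RR t) _ hQe (hQN t ht) (RR_odd t)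
      intro B hB hBi
      rw [Subgroup.le_centralizer_iff]
      apply H27.GenSub.le_of_hyperplanes 2 (Q : Subgroup G) (RR t') _ hQe (hQN t' ht') (RR_odd t')
      intro B' hB' hBi'
      -- intersection of `B`, `B'`
      have h2 : (B ⊓ B' : Subgroup G).relIndex (Q : Subgroup G) ≤ 2 * 2 :=
        (Subgroup.relIndex_inf_le).trans (Nat.mul_le_mul hBi hBi')
      have h3 : (B ⊓ B' : Subgroup G) ≠ ⊥ := by
        intro hb
        rw [hb, Subgroup.relIndex_bot_left, hg.card] at h2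
        have : 2 ^ 3 ≤ 2 ^ a := Nat.pow_le_pow_right (by norm_num) ha3
        omega
      obtain ⟨⟨s, hs⟩, hs1⟩ := Subgroup.ne_bot_iff_exists_ne_one.mp h3
      have hs1' : s ≠ 1 := fun h0 => hs1 (Subtype.ext h0)
      have hsQ : s ∈ (Q : Subgroup G) := hB hs.1
      intro y hy
      rw [mem_centralizer_iff]
      intro x hx
      have hxs : x ∈ RR s := by
        rw [c.mem_RR hsQ hs1']
        refine ⟨?_, ((c.mem_RR ht ht1).mp hx.1).2⟩
        exact (mem_centralizer_iff.mp hx.2 s hs.1).symm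
      have hys : y ∈ RR s := by
        rw [c.mem_RR hsQ hs1']
        refine ⟨?_, ((c.mem_RR ht' ht1').mp hy.1).2⟩
        exact (mem_centralizer_iff.mp hy.2 s hs.2).symm
      exact c.comm _ (c.RR_isPGroup hsQ hs1') x hxs y hys
    intro x hx y hy
    exact (mem_centralizer_iff.mp (h1 hx) y hy).symm
  -- the subgroup generated
  set S : Set G := {x | ∃ t ∈ (Q : Subgroup G), t ≠ 1 ∧ x ∈ RR t} with hS
  set W : Subgroup G := closure S with hW
  have hWcomm : ∀ x ∈ W, ∀ y ∈ W, x * y = y * x := by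
    have h1 : S ⊆ centralizer S := by
      rintro x ⟨t, ht, ht1, hx⟩
      rw [SetLike.mem_coe, mem_centralizer_iff]
      rintro y ⟨t', ht', ht1', hy⟩
      exact hpair t' ht' ht1' t ht ht1 y hy x hx
    have h2 : W ≤ centralizer S := (closure_le _).mpr h1
    have h3 : S ⊆ centralizer (W : Set G) := by
      intro x hx
      rw [SetLike.mem_coe, mem_centralizer_iff]
      intro y hy
      exact (mem_centralizer_iff.mp (h2 hy) x hx).symm
    have h4 : W ≤ centralizer (W : Set G) := (closure_le _).mpr h3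
    intro x hx y hy
    exact mem_centralizer_iff.mp (h4 hy) x hx
  have hWp : IsPGroup p W := by
    rw [IsPGroup.iff_orderOf]
    rintro ⟨x, hx⟩
    rw [Subgroup.orderOf_mk]
    induction hx using closure_induction with
    | mem x hx =>
      obtain ⟨t, ht, ht1, hx⟩ := hx
      exact ((c.mem_RR ht ht1).mp hx).2
    | one => exact ⟨0, by rw [orderOf_one, pow_zero]⟩
    | mul x y hx hy ihx ihy => exact Commute.pow_order c.hp (hWcomm x hx y hy) ihx ihy
    | inv x hx ih => rw [orderOf_inv]; exact ih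
  have hWN : ∀ n ∈ normalizer ((Q : Subgroup G) : Set G), n ∈ normalizer (W : Set G) := by
    have h1 : ∀ n ∈ normalizer ((Q : Subgroup G) : Set G), ∀ x ∈ W, n * x * n⁻¹ ∈ W := by
      intro n hn x hx
      induction hx using closure_induction with
      | mem x hx =>
        obtain ⟨t, ht, ht1, hx⟩ := hx
        apply Subgroup.subset_closure
        refine ⟨n * t * n⁻¹, (mem_normalizer_iff.mp hn t).mp ht, ?_, c.RR_conj ht ht1 n hx⟩
        intro h
        apply ht1
        have : t = n⁻¹ * (n * t * n⁻¹) * n := by group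
        rw [this, h]; group
      | one => rw [mul_one, mul_inv_cancel]; exact one_mem _
      | mul x y hx hy ihx ihy =>
        have e : n * (x * y) * n⁻¹ = (n * x * n⁻¹) * (n * y * n⁻¹) := by group
        rw [e]; exact mul_mem ihx ihy
      | inv x hx ih =>
        have e : n * x⁻¹ * n⁻¹ = (n * x * n⁻¹)⁻¹ := by group
        rw [e]; exact inv_mem ih
    intro n hn
    rw [mem_normalizer_iff]
    intro x
    constructor
    · exact h1 n hn x
    · intro hx
      have := h1 n⁻¹ (inv_mem hn) _ hx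
      have e : n⁻¹ * (n * x * n⁻¹) * n⁻¹⁻¹ = x := by group
      rwa [e] at this
  have h5 := c.cent_of_TQ hg hWp (fun x hx => hWN x (Subgroup.le_normalizer hx)) (hWN g hg.norm)
  intro x hx
  exact h5 (Subgroup.subset_closure ⟨t, ht, ht1, hx⟩)

end

end H70.MixG
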