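import Mathlib
import Cfsg.Agent.Lib.H70.MixD

/-!
The minimal counterexample to S4017: the case where the odd part of `C(t)` centralizes the Sylow subgroup.
-/

set_option autoImplicit false
set_option linter.all false
open Subgroup Cfsg
open scoped commutatorElement Pointwise

namespace H70.MixG

variable {G : Type*} [Group G] {p a : ℕ}

section
variable [Finite G] (c : Ctx p a G)

/-- an element with square one normalizing a Sylow 2-subgroup lies in it -/
theorem mem_of_sq_norm {Q : Sylow 2 G} {u : G} (hu : u ^ 2 = 1) (h : u ∈ normalizer ((Q : Subgroup G) : Set G)) :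
    u ∈ (Q : Subgroup G) := by
  haveI : Fact (Nat.Prime 2) := ⟨Nat.prime_two⟩
  have hz : IsPGroup 2 (zpowers u) := by
    have h0 : orderOf u ∣ 2 ^ 1 := by rw [pow_one]; exact orderOf_dvd_of_pow_eq_one hu
    obtain ⟨j, -, hj⟩ := (Nat.dvd_prime_pow Nat.prime_two).mp h0
    exact IsPGroup.of_card (n := j) (by rw [Nat.card_zpowers, hj])
  have hle : zpowers u ≤ (Q : Subgroup G) := by
    have h4 : zpowers u ≤ normalizer ((Q : Subgroup G) : Set G) := by rw [zpowers_le]; exact h
    exact (IsPGroup.inf_normalizer_sylow hz Q).symm ▸ le_inf le_rfl h4 |>.trans inf_le_right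
  exact hle (mem_zpowers u)

include c

/-- there is a noncommuting involution -/
theorem Ctx.exists_not_comm {u : G} (hu : u ^ 2 = 1) (hu1 : u ≠ 1) : ∃ v : G, v ^ 2 = 1 ∧ u * v ≠ v * u := by
  by_contra hcon
  push Not at hcon
  haveI := c.simple
  have hn : (normalClosure ({u} : Set G)).Normal := inferInstance
  rcases hn.eq_bot_or_eq_top with h | h
  · apply hu1
    have : u ∈ normalClosure ({u} : Set G) := subset_normalClosure rfl
    rw [h] at this
    exact Subgroup.mem_bot.mp this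
  · apply c.centralizer_ne_top hu1
    rw [eq_top_iff, ← h, normalClosure, closure_le]
    intro x hx
    rw [SetLike.mem_coe, mem_centralizer_singleton_iff]
    rw [Group.mem_conjugatesOfSet_iff] at hx
    obtain ⟨w, hw, hwx⟩ := hx
    rw [Set.mem_singleton_iff] at hw
    subst hw
    obtain ⟨y, hy⟩ := isConj_iff.mp hwx
    have : x ^ 2 = 1 := by rw [← hy, conj_pow, hu]; group
    exact (hcon x this).symm

/-- `K` of odd order normalized by an involution is a `p`-group -/
theorem Ctx.isPGroup_of_odd {K : Subgroup G} (hK : ¬ 2 ∣ Nat.card K) {u : G} (hu : u ^ 2 = 1) (hu1 : u ≠ 1)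
    (hN : u ∈ normalizer (K : Set G)) : IsPGroup p K := by
  haveI := c.simple
  have hle : zpowers u ≤ normalizer (K : Set G) := by rw [zpowers_le]; exact hN
  have h2 : (K ⊔ zpowers u : Subgroup G) ≠ ⊤ := by
    intro h
    have h3 : K.Normal := by
      rw [← normalizer_eq_top_iff, eq_top_iff, ← h]
      exact sup_le Subgroup.le_normalizer hle
    rcases h3.eq_bot_or_eq_top with h4 | h4
    · rw [h4, bot_sup_eq] at h
      apply c.centralizer_ne_top hu1
      rw [eq_top_iff, ← h, zpowers_le, mem_centralizer_singleton_iff]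
    · rw [h4, Subgroup.card_top] at hK
      exact hK c.two_dvd
  have ho : orderOf u = 2 := orderOf_eq_prime hu hu1
  have h3 : 2 ∣ Nat.card (K ⊔ zpowers u : Subgroup G) := by
    have h4 : Nat.card (zpowers u) ∣ Nat.card (K ⊔ zpowers u : Subgroup G) := Subgroup.card_dvd_of_le le_sup_right
    rwa [Nat.card_zpowers, ho] at h4
  apply isPGroup_p_of_not_dvd (p := p) _ hK
  intro r hr hd
  exact c.min _ h2 h3 r hr (hd.trans (Subgroup.card_dvd_of_le le_sup_left))

theorem Ctx.pow_of_inv {u y : G} (hu : u ^ 2 = 1) (hu1 : u ≠ 1) (huy : u * y * u⁻¹ = y⁻¹) (hy : Odd (orderOf y)) :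
    ∃ k, orderOf y = p ^ k := by
  haveI : Fact p.Prime := ⟨c.hp⟩
  have h1 : IsPGroup p (zpowers y) := by
    apply c.isPGroup_of_odd _ hu hu1
    · have huu : u⁻¹ = u := by
        rw [inv_eq_iff_mul_eq_one, ← pow_two]; exact hu
      have h0 : ∀ x ∈ zpowers y, u * x * u⁻¹ ∈ zpowers y := by
        rintro x ⟨i, rfl⟩
        have : u * y ^ i * u⁻¹ = (u * y * u⁻¹) ^ i := (conj_zpow).symm
        change u * y ^ i * u⁻¹ ∈ zpowers y
        rw [this, huy]
        exact zpow_mem (inv_mem (mem_zpowers y)) i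
      rw [mem_normalizer_iff]
      intro x
      constructor
      · exact h0 x
      · intro hx
        have := h0 _ hx
        rw [huu] at this
        have e : u * (u * x * u) * u = u ^ 2 * x * u ^ 2 := by rw [pow_two]; group
        rwa [e, hu, one_mul, mul_one] at this
    · rw [Nat.card_zpowers]
      rwa [← even_iff_two_dvd, Nat.not_even_iff_odd]
  obtain ⟨k, hk⟩ := IsPGroup.iff_orderOf.mp h1 ⟨y, mem_zpowers y⟩
  exact ⟨k, by rw [← hk, Subgroup.orderOf_mk]⟩

/-- the hypothesis `Z` -/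
def ZZ (G : Type*) [Group G] : Prop :=
  ∀ Q : Sylow 2 G, ∀ t ∈ (Q : Subgroup G), t ≠ 1 → RR t ≤ centralizer ((Q : Subgroup G) : Set G)

variable (hZ : ZZ G)
include hZ

theorem Ctx.cent_le_cent {Q : Sylow 2 G} {t : G} (ht : t ∈ (Q : Subgroup G)) (ht1 : t ≠ 1) :
    centralizer ({t} : Set G) ≤ centralizer ((Q : Subgroup G) : Set G) := by
  obtain ⟨g, hg⟩ := c.tq Q
  apply c.cent_le ht ht1 (hZ Q t ht ht1)
  intro x hx
  rw [mem_centralizer_iff]
  intro y hy
  exact hg.comm y hy x hx

theorem Ctx.inv_mem_of_comm {Q : Sylow 2 G} {t u : G} (ht : t ∈ (Q : Subgroup G)) (ht1 : t ≠ 1) (hu : u ^ 2 = 1)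
    (hut : u * t = t * u) : u ∈ (Q : Subgroup G) := by
  apply mem_of_sq_norm hu
  exact Subgroup.centralizer_le_normalizer _ (c.cent_le_cent hZ ht ht1 (mem_centralizer_singleton_iff.mpr hut))

/-- product of noncommuting involutions -/
theorem Ctx.odd_of_not_comm {u v : G} (hu : u ^ 2 = 1) (hv : v ^ 2 = 1) (huv : u * v ≠ v * u) :
    Odd (orderOf (u * v)) := by
  by_contra hcon
  rw [Nat.not_odd_iff_even] at hcon
  obtain ⟨m, hm⟩ := hcon
  have hpos : 0 < orderOf (u * v) := orderOf_pos _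
  have huu : u⁻¹ = u := by rw [inv_eq_iff_mul_eq_one, ← pow_two]; exact hu
  have hvv : v⁻¹ = v := by rw [inv_eq_iff_mul_eq_one, ← pow_two]; exact hv
  set y := u * v with hy
  set w := y ^ m with hw
  have hw1 : w ≠ 1 := by
    intro h
    have := orderOf_dvd_of_pow_eq_one h
    have := Nat.le_of_dvd (by omega) this
    omega
  have hw2 : w ^ 2 = 1 := by rw [hw, ← pow_mul, mul_comm, two_mul, ← hm, pow_orderOf_eq_one]
  have hww : w⁻¹ = w := by rw [inv_eq_iff_mul_eq_one, ← pow_two]; exact hw2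
  have huy : u * y * u⁻¹ = y⁻¹ := by
    rw [hy, mul_inv_rev, hvv, huu]
    calc u * (u * v) * u = u ^ 2 * v * u := by rw [pow_two]; group
      _ = v * u := by rw [hu, one_mul]
  have huw : u * w = w * u := by
    have : u * w * u⁻¹ = w := by
      rw [hw, ← conj_pow, huy, inv_pow, ← hw, hww]
    calc u * w = u * w * u⁻¹ * u := by group
      _ = w * u := by rw [this]
  have hvw : v * w = w * v := by
    have hv' : v = u⁻¹ * y := by rw [hy]; group
    have hyw : Commute y w := (Commute.refl y).pow_right m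
    calc v * w = u⁻¹ * (y * w) := by rw [hv']; group
      _ = u⁻¹ * w * y := by rw [hyw.eq]; group
      _ = (u * w) * y := by rw [huu]
      _ = w * (u * y) := by rw [huw]; group
      _ = w * v := by rw [hv', huu]
  obtain ⟨Q, hQ⟩ := exists_sylow_of_sq c hw2
  obtain ⟨g, hg⟩ := c.tq Q
  exact huv (hg.comm u (c.inv_mem_of_comm hZ hQ hw1 hu huw) v (c.inv_mem_of_comm hZ hQ hw1 hv hvw))

/-- `g` centralizes `RR t` -/
theorem Ctx.g_comm {Q : Sylow 2 G} {g : G} (hg : TQ p a Q g) {t : G} (ht : t ∈ (Q : Subgroup G)) (ht1 : t ≠ 1)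
    {x : G} (hx : x ∈ RR t) : g * x = x * g := by
  haveI : Fact p.Prime := ⟨c.hp⟩
  have hrr : ∀ n ∈ normalizer ((Q : Subgroup G) : Set G), ∀ x ∈ RR t, n * x * n⁻¹ ∈ RR t := by
    intro n hn x hx
    have h1 := c.RR_conj ht ht1 n hx
    have h2 : n * t * n⁻¹ ∈ (Q : Subgroup G) := (mem_normalizer_iff.mp hn t).mp ht
    have h3 : n * t * n⁻¹ ≠ 1 := by
      intro h
      apply ht1
      have : t = n⁻¹ * (n * t * n⁻¹) * n := by group
      rw [this, h]; group
    rw [c.mem_RR ht ht1]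
    refine ⟨?_, ((c.mem_RR h2 h3).mp h1).2⟩
    exact (mem_centralizer_iff.mp (hZ Q _ h2 h3 h1) t ht).symm
  have hgN : g ∈ normalizer ((RR t : Subgroup G) : Set G) := by
    rw [mem_normalizer_iff]
    intro x
    constructor
    · exact hrr g hg.norm x
    · intro h
      have := hrr g⁻¹ (inv_mem hg.norm) _ h
      have e : g⁻¹ * (g * x * g⁻¹) * g⁻¹⁻¹ = x := by group
      rwa [e] at this
  obtain ⟨k, hk⟩ := hg.ord
  have h1 : IsPGroup p (zpowers g) := IsPGroup.of_card (n := k) (by rw [Nat.card_zpowers, hk])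
  have h2 : IsPGroup p (zpowers g ⊔ RR t : Subgroup G) := by
    apply IsPGroup.to_sup_of_normal_right' h1 (c.RR_isPGroup ht ht1)
    rw [zpowers_le]; exact hgN
  exact c.comm _ h2 g ((le_sup_left : zpowers g ≤ _) (mem_zpowers g)) x ((le_sup_right : RR t ≤ _) hx)

/-- normalizers of subgroups of `RR t` -/
theorem Ctx.norm_zpowers_le {Q : Sylow 2 G} {t : G} (ht : t ∈ (Q : Subgroup G)) (ht1 : t ≠ 1)
    {x : G} (hx : x ∈ RR t) (hx1 : x ≠ 1) : normalizer (zpowers x : Set G) ≤ normalizer ((Q : Subgroup G) : Set G) := by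
  haveI : Fact p.Prime := ⟨c.hp⟩
  obtain ⟨g, hg⟩ := c.tq Q
  have hcent : ∀ n : G, n * x = x * n → n ∈ normalizer (zpowers x : Set G) := by
    intro n hn
    apply Subgroup.centralizer_le_normalizer
    rw [mem_centralizer_iff]
    rintro y ⟨i, rfl⟩
    have : Commute n x := hn
    exact (this.zpow_right i).eq.symm
  apply c.norm_le hg
  · have h1 := (c.mem_RR ht ht1).mp hx
    obtain ⟨k, hk⟩ := h1.2
    exact IsPGroup.of_card (n := k) (by rw [Nat.card_zpowers, hk])
  · intro h
    exact hx1 (Subgroup.zpowers_eq_bot.mp h)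
  · intro y hy
    apply hcent
    exact mem_centralizer_iff.mp (hZ Q t ht ht1 hx) y hy
  · exact hcent g (c.g_comm hZ hg ht ht1 hx)

/-- `C(y)` has odd order for `y` an inverted `p`-element -/
theorem Ctx.cent_odd {u y : G} (hu : u ^ 2 = 1) (hu1 : u ≠ 1) (huy : u * y * u⁻¹ = y⁻¹) (hy1 : y ≠ 1)
    (hy : ∃ k, orderOf y = p ^ k) : ¬ 2 ∣ Nat.card (centralizer ({y} : Set G)) := by
  haveI : Fact (Nat.Prime 2) := ⟨Nat.prime_two⟩
  intro hd
  obtain ⟨⟨w, hwy⟩, hwo⟩ := exists_prime_orderOf_dvd_card' 2 hd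
  rw [Subgroup.orderOf_mk] at hwo
  have hw1 : w ≠ 1 := by rintro rfl; rw [orderOf_one] at hwo; exact absurd hwo (by norm_num)
  have hw2 : w ^ 2 = 1 := by rw [← hwo, pow_orderOf_eq_one]
  obtain ⟨Q, hQ⟩ := exists_sylow_of_sq c hw2
  have hyR : y ∈ RR w := by
    rw [c.mem_RR hQ hw1]
    exact ⟨(mem_centralizer_singleton_iff.mp hwy).symm, hy⟩
  have huN : u ∈ normalizer (zpowers y : Set G) := by
    have huu : u⁻¹ = u := by rw [inv_eq_iff_mul_eq_one, ← pow_two]; exact hu
    have h0 : ∀ x ∈ zpowers y, u * x * u⁻¹ ∈ zpowers y := by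
      rintro x ⟨i, rfl⟩
      have : u * y ^ i * u⁻¹ = (u * y * u⁻¹) ^ i := (conj_zpow).symm
      change u * y ^ i * u⁻¹ ∈ zpowers y
      rw [this, huy]
      exact zpow_mem (inv_mem (mem_zpowers y)) i
    rw [mem_normalizer_iff]
    intro x
    constructor
    · exact h0 x
    · intro hx
      have := h0 _ hx
      rw [huu] at this
      have e : u * (u * x * u) * u = u ^ 2 * x * u ^ 2 := by rw [pow_two]; group
      rwa [e, hu, one_mul, mul_one] at this
  have huQ : u ∈ (Q : Subgroup G) := mem_of_sq_norm hu (c.norm_zpowers_le hZ hQ hw1 hyR hy1 huN)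
  have h1 : u * y = y * u := mem_centralizer_iff.mp (hZ Q w hQ hw1 hyR) u huQ
  have h2 : y = y⁻¹ := by
    rw [← huy, h1]; group
  have h3 : orderOf y ∣ 2 := by
    apply orderOf_dvd_of_pow_eq_one
    rw [pow_two]
    nth_rewrite 1 [h2]
    rw [inv_mul_cancel]
  obtain ⟨k, hk⟩ := hy
  apply hy1
  rw [← orderOf_eq_one_iff]
  have h4 : (orderOf y).Coprime 2 := by
    rw [hk]
    exact Nat.Coprime.pow_left k ((Nat.coprime_primes c.hp Nat.prime_two).mpr c.p_ne_two)
  exact Nat.eq_one_of_dvd_coprimes h4 dvd_rfl h3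

/-- `u` inverts `C(y)` and `C(y)` is a Sylow `p`-subgroup -/
theorem Ctx.inverts_cent {u v : G} (hu : u ^ 2 = 1) (hv : v ^ 2 = 1) (huv : u * v ≠ v * u) :
    (∀ x ∈ centralizer ({u * v} : Set G), u * x * u⁻¹ = x⁻¹) ∧
    ∃ P : Sylow p G, (P : Subgroup G) = centralizer ({u * v} : Set G) := by
  haveI : Fact p.Prime := ⟨c.hp⟩
  have huu : u⁻¹ = u := by rw [inv_eq_iff_mul_eq_one, ← pow_two]; exact hu
  have hvv : v⁻¹ = v := by rw [inv_eq_iff_mul_eq_one, ← pow_two]; exact hv
  have hu1 : u ≠ 1 := by rintro rfl; exact huv (by rw [one_mul, mul_one])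
  set y := u * v with hy
  have huy : u * y * u⁻¹ = y⁻¹ := by
    rw [hy, mul_inv_rev, hvv, huu]
    calc u * (u * v) * u = u ^ 2 * v * u := by rw [pow_two]; group
      _ = v * u := by rw [hu, one_mul]
  have hy1 : y ≠ 1 := by
    intro h
    apply huv
    have : v = u := by
      calc v = u⁻¹ * y := by rw [hy]; group
        _ = u := by rw [h, mul_one, huu]
    rw [hy, this]
  have hyo := c.odd_of_not_comm hZ hu hv huv
  have hyp := c.pow_of_inv hu hu1 huy hyo
  have hodd := c.cent_odd hZ hu hu1 huy hy1 hyp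
  have huN : ∀ x ∈ centralizer ({y} : Set G), u * x * u⁻¹ ∈ centralizer ({y} : Set G) := by
    intro x hx
    rw [mem_centralizer_singleton_iff] at hx ⊢
    have hx' : x * y⁻¹ = y⁻¹ * x := by
      have : Commute x y := hx
      exact this.inv_right.eq
    have h1 : y = u * y⁻¹ * u⁻¹ := by rw [← huy, huu]; 
                                      calc y = u ^ 2 * y * u ^ 2 := by rw [hu, one_mul, mul_one]
                                        _ = _ := by rw [pow_two]; group
    calc u * x * u⁻¹ * y = u * x * u⁻¹ * (u * y⁻¹ * u⁻¹) := by rw [← h1]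
      _ = u * (x * y⁻¹) * u⁻¹ := by group
      _ = u * (y⁻¹ * x) * u⁻¹ := by rw [hx']
      _ = (u * y⁻¹ * u⁻¹) * (u * x * u⁻¹) := by group
      _ = y * (u * x * u⁻¹) := by rw [← h1]
  have hfree : ∀ x ∈ centralizer ({y} : Set G), u * x * u⁻¹ = x → x = 1 := by
    intro x hx hxu
    by_contra hx1
    have hux : u * x = x * u := by
      calc u * x = u * x * u⁻¹ * u := by group
        _ = x * u := by rw [hxu]
    have hyx := mem_centralizer_singleton_iff.mp hx
    have hvx : v * x = x * v := by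
      have hv' : v = u * y := by rw [hy, ← mul_assoc, ← pow_two, hu, one_mul]
      calc v * x = u * (y * x) := by rw [hv']; group
        _ = u * x * y := by rw [← hyx]; group
        _ = x * (u * y) := by rw [hux]; group
        _ = x * v := by rw [← hv']
    have hxo : Odd (orderOf x) := by
      rw [← Nat.not_even_iff_odd, even_iff_two_dvd]
      intro h
      apply hodd
      have h1 : orderOf (⟨x, hx⟩ : centralizer ({y} : Set G)) ∣ Nat.card _ := orderOf_dvd_natCard _
      rw [Subgroup.orderOf_mk] at h1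
      exact h.trans h1
    obtain ⟨Q, hQ⟩ := exists_sylow_of_sq c hu
    obtain ⟨g, hg⟩ := c.tq Q
    have hxR : x ∈ RR u := c.mem_RR_of_odd hQ hu1 hux.symm hxo
    have hvN : v ∈ normalizer (zpowers x : Set G) := by
      apply Subgroup.centralizer_le_normalizer
      rw [mem_centralizer_iff]
      rintro z ⟨i, rfl⟩
      have : Commute v x := hvx
      exact (this.zpow_right i).eq.symm
    have hvQ : v ∈ (Q : Subgroup G) := mem_of_sq_norm hv (c.norm_zpowers_le hZ hQ hu1 hxR hx1 hvN)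
    exact huv (hg.comm u hQ v hvQ)
  have hinv := H81.InvertSylow.inverts_of_fixedPointFree _ (by rw [← pow_two]; exact hu) huN hfree
  refine ⟨hinv, ?_⟩
  have hpg : IsPGroup p (centralizer ({y} : Set G)) := by
    apply c.isPGroup_of_odd hodd hu hu1
    rw [mem_normalizer_iff]
    intro x
    constructor
    · exact huN x
    · intro hx
      have := huN _ hx
      rw [huu] at this
      have e : u * (u * x * u) * u = u ^ 2 * x * u ^ 2 := by rw [pow_two]; group
      rwa [e, hu, one_mul, mul_one] at this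
  obtain ⟨P, hP⟩ := hpg.exists_le_sylow
  refine ⟨P, le_antisymm ?_ hP⟩
  intro x hx
  rw [mem_centralizer_singleton_iff]
  apply c.comm _ P.2 x hx y
  apply hP
  rw [mem_centralizer_singleton_iff]

/-- (A2): `RR t` is trivial -/
theorem Ctx.RR_eq_bot {Q : Sylow 2 G} {t : G} (ht : t ∈ (Q : Subgroup G)) (ht1 : t ≠ 1) {z : G} (hz : z ∈ RR t) :
    z = 1 := by
  haveI : Fact p.Prime := ⟨c.hp⟩
  by_contra hz1
  obtain ⟨g, hg⟩ := c.tq Q
  obtain ⟨v, hv, htv⟩ := c.exists_not_comm (hg.sq t ht) ht1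
  obtain ⟨hinv, P, hP⟩ := c.inverts_cent hZ (hg.sq t ht) hv htv
  have hzp := (c.mem_RR ht ht1).mp hz
  have hzg : IsPGroup p (zpowers z) := by
    obtain ⟨k, hk⟩ := hzp.2
    exact IsPGroup.of_card (n := k) (by rw [Nat.card_zpowers, hk])
  obtain ⟨P', hP'⟩ := hzg.exists_le_sylow
  obtain ⟨h, hh⟩ := MulAction.exists_smul_eq G P' P
  have hzP : h * z * h⁻¹ ∈ (P : Subgroup G) := by
    rw [← hh, Sylow.coe_subgroup_smul, Subgroup.mem_pointwise_smul_iff_inv_smul_mem]
    have e : (MulAut.conj h)⁻¹ • (h * z * h⁻¹) = z := by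
      rw [← map_inv, MulAut.smul_def, MulAut.conj_apply]; group
    rw [e]; exact hP' (mem_zpowers z)
  rw [hP] at hzP
  have hi := hinv _ hzP
  set z' := h * z * h⁻¹ with hz'
  have hz'1 : z' ≠ 1 := by
    intro h0
    apply hz1
    have : z = h⁻¹ * z' * h := by rw [hz']; group
    rw [this, h0]; group
  have ht'Q : h * t * h⁻¹ ∈ ((h • Q : Sylow 2 G) : Subgroup G) := by
    rw [Sylow.coe_subgroup_smul, Subgroup.mem_pointwise_smul_iff_inv_smul_mem]
    have e : (MulAut.conj h)⁻¹ • (h * t * h⁻¹) = t := by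
      rw [← map_inv, MulAut.smul_def, MulAut.conj_apply]; group
    rw [e]; exact ht
  have ht'1 : h * t * h⁻¹ ≠ 1 := by
    intro h0
    apply ht1
    have : t = h⁻¹ * (h * t * h⁻¹) * h := by group
    rw [this, h0]; group
  have hzR := c.RR_conj ht ht1 h hz
  have hodd := c.cent_odd hZ (hg.sq t ht) ht1 hi hz'1 (by
    obtain ⟨k, hk⟩ := hzp.2
    exact ⟨k, by rw [← hk]; exact (MulAut.conj h).orderOf_eq z⟩)
  apply hodd
  have h5 : h * t * h⁻¹ ∈ centralizer ({z'} : Set G) := by
    rw [mem_centralizer_singleton_iff]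
    exact ((c.mem_RR ht'Q ht'1).mp hzR).1.symm
  have h6 : orderOf (⟨h * t * h⁻¹, h5⟩ : centralizer ({z'} : Set G)) ∣ Nat.card _ := orderOf_dvd_natCard _
  rw [Subgroup.orderOf_mk] at h6
  have h7 : orderOf (h * t * h⁻¹) = 2 := by
    apply orderOf_eq_prime _ ht'1
    rw [conj_pow, hg.sq t ht]; group
  rwa [h7] at h6

/-- `C(t) = Q` -/
theorem Ctx.cent_eq {Q : Sylow 2 G} {t : G} (ht : t ∈ (Q : Subgroup G)) (ht1 : t ≠ 1) :
    centralizer ({t} : Set G) ≤ (Q : Subgroup G) := by
  apply c.cent_le ht ht1 _ le_rfl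
  intro x hx
  rw [c.RR_eq_bot hZ ht ht1 hx]
  exact one_mem _

end

end H70.MixG
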