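import Mathlib
import Cfsg.Agent.Lib.H70.MixE
import Cfsg.Agent.Lib.H4.CharCount

/-!
The minimal counterexample to S4017: counting involutions.
-/

set_option autoImplicit false
set_option linter.all false
open Subgroup Cfsg
open scoped commutatorElement Pointwise

namespace H70.MixG

variable {G : Type*} [Group G] {p a : ℕ}

section
variable [Finite G] (c : Ctx p a G)

/-- elements inverted by `u` -/
def YY (u y : G) : Prop := y ≠ 1 ∧ u * y * u⁻¹ = y⁻¹ ∧ Odd (orderOf y)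

theorem eq_one_of_sq_odd {x : G} (h : x ^ 2 = 1) (ho : Odd (orderOf x)) : x = 1 := by
  rw [← orderOf_eq_one_iff]
  have h3 : orderOf x ∣ 2 := orderOf_dvd_of_pow_eq_one h
  exact Nat.eq_one_of_dvd_coprimes (Nat.coprime_two_right.mpr ho) dvd_rfl h3

theorem YY.data {u y : G} (hu : u ^ 2 = 1) (h : YY u y) :
    (u * y) ^ 2 = 1 ∧ u * (u * y) = y ∧ u * (u * y) ≠ u * y * u := by
  obtain ⟨h1, h2, h3⟩ := h
  have huu : u⁻¹ = u := by rw [inv_eq_iff_mul_eq_one, ← pow_two]; exact hu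
  have e1 : u * (u * y) = y := by rw [← mul_assoc, ← pow_two, hu, one_mul]
  refine ⟨?_, e1, ?_⟩
  · rw [huu] at h2
    calc (u * y) ^ 2 = u * y * u * y := by rw [pow_two]; group
      _ = 1 := by rw [h2, inv_mul_cancel]
  · rw [e1]
    intro h
    rw [huu, ← h] at h2
    apply h1
    apply eq_one_of_sq_odd _ h3
    rw [pow_two]
    nth_rewrite 1 [h2]
    rw [inv_mul_cancel]

theorem exists_sqrt {d : G} (ho : Odd (orderOf d)) : ∃ i : ℕ, (d ^ i) ^ 2 = d := by
  obtain ⟨m, hm⟩ := ho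
  refine ⟨m + 1, ?_⟩
  rw [← pow_mul]
  have : (m + 1) * 2 = orderOf d + 1 := by omega
  rw [this, pow_add, pow_orderOf_eq_one, one_mul, pow_one]

include c

variable (hZ : ZZ G)
include hZ

theorem Ctx.YY_cent {u y : G} (hu : u ^ 2 = 1) (h : YY u y) :
    (∀ x ∈ centralizer ({y} : Set G), u * x * u⁻¹ = x⁻¹) ∧
    ∃ P : Sylow p G, (P : Subgroup G) = centralizer ({y} : Set G) := by
  obtain ⟨h1, h2, h3⟩ := h.data hu
  have := c.inverts_cent hZ hu h1 h3
  rw [h2] at this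
  exact this

/-- `C(x) ≤ P` -/
theorem Ctx.cent_le_P {u y : G} (hu : u ^ 2 = 1) (h : YY u y) {x : G} (hx : x ∈ centralizer ({y} : Set G)) (hx1 : x ≠ 1) :
    centralizer ({x} : Set G) ≤ centralizer ({y} : Set G) := by
  haveI : Fact p.Prime := ⟨c.hp⟩
  obtain ⟨hinv, P, hP⟩ := c.YY_cent hZ hu h
  have hxY : YY u x := by
    refine ⟨hx1, hinv x hx, ?_⟩
    rw [← hP] at hx
    obtain ⟨k, hk⟩ := IsPGroup.iff_orderOf.mp P.2 ⟨x, hx⟩
    rw [Subgroup.orderOf_mk] at hk
    rw [hk]; exact c.odd_p.pow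
  obtain ⟨hinv', -⟩ := c.YY_cent hZ hu hxY
  have hy : y ∈ centralizer ({x} : Set G) := by
    rw [mem_centralizer_singleton_iff] at hx ⊢
    exact hx.symm
  intro b hb
  rw [mem_centralizer_singleton_iff]
  have h1 := hinv' _ (mul_mem hb hy)
  have h2 := hinv' _ hb
  have h3 := hinv' _ hy
  have h4 : u * (b * y) * u⁻¹ = (u * b * u⁻¹) * (u * y * u⁻¹) := by group
  rw [h4, h2, h3, mul_inv_rev] at h1
  have h5 : (b⁻¹ * y⁻¹)⁻¹ = (y⁻¹ * b⁻¹)⁻¹ := by rw [h1]
  rw [mul_inv_rev, mul_inv_rev, inv_inv, inv_inv] at h5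
  exact h5.symm

theorem Ctx.surj {Q : Sylow 2 G} {u y y' : G} (hu : u ^ 2 = 1) (huQ : u ∈ (Q : Subgroup G)) (hu1 : u ≠ 1)
    (h : YY u y) (h' : YY u y') : ∃ q ∈ (Q : Subgroup G), q⁻¹ * y' * q ∈ centralizer ({y} : Set G) := by
  haveI : Fact p.Prime := ⟨c.hp⟩
  obtain ⟨hinv, P, hP⟩ := c.YY_cent hZ hu h
  obtain ⟨hinv', P', hP'⟩ := c.YY_cent hZ hu h'
  have huu : u⁻¹ = u := by rw [inv_eq_iff_mul_eq_one, ← pow_two]; exact hu
  obtain ⟨n, hn⟩ := MulAction.exists_smul_eq G P P'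
  have hmem : ∀ x, x ∈ (P' : Subgroup G) ↔ n⁻¹ * x * n ∈ (P : Subgroup G) := by
    intro x
    rw [← hn, Sylow.coe_subgroup_smul, Subgroup.mem_pointwise_smul_iff_inv_smul_mem]
    have e : (MulAut.conj n)⁻¹ • x = n⁻¹ * x * n := by
      rw [← map_inv, MulAut.smul_def, MulAut.conj_apply]; group
    rw [e]
  have hyP : y ∈ (P : Subgroup G) := by rw [hP, mem_centralizer_singleton_iff]
  set w := n⁻¹ * u * n with hw
  have hwinv : ∀ x ∈ (P : Subgroup G), w * x * w⁻¹ = x⁻¹ := by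
    intro x hx
    have h1 : n * x * n⁻¹ ∈ (P' : Subgroup G) := by
      rw [hmem]
      have e : n⁻¹ * (n * x * n⁻¹) * n = x := by group
      rw [e]; exact hx
    rw [hP'] at h1
    have h2 := hinv' _ h1
    calc w * x * w⁻¹ = n⁻¹ * (u * (n * x * n⁻¹) * u⁻¹) * n := by rw [hw]; group
      _ = n⁻¹ * (n * x * n⁻¹)⁻¹ * n := by rw [h2]
      _ = x⁻¹ := by group
  set d := u * w with hd
  have hdP : d ∈ (P : Subgroup G) := by
    rw [hP, mem_centralizer_singleton_iff]
    have h1 : d * y * d⁻¹ = y := by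
      calc d * y * d⁻¹ = u * (w * y * w⁻¹) * u⁻¹ := by rw [hd]; group
        _ = u * y⁻¹ * u⁻¹ := by rw [hwinv y hyP]
        _ = (u * y * u⁻¹)⁻¹ := by group
        _ = y := by rw [h.2.1, inv_inv]
    calc d * y = d * y * d⁻¹ * d := by group
      _ = y * d := by rw [h1]
  have hdo : Odd (orderOf d) := by
    obtain ⟨k, hk⟩ := IsPGroup.iff_orderOf.mp P.2 ⟨d, hdP⟩
    rw [Subgroup.orderOf_mk] at hk
    rw [hk]; exact c.odd_p.pow
  obtain ⟨i, hi⟩ := exists_sqrt hdo
  set x := d ^ i with hx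
  have hxP : x ∈ (P : Subgroup G) := pow_mem hdP i
  have hxi : u * x⁻¹ * u⁻¹ = x := by
    have := hinv x (by rw [← hP]; exact hxP)
    calc u * x⁻¹ * u⁻¹ = (u * x * u⁻¹)⁻¹ := by group
      _ = x := by rw [this, inv_inv]
  have hux : x⁻¹ * u * x = w := by
    have h1 : u * x⁻¹ = x * u := by
      calc u * x⁻¹ = u * x⁻¹ * u⁻¹ * u := by group
        _ = x * u := by rw [hxi]
    have h2 : x⁻¹ * u = u * x := by
      have h3 : u * (u * x⁻¹) * u = u * (x * u) * u := by rw [h1]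
      calc x⁻¹ * u = u ^ 2 * x⁻¹ * u := by rw [hu, one_mul]
        _ = u * (u * x⁻¹) * u := by rw [pow_two]; group
        _ = u * (x * u) * u := h3
        _ = u * x * u ^ 2 := by rw [pow_two]; group
        _ = u * x := by rw [hu, mul_one]
    calc x⁻¹ * u * x = u * (x ^ 2) := by rw [h2, pow_two]; group
      _ = u * d := by rw [hi]
      _ = u ^ 2 * w := by rw [hd, pow_two]; group
      _ = w := by rw [hu, one_mul]
  refine ⟨n * x⁻¹, ?_, ?_⟩
  · apply c.cent_eq hZ huQ hu1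
    rw [mem_centralizer_singleton_iff]
    have h1 : n * x⁻¹ * u * (n * x⁻¹)⁻¹ = u := by
      calc n * x⁻¹ * u * (n * x⁻¹)⁻¹ = n * (x⁻¹ * u * x) * n⁻¹ := by group
        _ = u := by rw [hux, hw]; group
    calc n * x⁻¹ * u = n * x⁻¹ * u * (n * x⁻¹)⁻¹ * (n * x⁻¹) := by group
      _ = _ := by rw [h1]
  · rw [← hP]
    have hy'P : y' ∈ (P' : Subgroup G) := by rw [hP', mem_centralizer_singleton_iff]
    have h1 := (hmem y').mp hy'P
    have e : (n * x⁻¹)⁻¹ * y' * (n * x⁻¹) = x * (n⁻¹ * y' * n) * x⁻¹ := by group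
    rw [e]
    exact mul_mem (mul_mem hxP h1) (inv_mem hxP)

/-- the double counting -/
theorem Ctx.count {Q : Sylow 2 G} {u y : G} (hu : u ^ 2 = 1) (huQ : u ∈ (Q : Subgroup G)) (hu1 : u ≠ 1)
    (h : YY u y) :
    ∃ d : ℕ, Nat.card (Q : Subgroup G) * (Nat.card (centralizer ({y} : Set G)) - 1) =
      Nat.card {x : G // YY u x} * d := by
  classical
  haveI : Fact p.Prime := ⟨c.hp⟩
  set P := centralizer ({y} : Set G) with hP
  obtain ⟨hinv, P0, hP0⟩ := c.YY_cent hZ hu h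
  rw [← hP] at hinv hP0
  have hPcomm : ∀ x ∈ P, ∀ z ∈ P, x * z = z * x := by
    rw [← hP0]; exact c.comm _ P0.2
  obtain ⟨g, hg⟩ := c.tq Q
  have hodd : ∀ x ∈ P, Odd (orderOf x) := by
    intro x hx
    rw [← hP0] at hx
    obtain ⟨k, hk⟩ := IsPGroup.iff_orderOf.mp P0.2 ⟨x, hx⟩
    rw [Subgroup.orderOf_mk] at hk
    rw [hk]; exact c.odd_p.pow
  have hcomp : ∀ q ∈ (Q : Subgroup G), ∀ x ∈ P, x ≠ 1 → YY u (q * x * q⁻¹) := by
    intro q hq x hx hx1
    have hqu : q * u = u * q := hg.comm q hq u huQ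
    refine ⟨?_, ?_, ?_⟩
    · intro h0
      apply hx1
      have : x = q⁻¹ * (q * x * q⁻¹) * q := by group
      rw [this, h0]; group
    · calc u * (q * x * q⁻¹) * u⁻¹ = (u * q) * x * (u * q)⁻¹ := by group
        _ = (q * u) * x * (q * u)⁻¹ := by rw [hqu]
        _ = q * (u * x * u⁻¹) * q⁻¹ := by group
        _ = q * x⁻¹ * q⁻¹ := by rw [hinv x hx]
        _ = _ := by group
    · have : orderOf (q * x * q⁻¹) = orderOf x := (MulAut.conj q).orderOf_eq x
      rw [this]; exact hodd x hx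
  let f : ↥(Q : Subgroup G) × {x : G // x ∈ P ∧ x ≠ 1} → {x : G // YY u x} :=
    fun z => ⟨z.1 * z.2 * (z.1 : G)⁻¹, hcomp z.1 z.1.2 z.2 z.2.2.1 z.2.2.2⟩
  have hfs : ∀ y', ∃ z, f z = y' := by
    rintro ⟨y', hy'⟩
    obtain ⟨q, hq, hqy⟩ := c.surj hZ hu huQ hu1 h hy'
    refine ⟨⟨⟨q, hq⟩, ⟨q⁻¹ * y' * q, hqy, ?_⟩⟩, ?_⟩
    · intro h0
      apply hy'.1
      have : y' = q * (q⁻¹ * y' * q) * q⁻¹ := by group
      rw [this, h0]; group
    · apply Subtype.ext
      change q * (q⁻¹ * y' * q) * q⁻¹ = y'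
      group
  choose s hs using hfs
  set D : Subgroup G := (Q : Subgroup G) ⊓ normalizer (P : Set G) with hD
  have hfib : ∀ y', Nonempty (D ≃ {z // f z = y'}) := by
    intro y'
    have hs' : ∃ z, f z = y' := ⟨s y', hs y'⟩
    obtain ⟨⟨⟨q0, hq0⟩, ⟨x0, hx0, hx01⟩⟩, hz⟩ := hs'
    have hz' : q0 * x0 * q0⁻¹ = y' := congrArg Subtype.val hz
    have hn : ∀ n ∈ D, n⁻¹ * x0 * n ∈ P := by
      intro n hn
      have := (mem_normalizer_iff.mp (inv_mem hn.2) x0).mp hx0
      rwa [inv_inv] at this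
    let F : D → {z // f z = y'} := fun n => ⟨⟨⟨q0 * n, mul_mem hq0 n.2.1⟩, ⟨(n : G)⁻¹ * x0 * n, hn n n.2, by
      intro h0
      apply hx01
      have : x0 = n * ((n : G)⁻¹ * x0 * n) * (n : G)⁻¹ := by group
      rw [this, h0]; group⟩⟩, by
        apply Subtype.ext
        change q0 * (n : G) * ((n : G)⁻¹ * x0 * n) * (q0 * (n : G))⁻¹ = y'
        rw [← hz']; group⟩
    refine ⟨Equiv.ofBijective F ⟨?_, ?_⟩⟩
    · intro n n' hnn
      have h1 : q0 * (n : G) = q0 * n' :=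
        congrArg (fun z : {z // f z = y'} => ((z.1.1 : (Q : Subgroup G)) : G)) hnn
      exact Subtype.ext (mul_left_cancel h1)
    · rintro ⟨⟨⟨q1, hq1⟩, ⟨x1, hx1, hx11⟩⟩, hz1⟩
      have hz1' : q1 * x1 * q1⁻¹ = y' := congrArg Subtype.val hz1
      set n := q0⁻¹ * q1 with hndef
      have hnx : n * x1 * n⁻¹ = x0 := by
        calc n * x1 * n⁻¹ = q0⁻¹ * (q1 * x1 * q1⁻¹) * q0 := by rw [hndef]; group
          _ = q0⁻¹ * (q0 * x0 * q0⁻¹) * q0 := by rw [hz1', hz']
          _ = x0 := by group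
      have hnD : n ∈ D := by
        refine Subgroup.mem_inf.mpr ⟨mul_mem (inv_mem hq0) hq1, ?_⟩
        rw [mem_normalizer_iff]
        intro x
        constructor
        · intro hx
          apply c.cent_le_P hZ hu h hx0 hx01
          rw [mem_centralizer_singleton_iff]
          calc n * x * n⁻¹ * x0 = n * x * n⁻¹ * (n * x1 * n⁻¹) := by rw [hnx]
            _ = n * (x * x1) * n⁻¹ := by group
            _ = n * (x1 * x) * n⁻¹ := by rw [hPcomm x hx x1 hx1]
            _ = (n * x1 * n⁻¹) * (n * x * n⁻¹) := by group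
            _ = x0 * (n * x * n⁻¹) := by rw [hnx]
        · intro hx
          apply c.cent_le_P hZ hu h hx1 hx11
          rw [mem_centralizer_singleton_iff]
          calc x * x1 = n⁻¹ * ((n * x * n⁻¹) * (n * x1 * n⁻¹)) * n := by group
            _ = n⁻¹ * ((n * x * n⁻¹) * x0) * n := by rw [hnx]
            _ = n⁻¹ * (x0 * (n * x * n⁻¹)) * n := by rw [hPcomm _ hx x0 hx0]
            _ = n⁻¹ * ((n * x1 * n⁻¹) * (n * x * n⁻¹)) * n := by rw [hnx]
            _ = x1 * x := by group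
      refine ⟨⟨n, hnD⟩, ?_⟩
      apply Subtype.ext
      apply Prod.ext
      · apply Subtype.ext
        change q0 * n = q1
        rw [hndef]; group
      · apply Subtype.ext
        change n⁻¹ * x0 * n = x1
        rw [← hnx]; group
  refine ⟨Nat.card D, ?_⟩
  have e1 : ↥(Q : Subgroup G) × {x : G // x ∈ P ∧ x ≠ 1} ≃ {x : G // YY u x} × D :=
    (Equiv.sigmaFiberEquiv f).symm.trans
      ((Equiv.sigmaCongrRight (fun y' => (Classical.choice (hfib y')).symm)).trans (Equiv.sigmaEquivProd _ _))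
  have e2 := Nat.card_congr e1
  rw [Nat.card_prod, Nat.card_prod] at e2
  rw [← e2]
  congr 1
  have h1 := Set.ncard_diff_singleton_of_mem (a := (1 : G)) (s := (P : Set G)) (one_mem P)
  have h2 : Nat.card {x : G // x ∈ P ∧ x ≠ 1} = ((P : Set G) \ {1}).ncard := by
    rw [← Nat.card_coe_set_eq]
    apply Nat.card_congr
    exact Equiv.subtypeEquivRight (fun x => by simp)
  rw [h2, h1]
  rfl

/-- final contradiction in the case `Z` -/
theorem Ctx.false_of_ZZ (hpG : p ∣ Nat.card G) : False := by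
  classical
  haveI : Fact p.Prime := ⟨c.hp⟩
  haveI : Fact (Nat.Prime 2) := ⟨Nat.prime_two⟩
  obtain ⟨Q⟩ : Nonempty (Sylow 2 G) := inferInstance
  obtain ⟨g, hg⟩ := c.tq Q
  obtain ⟨u, huQ, hu1, -⟩ := hg.ne_one c.ha
  have hu := hg.sq u huQ
  obtain ⟨v, hv, huv⟩ := c.exists_not_comm hu hu1
  have huu : u⁻¹ = u := by rw [inv_eq_iff_mul_eq_one, ← pow_two]; exact hu
  have hvv : v⁻¹ = v := by rw [inv_eq_iff_mul_eq_one, ← pow_two]; exact hv
  have hmk : ∀ v : G, v ^ 2 = 1 → u * v ≠ v * u → YY u (u * v) := by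
    intro v hv huv
    have hvv : v⁻¹ = v := by rw [inv_eq_iff_mul_eq_one, ← pow_two]; exact hv
    refine ⟨?_, ?_, c.odd_of_not_comm hZ hu hv huv⟩
    · intro h0
      apply huv
      have : v = u := by
        calc v = u⁻¹ * (u * v) := by group
          _ = u := by rw [h0, mul_one, huu]
      rw [this]
    · rw [mul_inv_rev, hvv, huu]
      calc u * (u * v) * u = u ^ 2 * v * u := by rw [pow_two]; group
        _ = v * u := by rw [hu, one_mul]
  have hy := hmk v hv huv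
  obtain ⟨d, hd⟩ := c.count hZ hu huQ hu1 hy
  obtain ⟨-, P, hP⟩ := c.YY_cent hZ hu hy
  rw [← hP] at hd
  -- the involutions
  set I : Set G := {w | w ^ 2 = 1 ∧ w ≠ 1} with hI
  have hI1 : I = (ConjClasses.mk u).carrier := by
    ext w
    rw [ConjClasses.mem_carrier_iff_mk_eq, ConjClasses.mk_eq_mk_iff_isConj]
    constructor
    · rintro ⟨hw2, hw1⟩
      obtain ⟨Q', hQ'⟩ := exists_sylow_of_sq c hw2
      obtain ⟨n, hn⟩ := MulAction.exists_smul_eq G Q' Q
      have h1 : n * w * n⁻¹ ∈ (Q : Subgroup G) := by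
        rw [← hn, Sylow.coe_subgroup_smul, Subgroup.mem_pointwise_smul_iff_inv_smul_mem]
        have e : (MulAut.conj n)⁻¹ • (n * w * n⁻¹) = w := by
          rw [← map_inv, MulAut.smul_def, MulAut.conj_apply]; group
        rw [e]; exact hQ'
      have h2 : n * w * n⁻¹ ≠ 1 := by
        intro h0
        apply hw1
        have : w = n⁻¹ * (n * w * n⁻¹) * n := by group
        rw [this, h0]; group
      obtain ⟨i, hi⟩ := hg.trans _ h1 u huQ h2 hu1
      rw [isConj_iff]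
      refine ⟨g ^ i * n, ?_⟩
      rw [← hi]; group
    · intro h
      obtain ⟨n, hn⟩ := isConj_iff.mp h.symm
      constructor
      · rw [← hn, conj_pow, hu]; group
      · intro h0
        apply hu1
        have : u = n⁻¹ * (n * u * n⁻¹) * n := by group
        rw [this, hn, h0]; group
  have hI2 : p ∣ I.ncard := by
    rw [hI1, ← H4.CharCount.index_centralizer_eq_ncard_carrier]
    have h1 := Subgroup.card_mul_index (centralizer ({u} : Set G))
    rw [← h1] at hpG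
    rcases c.hp.dvd_mul.mp hpG with h2 | h2
    · exfalso
      have h3 := h2.trans (Subgroup.card_dvd_of_le (c.cent_eq hZ huQ hu1))
      rw [hg.card] at h3
      exact c.p_ne_two ((Nat.prime_dvd_prime_iff_eq c.hp Nat.prime_two).mp (c.hp.dvd_of_dvd_pow h3))
    · exact h2
  have hI3 : I = (((Q : Subgroup G) : Set G) \ {1}) ∪ (fun y => u * y) '' {y | YY u y} := by
    ext w
    constructor
    · rintro ⟨hw2, hw1⟩
      by_cases hwQ : w ∈ (Q : Subgroup G)
      · left; exact ⟨hwQ, hw1⟩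
      · right
        refine ⟨u * w, ?_, ?_⟩
        · apply hmk w hw2
          intro h0
          exact hwQ (c.inv_mem_of_comm hZ huQ hu1 hw2 h0.symm)
        · change u * (u * w) = w
          rw [← mul_assoc, ← pow_two, hu, one_mul]
    · rintro (⟨h1, h2⟩ | ⟨y, hy, rfl⟩)
      · exact ⟨hg.sq w h1, h2⟩
      · have h3 := hy.data hu
        refine ⟨h3.1, ?_⟩
        intro h0
        change u * y = 1 at h0
        apply h3.2.2
        rw [h0, mul_one, one_mul]
  have hdisj : Disjoint ((((Q : Subgroup G) : Set G) \ {1})) ((fun y => u * y) '' {y | YY u y}) := by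
    rw [Set.disjoint_left]
    rintro w ⟨h1, h2⟩ ⟨y, hy, rfl⟩
    have h3 : y ∈ (Q : Subgroup G) := by
      have : u⁻¹ * (u * y) ∈ (Q : Subgroup G) := mul_mem (inv_mem huQ) h1
      rwa [inv_mul_cancel_left] at this
    exact hy.1 (eq_one_of_sq_odd (hg.sq y h3) hy.2.2)
  have hI4 : I.ncard = p + Nat.card {x : G // YY u x} := by
    rw [hI3, Set.ncard_union_eq hdisj (Set.toFinite _) (Set.toFinite _), Set.ncard_image_of_injective _ (mul_right_injective u)]
    have h1 := Set.ncard_diff_singleton_of_mem (a := (1 : G)) (s := ((Q : Subgroup G) : Set G)) (one_mem _)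
    have h2 : ((Q : Subgroup G) : Set G).ncard = 2 ^ a := hg.card
    rw [h1, h2, ← c.hpa]
    rfl
  rw [hI4] at hI2
  have h5 : p ∣ Nat.card {x : G // YY u x} := (Nat.dvd_add_right dvd_rfl).mp hI2
  have h6 : p ∣ Nat.card (Q : Subgroup G) * (Nat.card (P : Subgroup G) - 1) := by
    rw [hd]; exact h5.mul_right d
  have h7 : p ∣ Nat.card (P : Subgroup G) := P.dvd_card_of_dvd_card hpG
  rcases c.hp.dvd_mul.mp h6 with h8 | h8
  · rw [hg.card] at h8
    exact c.p_ne_two ((Nat.prime_dvd_prime_iff_eq c.hp Nat.prime_two).mp (c.hp.dvd_of_dvd_pow h8))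
  · have h9 : 1 ≤ Nat.card (P : Subgroup G) := Nat.card_pos
    have h10 := (Nat.dvd_sub_iff_right h9 h7).mp h8
    exact c.hp.one_lt.ne' (Nat.dvd_one.mp h10)

end

end H70.MixG
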