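import Mathlib
import Cfsg.Agent.Lib.H70.MixF
import Cfsg.Agent.S4018

/-!
The minimal counterexample to S4017: the case `|Q| = 4`.
-/

set_option autoImplicit false
set_option linter.all false
open Subgroup Cfsg
open scoped commutatorElement Pointwise

namespace H70.MixG

variable {G : Type*} [Group G] {p a : ℕ}

theorem mem_smul_iff {q : ℕ} (P : Sylow q G) (n x : G) : x ∈ ((n • P : Sylow q G) : Subgroup G) ↔ n⁻¹ * x * n ∈ (P : Subgroup G) := by
  rw [Sylow.coe_subgroup_smul, Subgroup.mem_pointwise_smul_iff_inv_smul_mem]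
  have e : (MulAut.conj n)⁻¹ • x = n⁻¹ * x * n := by
    rw [← map_inv, MulAut.smul_def, MulAut.conj_apply]; group
  rw [e]

theorem conj_ne_one {x : G} (n : G) (h : x ≠ 1) : n * x * n⁻¹ ≠ 1 := by
  intro h0
  apply h
  have : x = n⁻¹ * (n * x * n⁻¹) * n := by group
  rw [this, h0]; group

section
variable [Finite G] (c : Ctx p a G)
include c

theorem Ctx.Q_le_norm_RR {Q : Sylow 2 G} {t : G} (ht : t ∈ (Q : Subgroup G)) :
    (Q : Subgroup G) ≤ normalizer ((RR t : Subgroup G) : Set G) := by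
  intro x hx
  rw [mem_normalizer_iff]
  intro y
  constructor
  · intro hy
    exact RR_normal (c.le_cent ht hx) hy
  · intro hy
    have := RR_normal (c.le_cent ht (inv_mem hx)) hy
    have e : x⁻¹ * (x * y * x⁻¹) * x⁻¹⁻¹ = y := by group
    rwa [e] at this

variable (hZ : ¬ ZZ G)
include hZ

/-- (F1) -/
theorem Ctx.F1 {Q : Sylow 2 G} {w : G} (hw : w ∈ (Q : Subgroup G)) (hw1 : w ≠ 1) {x : G} (hx : x ∈ RR w)
    (hxQ : x ∈ centralizer ((Q : Subgroup G) : Set G)) : x = 1 := by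
  haveI : Fact p.Prime := ⟨c.hp⟩
  by_contra hx1
  obtain ⟨g, hg⟩ := c.tq Q
  set W : Subgroup G := RR w ⊓ centralizer ((Q : Subgroup G) : Set G) with hW
  have hWp : IsPGroup p W := (c.RR_isPGroup hw hw1).to_le inf_le_left
  have hW1 : W ≠ ⊥ := by
    intro h
    apply hx1
    have : x ∈ W := Subgroup.mem_inf.mpr ⟨hx, hxQ⟩
    rw [h] at this
    exact Subgroup.mem_bot.mp this
  have h0 : ∀ n ∈ normalizer ((Q : Subgroup G) : Set G), ∀ x ∈ W, n * x * n⁻¹ ∈ W := by
    intro n hn x hx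
    have h1 := c.RR_conj hw hw1 n hx.1
    have h2 : n * w * n⁻¹ ∈ (Q : Subgroup G) := (mem_normalizer_iff.mp hn w).mp hw
    have h3 : n * x * n⁻¹ ∈ centralizer ((Q : Subgroup G) : Set G) := by
      rw [mem_centralizer_iff]
      intro y hy
      have hy' : n⁻¹ * y * n ∈ (Q : Subgroup G) := by
        have := (mem_normalizer_iff.mp (inv_mem hn) y).mp hy
        rwa [inv_inv] at this
      have := mem_centralizer_iff.mp hx.2 _ hy'
      calc y * (n * x * n⁻¹) = n * (n⁻¹ * y * n * x) * n⁻¹ := by group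
        _ = n * (x * (n⁻¹ * y * n)) * n⁻¹ := by rw [this]
        _ = n * x * n⁻¹ * y := by group
    refine Subgroup.mem_inf.mpr ⟨?_, h3⟩
    rw [c.mem_RR hw hw1]
    refine ⟨(mem_centralizer_iff.mp h3 w hw).symm, ((c.mem_RR h2 (conj_ne_one n hw1)).mp h1).2⟩
  have hWN : ∀ n ∈ normalizer ((Q : Subgroup G) : Set G), n ∈ normalizer (W : Set G) := by
    intro n hn
    rw [mem_normalizer_iff]
    intro x
    constructor
    · exact h0 n hn x
    · intro hx
      have := h0 n⁻¹ (inv_mem hn) _ hx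
      have e : n⁻¹ * (n * x * n⁻¹) * n⁻¹⁻¹ = x := by group
      rwa [e] at this
  have h1 := c.norm_le hg hWp hW1 (fun x hx => hWN x (Subgroup.le_normalizer hx)) (hWN g hg.norm)
  have h2 : RR w ≤ normalizer (W : Set G) := by
    intro y hy
    apply Subgroup.centralizer_le_normalizer
    rw [mem_centralizer_iff]
    intro z hz
    exact c.comm _ (c.RR_isPGroup hw hw1) z hz.1 y hy
  have h3 := c.cent_of_norm (c.RR_isPGroup hw hw1) (c.Q_le_norm_RR hw) (h2.trans h1)
  apply hZ
  intro Q' t' ht' ht1' y hy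
  obtain ⟨n, hn⟩ := MulAction.exists_smul_eq G Q' Q
  have h4 : n * t' * n⁻¹ ∈ (Q : Subgroup G) := by
    rw [← hn, mem_smul_iff]
    have e : n⁻¹ * (n * t' * n⁻¹) * n = t' := by group
    rwa [e]
  obtain ⟨i, hi⟩ := hg.trans _ h4 w hw (conj_ne_one n ht1') hw1
  set m := g ^ i * n with hm
  have h5 : m * t' * m⁻¹ = w := by rw [← hi, hm]; group
  have h6 : m * y * m⁻¹ ∈ RR w := by
    have := c.RR_conj ht' ht1' m hy
    rwa [h5] at this
  have h7 := h3 h6
  rw [mem_centralizer_iff]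
  intro z hz
  have h8 : m * z * m⁻¹ ∈ (Q : Subgroup G) := by
    have h9 : n * z * n⁻¹ ∈ (Q : Subgroup G) := by
      rw [← hn, mem_smul_iff]
      have e : n⁻¹ * (n * z * n⁻¹) * n = z := by group
      rwa [e]
    have h10 : g ^ i ∈ normalizer ((Q : Subgroup G) : Set G) := zpow_mem hg.norm i
    have := (mem_normalizer_iff.mp h10 _).mp h9
    have e : m * z * m⁻¹ = g ^ i * (n * z * n⁻¹) * (g ^ i)⁻¹ := by rw [hm]; group
    rw [e]; exact this
  have h9 := mem_centralizer_iff.mp h7 _ h8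
  calc z * y = m⁻¹ * (m * z * m⁻¹ * (m * y * m⁻¹)) * m := by group
    _ = m⁻¹ * (m * y * m⁻¹ * (m * z * m⁻¹)) * m := by rw [h9]
    _ = y * z := by group

variable (ha2 : a = 2)
include ha2

omit hZ in
/-- (F2) -/
theorem Ctx.F2 {Q : Sylow 2 G} {s w x : G} (hs : s ∈ (Q : Subgroup G)) (hw : w ∈ (Q : Subgroup G)) (hs1 : s ≠ 1)
    (hw1 : w ≠ 1) (hsw : s ≠ w) (hxs : x * s = s * x) (hxw : x * w = w * x) :
    x ∈ centralizer ((Q : Subgroup G) : Set G) := by
  classical
  obtain ⟨g, hg⟩ := c.tq Q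
  set H : Subgroup G := (Q : Subgroup G) ⊓ centralizer ({x} : Set G) with hH
  have h1 : Nat.card H ∣ 4 := by
    have := Subgroup.card_dvd_of_le (inf_le_left : H ≤ (Q : Subgroup G))
    rw [hg.card, ha2] at this
    exact this
  have h2 : 3 ≤ Nat.card H := by
    have h3 : ({1, s, w} : Set G).ncard = 3 := by
      rw [Set.ncard_eq_three]
      exact ⟨1, s, w, hs1.symm, hw1.symm, hsw, rfl⟩
    have h4 : ({1, s, w} : Set G) ⊆ (H : Set G) := by
      intro z hz
      rcases hz with rfl | rfl | rfl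
      · exact one_mem H
      · exact Subgroup.mem_inf.mpr ⟨hs, mem_centralizer_singleton_iff.mpr hxs.symm⟩
      · exact Subgroup.mem_inf.mpr ⟨hw, mem_centralizer_singleton_iff.mpr hxw.symm⟩
    have h5 := Set.ncard_le_ncard h4 (Set.toFinite _)
    rw [h3] at h5
    exact h5
  have h3 : Nat.card H = 4 := by
    have : Nat.card H ≤ 4 := Nat.le_of_dvd (by norm_num) h1
    interval_cases hc : Nat.card H
    · omega
    · rfl
  have h4 : H = (Q : Subgroup G) := by
    apply Subgroup.eq_of_le_of_card_ge inf_le_left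
    rw [h3, hg.card, ha2]; norm_num
  rw [mem_centralizer_iff]
  intro z hz
  have h5 : z ∈ H := by rw [h4]; exact hz
  exact mem_centralizer_singleton_iff.mp h5.2

/-- (F1') -/
theorem Ctx.F1' {Q : Sylow 2 G} {s w x : G} (hs : s ∈ (Q : Subgroup G)) (hw : w ∈ (Q : Subgroup G)) (hs1 : s ≠ 1)
    (hw1 : w ≠ 1) (hsw : s ≠ w) (hxs : x * s = s * x) (hxw : x * w = w * x) (hx : ∃ k, orderOf x = p ^ k) : x = 1 :=
  c.F1 hZ hw hw1 ((c.mem_RR hw hw1).mpr ⟨hxw, hx⟩) (c.F2 ha2 hs hw hs1 hw1 hsw hxs hxw)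

omit hZ ha2 in
/-- (F6) -/
theorem Ctx.F6 {Q : Sylow 2 G} {w : G} (hw : w ∈ (Q : Subgroup G)) (hw1 : w ≠ 1) {P : Sylow p G}
    (hP : ∀ x ∈ (P : Subgroup G), x * w = w * x) : (P : Subgroup G) = RR w := by
  haveI : Fact p.Prime := ⟨c.hp⟩
  have h1 : (P : Subgroup G) ≤ RR w := by
    intro x hx
    rw [c.mem_RR hw hw1]
    refine ⟨hP x hx, ?_⟩
    obtain ⟨k, hk⟩ := IsPGroup.iff_orderOf.mp P.2 ⟨x, hx⟩
    exact ⟨k, by rw [← hk, Subgroup.orderOf_mk]⟩
  exact (P.is_maximal' (c.RR_isPGroup hw hw1) h1).symm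

/-- (F3) uniqueness of the Sylow `p`-subgroup containing an element commuting with an involution -/
theorem Ctx.F3 {s x : G} (hs : s ^ 2 = 1) (hs1 : s ≠ 1) (hx1 : x ≠ 1) (hxs : x * s = s * x)
    {P P' : Sylow p G} (hP : x ∈ (P : Subgroup G)) (hP' : x ∈ (P' : Subgroup G)) : P = P' := by
  haveI : Fact p.Prime := ⟨c.hp⟩
  haveI : Fact (Nat.Prime 2) := ⟨Nat.prime_two⟩
  have hxp : ∃ k, orderOf x = p ^ k := by
    obtain ⟨k, hk⟩ := IsPGroup.iff_orderOf.mp P.2 ⟨x, hP⟩
    exact ⟨k, by rw [← hk, Subgroup.orderOf_mk]⟩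
  set M := centralizer ({x} : Set G) with hM
  have hsM : s ∈ M := mem_centralizer_singleton_iff.mpr hxs.symm
  have hMe : 2 ∣ Nat.card M := by
    have h1 : orderOf (⟨s, hsM⟩ : M) ∣ Nat.card M := orderOf_dvd_natCard _
    rwa [Subgroup.orderOf_mk, orderOf_eq_prime hs hs1] at h1
  have hMπ := c.min M (c.centralizer_ne_top hx1) hMe
  have hPM : ∀ (P : Sylow p G), x ∈ (P : Subgroup G) → (P : Subgroup G) ≤ M := by
    intro P hP y hy
    rw [mem_centralizer_singleton_iff]
    exact c.comm _ P.2 y hy x hP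
  by_cases hT : pCore 2 M = ⊥
  · have hn : ∀ (P : Sylow p G) (hP : x ∈ (P : Subgroup G)), ((P.subtype (hPM P hP) : Sylow p M) : Subgroup M).Normal := by
      intro P hP
      apply sylow_normal_of_pCore_eq_bot c.p_ne_two hMπ _ _ hT
      intro y hy z hz
      apply Subtype.ext
      rw [Sylow.coe_subtype, mem_subgroupOf] at hy hz
      exact c.comm _ P.2 y hy z hz
    have h1 := Sylow.unique_of_normal _ (hn P hP)
    have h2 : P.subtype (hPM P hP) = P'.subtype (hPM P' hP') := by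
      exact (h1.uniq _).trans (h1.uniq _).symm
    apply Sylow.ext
    have h3 := congrArg (fun S : Sylow p M => (S : Subgroup M).map M.subtype) h2
    simp only [Sylow.coe_subtype] at h3
    rwa [Subgroup.map_subgroupOf_eq_of_le (hPM P hP), Subgroup.map_subgroupOf_eq_of_le (hPM P' hP')] at h3
  · obtain ⟨⟨w, hwT⟩, hw1⟩ := Subgroup.ne_bot_iff_exists_ne_one.mp hT
    have hw1' : (w : G) ≠ 1 := fun h0 => hw1 (Subtype.ext (Subtype.ext h0))
    have hTp : IsPGroup 2 ((pCore 2 M).map M.subtype) := (H1.Cores.isPGroup_pCore 2).map _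
    obtain ⟨Q, hQ⟩ := hTp.exists_le_sylow
    have hwQ : (w : G) ∈ (Q : Subgroup G) := hQ (mem_map_of_mem _ hwT)
    obtain ⟨g, hg⟩ := c.tq Q
    have huniq : ∀ w' ∈ pCore 2 M, w' ≠ 1 → w' = w := by
      intro w' hw' hw'1
      by_contra hne
      apply hx1
      have hw'1' : (w' : G) ≠ 1 := fun h0 => hw'1 (Subtype.ext h0)
      exact c.F1' hZ ha2 (hQ (mem_map_of_mem _ hw')) hwQ hw'1' hw1' (fun h0 => hne (Subtype.ext h0))
        (mem_centralizer_singleton_iff.mp w'.2).symm (mem_centralizer_singleton_iff.mp w.2).symm hxp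
    have hn : (pCore 2 M).Normal := inferInstance
    have hcen : ∀ m : M, (m : G) * w = w * m := by
      intro m
      have h1 := huniq _ (hn.conj_mem w hwT m) (by
        intro h0
        apply hw1'
        have : w = m⁻¹ * (m * w * m⁻¹) * m := by group
        rw [this, h0]
        simp)
      have h2 : (m : G) * w * (m : G)⁻¹ = w := congrArg Subtype.val h1
      calc (m : G) * w = (m : G) * w * (m : G)⁻¹ * m := by group
        _ = w * m := by rw [h2]
    have h1 := c.F6 hwQ hw1' (P := P) (fun y hy => hcen ⟨y, hPM P hP hy⟩)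
    have h2 := c.F6 hwQ hw1' (P := P') (fun y hy => hcen ⟨y, hPM P' hP' hy⟩)
    exact Sylow.ext (h1.trans h2.symm)

omit hZ ha2 in
theorem smul_eq_iff {P : Sylow p G} {n : G} : n • P = P ↔ n ∈ normalizer ((P : Subgroup G) : Set G) := by
  rw [Sylow.smul_eq_iff_mem_normalizer]
  exact Iff.rfl

/-- (F5) -/
theorem Ctx.F5 {Q : Sylow 2 G} {t : G} (ht : t ∈ (Q : Subgroup G)) (ht1 : t ≠ 1) (hR : RR t ≠ ⊥) :
    ∃ P : Sylow p G, (P : Subgroup G) = RR t ∧ (Q : Subgroup G) ≤ normalizer ((P : Subgroup G) : Set G) := by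
  haveI : Fact p.Prime := ⟨c.hp⟩
  haveI : Fact (Nat.Prime 2) := ⟨Nat.prime_two⟩
  obtain ⟨g, hg⟩ := c.tq Q
  have ht2 := hg.sq t ht
  obtain ⟨⟨r, hr⟩, hr1⟩ := Subgroup.ne_bot_iff_exists_ne_one.mp hR
  have hr1' : r ≠ 1 := fun h0 => hr1 (Subtype.ext h0)
  obtain ⟨P, hP⟩ := (c.RR_isPGroup ht ht1).exists_le_sylow
  have hrt := ((c.mem_RR ht ht1).mp hr).1
  -- `n` normalizing `RR t` normalizes `P`
  have hN : normalizer ((RR t : Subgroup G) : Set G) ≤ normalizer ((P : Subgroup G) : Set G) := by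
    intro n hn
    rw [← smul_eq_iff c]
    have h1 : n * r * n⁻¹ ∈ RR t := (mem_normalizer_iff.mp hn r).mp hr
    refine c.F3 hZ ha2 ht2 ht1 (conj_ne_one n hr1') ((c.mem_RR ht ht1).mp h1).1 ?_ (hP h1)
    rw [mem_smul_iff]
    have e : n⁻¹ * (n * r * n⁻¹) * n = r := by group
    rw [e]; exact hP hr
  have hQN := (c.Q_le_norm_RR ht).trans hN
  refine ⟨P, le_antisymm ?_ hP, hQN⟩
  have hQe : Cfsg.IsElementaryAbelian 2 (Q : Subgroup G) :=
    ⟨⟨⟨fun x y => Subtype.ext (hg.comm x x.2 y y.2)⟩⟩, hg.sq⟩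
  have hP2 : ¬ 2 ∣ Nat.card (P : Subgroup G) := by
    obtain ⟨n, hn⟩ := IsPGroup.iff_card.mp P.2
    rw [hn]
    intro h
    exact c.p_ne_two ((Nat.prime_dvd_prime_iff_eq Nat.prime_two c.hp).mp (Nat.prime_two.dvd_of_dvd_pow h)).symm
  apply H27.GenSub.le_of_centralizers 2 (Q : Subgroup G) (P : Subgroup G) _ hQe (by rw [hg.card, ha2]) hQN hP2
  intro s hs hs1 x hx
  have hxs : x * s = s * x := mem_centralizer_singleton_iff.mp hx.2
  have hxp : ∃ k, orderOf x = p ^ k := by
    obtain ⟨k, hk⟩ := IsPGroup.iff_orderOf.mp P.2 ⟨x, hx.1⟩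
    exact ⟨k, by rw [← hk, Subgroup.orderOf_mk]⟩
  by_cases hst : s = t
  · rw [hst] at hxs
    exact (c.mem_RR ht ht1).mpr ⟨hxs, hxp⟩
  · by_cases hx1 : x = 1
    · rw [hx1]; exact one_mem _
    exfalso
    have hs2 := hg.sq s hs
    have hxR : x ∈ RR s := (c.mem_RR hs hs1).mpr ⟨hxs, hxp⟩
    obtain ⟨P', hP'⟩ := (c.RR_isPGroup hs hs1).exists_le_sylow
    have hPP : P' = P := c.F3 hZ ha2 hs2 hs1 hx1 hxs (hP' hxR) hx.1
    rw [hPP] at hP'
    obtain ⟨i, hi⟩ := hg.trans t ht s hs ht1 hs1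
    set n := g ^ i with hn
    have hnR : n * r * n⁻¹ ∈ RR s := by
      have := c.RR_conj ht ht1 n hr
      rwa [hi] at this
    have h1 : n • P = P := by
      refine c.F3 hZ ha2 hs2 hs1 (conj_ne_one n hr1') ((c.mem_RR hs hs1).mp hnR).1 ?_ (hP' hnR)
      rw [mem_smul_iff]
      have e : n⁻¹ * (n * r * n⁻¹) * n = r := by group
      rw [e]; exact hP hr
    have h2 : n ∈ normalizer ((P : Subgroup G) : Set G) := (smul_eq_iff c).mp h1
    have h3 : n ∈ (P : Subgroup G) := by
      have hz : IsPGroup p (zpowers n) := by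
        obtain ⟨k, hk⟩ := hg.ord
        have h4 : IsPGroup p (zpowers g) := IsPGroup.of_card (n := k) (by rw [Nat.card_zpowers, hk])
        exact h4.to_le (by rw [zpowers_le]; exact ⟨i, rfl⟩)
      have h4 : zpowers n ≤ normalizer ((P : Subgroup G) : Set G) := by rw [zpowers_le]; exact h2
      have hle : zpowers n ≤ (P : Subgroup G) := 
        (IsPGroup.inf_normalizer_sylow hz P).symm ▸ le_inf le_rfl h4 |>.trans inf_le_right
      exact hle (mem_zpowers n)
    have hnQ : n ∈ normalizer ((Q : Subgroup G) : Set G) := zpow_mem hg.norm i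
    have h4 : t * n = n * t := by
      apply commute_of_normalize c.p_ne_two Q.2 P.2 ht h3
      · exact (mem_normalizer_iff.mp (hQN ht) n).mp h3
      · exact (mem_normalizer_iff.mp hnQ t⁻¹).mp (inv_mem ht)
    apply hst
    rw [← hi, ← h4]; group

omit hZ in
/-- orders of even proper subgroups -/
theorem Ctx.card_dvd {H : Subgroup G} (hH : H ≠ ⊤) (h2 : 2 ∣ Nat.card H) (P : Sylow p G) :
    Nat.card H ∣ 4 * Nat.card (P : Subgroup G) := by
  haveI : Fact p.Prime := ⟨c.hp⟩
  haveI : Fact (Nat.Prime 2) := ⟨Nat.prime_two⟩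
  have hπ := c.min H hH h2
  obtain ⟨Q⟩ : Nonempty (Sylow 2 G) := inferInstance
  obtain ⟨g, hg⟩ := c.tq Q
  have hQ : (2 : ℕ) ^ (Nat.card G).factorization 2 = 4 := by
    have h1 : Nat.card (Q : Subgroup G) = _ := Q.card_eq_multiplicity
    rw [← h1, hg.card, ha2]; norm_num
  have hP : Nat.card (P : Subgroup G) = p ^ (Nat.card G).factorization p := P.card_eq_multiplicity
  rw [← hQ, hP]
  have hH0 : Nat.card H ≠ 0 := Nat.card_pos.ne'
  rw [← Nat.factorization_le_iff_dvd hH0 (mul_ne_zero (pow_ne_zero _ two_ne_zero) (pow_ne_zero _ c.hp.ne_zero))]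
  have hle := (Nat.factorization_le_iff_dvd hH0 (Nat.card_pos (α := G)).ne').mpr (Subgroup.card_subgroup_dvd_card H)
  intro r
  rw [Nat.factorization_mul (pow_ne_zero _ two_ne_zero) (pow_ne_zero _ c.hp.ne_zero), c.hp.factorization_pow,
    Nat.prime_two.factorization_pow, Finsupp.add_apply, Finsupp.single_apply, Finsupp.single_apply]
  by_cases hr : r.Prime ∧ r ∣ Nat.card H
  · rcases hπ r hr.1 hr.2 with h | h
    · rw [if_pos h.symm, h]; exact (hle p).trans (Nat.le_add_left _ _)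
    · rw [if_pos h.symm, h]; exact (hle 2).trans (Nat.le_add_right _ _)
  · have h0 : (Nat.card H).factorization r = 0 := by
      by_cases hrp : r.Prime
      · exact Nat.factorization_eq_zero_of_not_dvd (fun h => hr ⟨hrp, h⟩)
      · exact Nat.factorization_eq_zero_of_not_prime _ hrp
    rw [h0]; exact Nat.zero_le _

theorem Ctx.false_of_two (hp3 : p = 3) : False := by
  haveI : Fact p.Prime := ⟨c.hp⟩
  haveI : Fact (Nat.Prime 2) := ⟨Nat.prime_two⟩
  -- a bad pair
  have hZ' := hZ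
  unfold ZZ at hZ'
  push Not at hZ'
  obtain ⟨Q, t, ht, ht1, hbad⟩ := hZ'
  have hR : RR t ≠ ⊥ := by
    intro h
    rw [h] at hbad
    exact hbad bot_le
  obtain ⟨g, hg⟩ := c.tq Q
  have ht2 := hg.sq t ht
  obtain ⟨P, hPR, hQN⟩ := c.F5 hZ ha2 ht ht1 hR
  obtain ⟨⟨r, hr⟩, hr1⟩ := Subgroup.ne_bot_iff_exists_ne_one.mp hR
  have hr1' : r ≠ 1 := fun h0 => hr1 (Subtype.ext h0)
  have hrP : r ∈ (P : Subgroup G) := by rw [hPR]; exact hr
  have hPt : ∀ x ∈ (P : Subgroup G), x * t = t * x := by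
    intro x hx
    rw [hPR] at hx
    exact ((c.mem_RR ht ht1).mp hx).1
  have hP1 : (P : Subgroup G) ≠ ⊥ := by rw [hPR]; exact hR
  have hPodd : ¬ 2 ∣ Nat.card (P : Subgroup G) := by
    obtain ⟨n, hn⟩ := IsPGroup.iff_card.mp P.2
    rw [hn]
    intro h
    exact c.p_ne_two ((Nat.prime_dvd_prime_iff_eq Nat.prime_two c.hp).mp (Nat.prime_two.dvd_of_dvd_pow h)).symm
  have hPpos : 0 < Nat.card (P : Subgroup G) := Nat.card_pos
  -- normalizer
  have hNtop : normalizer ((P : Subgroup G) : Set G) ≠ ⊤ := c.normalizer_ne_top hP1 (c.ne_top_of_isPGroup P.2)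
  have hN : Nat.card (normalizer ((P : Subgroup G) : Set G)) = 4 * Nat.card (P : Subgroup G) := by
    apply Nat.dvd_antisymm (c.card_dvd ha2 hNtop (c.even_of_le hQN) P)
    apply Nat.Coprime.mul_dvd_of_dvd_of_dvd
    · have : (4 : ℕ) = 2 ^ 2 := by norm_num
      rw [this]
      exact Nat.Coprime.pow_left 2 ((Nat.Prime.coprime_iff_not_dvd Nat.prime_two).mpr hPodd)
    · have := Subgroup.card_dvd_of_le hQN
      rw [hg.card, ha2] at this
      exact this
    · exact Subgroup.card_dvd_of_le Subgroup.le_normalizer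
  -- centralizer
  have hCtop : centralizer ((P : Subgroup G) : Set G) ≠ ⊤ := by
    intro h
    apply hNtop
    rw [eq_top_iff, ← h]
    exact Subgroup.centralizer_le_normalizer _
  have htC : t ∈ centralizer ((P : Subgroup G) : Set G) := by
    rw [mem_centralizer_iff]
    exact hPt
  have hC2 : 2 ∣ Nat.card (centralizer ((P : Subgroup G) : Set G)) := by
    have h1 : orderOf (⟨t, htC⟩ : centralizer ((P : Subgroup G) : Set G)) ∣ Nat.card _ := orderOf_dvd_natCard _
    rwa [Subgroup.orderOf_mk, orderOf_eq_prime ht2 ht1] at h1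
  have hPC : (P : Subgroup G) ≤ centralizer ((P : Subgroup G) : Set G) := by
    intro x hx
    rw [mem_centralizer_iff]
    intro y hy
    exact c.comm _ P.2 y hy x hx
  have hC4 : ¬ 4 ∣ Nat.card (centralizer ((P : Subgroup G) : Set G)) := by
    intro h4
    obtain ⟨T, hT⟩ := Sylow.exists_subgroup_card_pow_prime 2 (n := 2) (G := centralizer ((P : Subgroup G) : Set G))
      (by norm_num; exact h4)
    set T' := T.map (centralizer ((P : Subgroup G) : Set G)).subtype with hT'
    have hT'c : Nat.card T' = 2 ^ 2 := by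
      rw [hT', Subgroup.card_map_of_injective (centralizer ((P : Subgroup G) : Set G)).subtype_injective, hT]
    have hT'p : IsPGroup 2 T' := IsPGroup.of_card hT'c
    obtain ⟨Q', hQ'⟩ := hT'p.exists_le_sylow
    obtain ⟨g', hg'⟩ := c.tq Q'
    have hTQ : T' = (Q' : Subgroup G) := by
      apply Subgroup.eq_of_le_of_card_ge hQ'
      rw [hT'c, hg'.card, ha2]
    have hQC : (Q' : Subgroup G) ≤ centralizer ((P : Subgroup G) : Set G) := by
      rw [← hTQ]
      rintro _ ⟨x, _, rfl⟩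
      exact x.2
    obtain ⟨w, hw, hw1, -⟩ := hg'.ne_one c.ha
    apply hr1'
    have hrQ : r ∈ centralizer ((Q' : Subgroup G) : Set G) := by
      rw [mem_centralizer_iff]
      intro y hy
      exact (mem_centralizer_iff.mp (hQC hy) r hrP).symm
    apply c.F1 hZ hw hw1 _ hrQ
    rw [c.mem_RR hw hw1]
    exact ⟨(mem_centralizer_iff.mp hrQ w hw).symm, ((c.mem_RR ht ht1).mp hr).2⟩
  have hC : Nat.card (centralizer ((P : Subgroup G) : Set G)) = 2 * Nat.card (P : Subgroup G) := by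
    have h1 := c.card_dvd ha2 hCtop hC2 P
    have h2 : Nat.card (P : Subgroup G) ∣ Nat.card (centralizer ((P : Subgroup G) : Set G)) := Subgroup.card_dvd_of_le hPC
    obtain ⟨m, hm⟩ := h2
    rw [hm] at h1 hC2 hC4 ⊢
    have h3 : m ∣ 4 := by
      rw [mul_comm 4] at h1
      exact Nat.dvd_of_mul_dvd_mul_left hPpos h1
    have h4 : 2 ∣ m := by
      rcases Nat.prime_two.dvd_mul.mp hC2 with h5 | h5
      · exact absurd h5 hPodd
      · exact h5
    have h5 : m ≤ 4 := Nat.le_of_dvd (by norm_num) h3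
    have h6 : m ≠ 4 := by
      rintro rfl
      exact hC4 (Dvd.intro_left _ rfl)
    have h7 : m ≠ 0 := by
      rintro rfl
      exact absurd h3 (by norm_num)
    have h8 : m = 2 := by omega
    rw [h8, mul_comm]
  -- elements of `C(P)` determine `P`
  have hmain : ∀ P2 : Sylow p G, ∀ x, x ≠ 1 → x ∈ centralizer ((P : Subgroup G) : Set G) →
      x ∈ centralizer ((P2 : Subgroup G) : Set G) → P2 = P := by
    intro P2 x hx1 hxP hxP2
    obtain ⟨q, hq, hqd⟩ := Nat.exists_prime_and_dvd (n := orderOf x) (by rwa [Ne, orderOf_eq_one_iff])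
    obtain ⟨e, he⟩ := hqd
    have hpos : 0 < orderOf x := orderOf_pos x
    have hx0 : orderOf (x ^ e) = q := by
      rw [orderOf_pow_of_dvd _ (Dvd.intro_left _ he.symm), he]
      · apply Nat.mul_div_cancel
        apply Nat.pos_of_ne_zero
        rintro rfl
        rw [mul_zero] at he; omega
      · rintro rfl
        rw [mul_zero] at he; omega
    set x0 := x ^ e with hx0def
    have hx01 : x0 ≠ 1 := by
      intro h
      rw [h, orderOf_one] at hx0
      exact hq.one_lt.ne hx0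
    have h1 : x0 ∈ centralizer ((P : Subgroup G) : Set G) := pow_mem hxP e
    have h2 : x0 ∈ centralizer ((P2 : Subgroup G) : Set G) := pow_mem hxP2 e
    have hqdvd : q ∣ Nat.card (centralizer ((P : Subgroup G) : Set G)) := by
      have h3 : orderOf (⟨x0, h1⟩ : centralizer ((P : Subgroup G) : Set G)) ∣ Nat.card _ := orderOf_dvd_natCard _
      rwa [Subgroup.orderOf_mk, hx0] at h3
    rcases c.min _ hCtop hC2 q hq hqdvd with h3 | h3
    · have hz : IsPGroup p (zpowers x0) := IsPGroup.of_card (n := 1) (by rw [Nat.card_zpowers, hx0, h3, pow_one])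
      have h4 : ∀ P2 : Sylow p G, x0 ∈ centralizer ((P2 : Subgroup G) : Set G) → x0 ∈ (P2 : Subgroup G) := by
        intro P2 h2
        have h4 : zpowers x0 ≤ normalizer ((P2 : Subgroup G) : Set G) := by
          rw [zpowers_le]; exact Subgroup.centralizer_le_normalizer _ h2
        have hle : zpowers x0 ≤ (P2 : Subgroup G) := 
          (IsPGroup.inf_normalizer_sylow hz P2).symm ▸ le_inf le_rfl h4 |>.trans inf_le_right
        exact hle (mem_zpowers x0)
      exact c.F3 hZ ha2 ht2 ht1 hx01 (hPt x0 (h4 P h1)) (h4 P2 h2) (h4 P h1)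
    · have h4 : x0 ^ 2 = 1 := by rw [← h3, ← hx0, pow_orderOf_eq_one]
      obtain ⟨Q', hQ'⟩ := exists_sylow_of_sq c h4
      have h5 := c.F6 hQ' hx01 (P := P) (fun y hy => mem_centralizer_iff.mp h1 y hy)
      have h6 := c.F6 hQ' hx01 (P := P2) (fun y hy => mem_centralizer_iff.mp h2 y hy)
      exact Sylow.ext (h6.trans h5.symm)
  have hTI : Cfsg.IsTISubset (Subgroup.centralizer ((P : Subgroup G) : Set G) : Set G) := by
    intro y hy x hx hyx
    by_contra hx1
    apply hy
    have h1 : y⁻¹ • P = P := by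
      apply hmain _ x hx1 hx
      rw [mem_centralizer_iff]
      intro z hz
      rw [SetLike.mem_coe, mem_smul_iff, inv_inv] at hz
      have := mem_centralizer_iff.mp hyx _ hz
      calc z * x = y⁻¹ * (y * z * y⁻¹ * (y * x * y⁻¹)) * y := by group
        _ = y⁻¹ * (y * x * y⁻¹ * (y * z * y⁻¹)) * y := by rw [this]
        _ = x * z := by group
    have h2 : y⁻¹ ∈ normalizer ((P : Subgroup G) : Set G) := (smul_eq_iff c).mp h1
    have h3 : y ∈ normalizer ((P : Subgroup G) : Set G) := by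
      have := inv_mem h2
      rwa [inv_inv] at this
    have h4 : ∀ n ∈ normalizer ((P : Subgroup G) : Set G), ∀ x ∈ centralizer ((P : Subgroup G) : Set G),
        n * x * n⁻¹ ∈ centralizer ((P : Subgroup G) : Set G) := by
      intro n hn x hx
      rw [mem_centralizer_iff]
      intro z hz
      have hz' : n⁻¹ * z * n ∈ (P : Subgroup G) := by
        have := (mem_normalizer_iff.mp (inv_mem hn) z).mp hz
        rwa [inv_inv] at this
      have := mem_centralizer_iff.mp hx _ hz'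
      calc z * (n * x * n⁻¹) = n * (n⁻¹ * z * n * x) * n⁻¹ := by group
        _ = n * (x * (n⁻¹ * z * n)) * n⁻¹ := by rw [this]
        _ = n * x * n⁻¹ * z := by group
    rw [mem_normalizer_iff]
    intro x
    constructor
    · exact h4 y h3 x
    · intro hx
      have := h4 y⁻¹ h2 _ hx
      have e : y⁻¹ * (y * x * y⁻¹) * y⁻¹⁻¹ = x := by group
      rwa [e] at this
  subst hp3
  exact Cfsg.Agent.S4018.result P ⟨⟨fun x y => Subtype.ext (c.comm _ P.2 x x.2 y y.2)⟩⟩ hN hC hTI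
    (fun H hH h2 => c.card_dvd ha2 hH h2 P) c.simple

end

/-- the final contradiction -/
theorem Ctx.false [Finite G] (c : Ctx p a G) (hpG : p ∣ Nat.card G) : False := by
  by_cases hZ : ZZ G
  · exact c.false_of_ZZ hZ hpG
  · have ha := c.ha
    have ha2 : a = 2 := by
      by_contra h
      apply hZ
      intro Q t ht ht1
      exact c.Z_of_three_le (by omega) ht ht1
    apply c.false_of_two hZ ha2
    have := c.hpa
    rw [ha2] at this
    omega

end H70.MixG
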