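import Mathlib
import Cfsg.Agent.Lib.H70.MixH

/-!
S4017: the reduction to simple groups and the final theorem.
-/

set_option autoImplicit false
set_option linter.all false
open Subgroup Cfsg
open scoped commutatorElement Pointwise

namespace H70.MixG

universe u

/-- the first alternative -/
theorem Mix.caseA {G : Type u} [Group G] [Finite G] {p q : ℕ} (hp : p.Prime) (hq : q.Prime) (hpq : p ≠ q)
    (hpG : p ∣ Nat.card G) (hqG : q ∣ Nat.card G) (h : Mix p q G)
    (hl : q ^ (Nat.card G).factorization q - 1 < p) :
    ∀ r : ℕ, r.Prime → r ∣ Nat.card G → r = p ∨ r = q := by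
  haveI : Fact p.Prime := ⟨hp⟩
  haveI : Fact q.Prime := ⟨hq⟩
  by_cases hn : HasNormalPComplement q G
  · intro r hr hd
    exact h.of_npc hpG hqG hpq hn hr hd
  · exfalso
    obtain ⟨D, hD, g, hg, k, hgo, hgc⟩ := h.exists_act hpG hpq hn
    have h1 := (exists_orbit hg hgo hgc).1
    obtain ⟨m, hm⟩ := IsPGroup.iff_card.mp hD
    have h2 : q ^ m ∣ Nat.card G := by rw [← hm]; exact Subgroup.card_subgroup_dvd_card D
    have h3 : m ≤ (Nat.card G).factorization q := (hq.pow_dvd_iff_le_factorization Nat.card_pos.ne').mp h2
    have h4 : q ^ m ≤ q ^ (Nat.card G).factorization q := Nat.pow_le_pow_right hq.pos h3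
    rw [hm] at h1
    omega

theorem comm_of_sylow {G : Type u} [Group G] [Finite G] {p : ℕ} (hp : p.Prime)
    (hab : ∀ P : Sylow p G, IsMulCommutative P) (P : Subgroup G) (hP : IsPGroup p P) :
    ∀ x ∈ P, ∀ y ∈ P, x * y = y * x := by
  haveI : Fact p.Prime := ⟨hp⟩
  obtain ⟨S, hS⟩ := hP.exists_le_sylow
  intro x hx y hy
  exact congrArg Subtype.val ((hab S).is_comm.comm ⟨x, hS hx⟩ ⟨y, hS hy⟩)

theorem main {p : ℕ} (hp : p.Prime) (hp2 : p ≠ 2) : ∀ n : ℕ, ∀ (G : Type u) [Group G] [Finite G],
    Nat.card G ≤ n → p ∣ Nat.card G → 2 ∣ Nat.card G → Mix p 2 G →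
    (2 ^ (Nat.card G).factorization 2 - 1 < p ∨
      (p = 2 ^ (Nat.card G).factorization 2 - 1 ∧ ∀ P : Sylow p G, IsMulCommutative P)) →
    ∀ r : ℕ, r.Prime → r ∣ Nat.card G → r = p ∨ r = 2 := by
  intro n
  induction n with
  | zero =>
    intro G _ _ h
    have : 0 < Nat.card G := Nat.card_pos
    omega
  | succ n ih =>
  intro G _ _ hcard hpG hqG hmix hlarge
  haveI : Fact p.Prime := ⟨hp⟩
  haveI : Fact (Nat.Prime 2) := ⟨Nat.prime_two⟩
  rcases hlarge with hl | ⟨hl, hab⟩
  · exact hmix.caseA hp Nat.prime_two hp2 hpG hqG hl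
  by_cases hn : HasNormalPComplement 2 G
  · intro r hr hd
    exact hmix.of_npc hpG hqG hp2 hn hr hd
  by_contra hbad
  push Not at hbad
  obtain ⟨r, hr, hrG, hrp, hr2⟩ := hbad
  set a := (Nat.card G).factorization 2 with ha
  have hpos : 0 < 2 ^ a := by positivity
  have hpa : p + 1 = 2 ^ a := by omega
  have hp3 : 3 ≤ p := by
    have := hp.two_le
    omega
  have ha2 : 2 ≤ a := by
    by_contra h
    have : a = 0 ∨ a = 1 := by omega
    rcases this with h1 | h1
    · rw [h1] at hpa; norm_num at hpa; omega
    · rw [h1] at hpa; norm_num at hpa; omega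
  have hcomm := comm_of_sylow hp hab
  have hmin : ∀ H : Subgroup G, H ≠ ⊤ → 2 ∣ Nat.card H → ∀ r, r.Prime → r ∣ Nat.card H → r = p ∨ r = 2 := by
    intro H hH h2 r hr hd
    by_cases hH2 : IsPGroup 2 H
    · right
      obtain ⟨m, hm⟩ := IsPGroup.iff_card.mp hH2
      rw [hm] at hd
      exact (Nat.prime_dvd_prime_iff_eq hr Nat.prime_two).mp (hr.dvd_of_dvd_pow hd)
    · have hpH := hmix H hH hH2 h2
      have hlt : Nat.card H < Nat.card G := by
        apply lt_of_le_of_ne (Subgroup.card_le_card_group H)
        intro h
        exact hH (Subgroup.eq_top_of_card_eq H h)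
      have hfac : (Nat.card H).factorization 2 ≤ a :=
        ((Nat.factorization_le_iff_dvd Nat.card_pos.ne' Nat.card_pos.ne').mpr (Subgroup.card_subgroup_dvd_card H)) 2
      refine ih H (by omega) hpH h2 (hmix.subgroup H) ?_ r hr hd
      rcases lt_or_eq_of_le hfac with h3 | h3
      · left
        have h4 : (2 : ℕ) ^ (Nat.card H).factorization 2 < 2 ^ a := Nat.pow_lt_pow_right (by norm_num) h3
        have h5 : 0 < (2 : ℕ) ^ (Nat.card H).factorization 2 := by positivity
        omega
      · right
        rw [h3]
        refine ⟨hl, fun P => ⟨⟨fun x y => ?_⟩⟩⟩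
        apply Subtype.ext
        apply Subtype.ext
        have hPp : IsPGroup p ((P : Subgroup H).map H.subtype) := P.2.map _
        exact hcomm _ hPp x (mem_map_of_mem _ x.2) y (mem_map_of_mem _ y.2)
  obtain ⟨Q, g, hQg⟩ := exists_TQ hp hpa hmix hpG le_rfl hn
  have htq : ∀ Q : Sylow 2 G, ∃ g, TQ p a Q g := by
    intro Q'
    obtain ⟨x, hx⟩ := MulAction.exists_smul_eq G Q Q'
    exact ⟨_, hx ▸ hQg.conj x⟩
  -- simplicity
  have hQeven : 2 ∣ Nat.card (Q : Subgroup G) := by
    rw [hQg.card]; exact dvd_pow_self 2 (by omega)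
  have hno : ∀ N : Subgroup G, N.Normal → N ≠ ⊥ → N ≠ ⊤ → False := by
    intro N hN hN1 hNt
    by_cases h2N : 2 ∣ Nat.card N
    · -- even order
      have hπ := hmin N hNt h2N
      have hrN : ¬ r ∣ Nat.card N := by
        intro hd
        rcases hπ r hr hd with h | h
        · exact hrp h
        · exact hr2 h
      obtain ⟨S⟩ : Nonempty (Sylow 2 N) := inferInstance
      have hfr := Sylow.normalizer_sup_eq_top S
      set D := (S : Subgroup N).map N.subtype with hD
      have hDp : IsPGroup 2 D := S.2.map _
      have hD1 : D ≠ ⊥ := by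
        intro h
        rw [hD, Subgroup.map_eq_bot_iff_of_injective _ N.subtype_injective] at h
        exact S.ne_bot_of_dvd_card h2N h
      have h1 : Nat.card (normalizer (D : Set G) ⊔ N : Subgroup G) ∣ Nat.card (normalizer (D : Set G)) * Nat.card N :=
        H1.Cores.card_sup_dvd_mul _ _
      have hfr' : (normalizer (D : Set G) ⊔ N : Subgroup G) = ⊤ := hfr
      rw [hfr', Subgroup.card_top] at h1
      rcases hr.dvd_mul.mp (hrG.trans h1) with h3 | h3
      · haveI : Fact r.Prime := ⟨hr⟩
        obtain ⟨⟨x, hx⟩, hxo⟩ := exists_prime_orderOf_dvd_card' r h3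
        rw [Subgroup.orderOf_mk] at hxo
        have h4 := hmix.eq_one_of_normalizes hpG hp2 hDp hD1 hx hr hrp hr2 (k := 1) (by rw [hxo, pow_one])
        rw [h4, orderOf_one] at hxo
        exact hr.one_lt.ne hxo
      · exact hrN h3
    · -- odd order
      have hcop : (Nat.card (Q : Subgroup G)).Coprime (Nat.card N) := by
        rw [hQg.card]
        exact Nat.Coprime.pow_left a ((Nat.Prime.coprime_iff_not_dvd Nat.prime_two).mpr h2N)
      have hQs : Group.IsSolvable (Q : Subgroup G) := by
        have := Q.2.isNilpotent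
        infer_instance
      have hNp : ∀ s, s.Prime → s ∣ Nat.card N → s = p := by
        intro s hs hsN
        haveI : Fact s.Prime := ⟨hs⟩
        have hs2 : s ≠ 2 := by rintro rfl; exact h2N hsN
        obtain ⟨S, hS, hQS⟩ := H1.Coprime2.exists_invariant_sylow (Q : Subgroup G) N
          (by rw [normalizer_eq_top]; exact le_top) hcop (Or.inl hQs) s
        have hcardM : Nat.card (S ⊔ (Q : Subgroup G) : Subgroup G) ∣ Nat.card S * Nat.card Q := by
          have h1 : S.relIndex (S ⊔ (Q : Subgroup G)) = S.relIndex (Q : Subgroup G) := by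
            rw [sup_comm]
            exact relIndex_sup_of_le_normalizer hQS
          have h2 : Nat.card (S ⊔ (Q : Subgroup G) : Subgroup G) = Nat.card S * S.relIndex (S ⊔ (Q : Subgroup G)) := by
            have := Subgroup.card_mul_index (S.subgroupOf (S ⊔ (Q : Subgroup G)))
            rw [← this, Subgroup.relIndex, H1.SZ.card_subgroupOf_of_le le_sup_left]
          rw [h2, h1]
          exact Nat.mul_dvd_mul dvd_rfl (Subgroup.relIndex_dvd_card _ _)
        have hsM : s ∣ Nat.card (S ⊔ (Q : Subgroup G) : Subgroup G) := by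
          have h3 : s ∣ Nat.card S := by
            rw [hS.2]
            exact dvd_pow_self s (hs.factorization_pos_of_dvd Nat.card_pos.ne' hsN).ne'
          exact h3.trans (Subgroup.card_dvd_of_le le_sup_left)
        have h2M : 2 ∣ Nat.card (S ⊔ (Q : Subgroup G) : Subgroup G) :=
          hQeven.trans (Subgroup.card_dvd_of_le le_sup_right)
        by_cases hM : (S ⊔ (Q : Subgroup G) : Subgroup G) = ⊤
        · rw [hM, Subgroup.card_top, hS.2] at hcardM
          have h5 : ∀ t, t.Prime → t ∣ Nat.card G → t = s ∨ t = 2 := by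
            intro t ht htG
            rcases ht.dvd_mul.mp (htG.trans hcardM) with h6 | h6
            · left
              exact (Nat.prime_dvd_prime_iff_eq ht hs).mp (ht.dvd_of_dvd_pow h6)
            · right
              have h7 : Nat.card Q = 2 ^ a := hQg.card
              rw [h7] at h6
              exact (Nat.prime_dvd_prime_iff_eq ht Nat.prime_two).mp (ht.dvd_of_dvd_pow h6)
          rcases h5 p hp hpG with h6 | h6
          · exact h6.symm
          · exact absurd h6 hp2
        · rcases hmin _ hM h2M s hs hsM with h | h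
          · exact h
          · exact absurd h hs2
      have hNpg : IsPGroup p N := by
        apply IsPGroup.of_card (n := (Nat.card N).primeFactorsList.length)
        exact Nat.eq_prime_pow_of_unique_prime_dvd Nat.card_pos.ne' (fun hs hd => hNp _ hs hd)
      obtain ⟨i, hi⟩ := IsPGroup.iff_card.mp hNpg
      have hGN : Nat.card G = Nat.card N * Nat.card (G ⧸ N) := by
        rw [mul_comm]; exact Subgroup.card_eq_card_quotient_mul_card_subgroup N
      by_cases hpq : p ∣ Nat.card (G ⧸ N)
      · -- induction
        have hlt : Nat.card (G ⧸ N) < Nat.card G := by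
          rw [hGN]
          have h1 : 1 < Nat.card N := by
            rw [Finite.one_lt_card_iff_nontrivial]
            exact (Subgroup.nontrivial_iff_ne_bot N).mpr hN1
          have h3 : 0 < Nat.card (G ⧸ N) := Nat.card_pos
          nlinarith
        have h2q : 2 ∣ Nat.card (G ⧸ N) := by
          rw [hGN] at hqG
          rcases Nat.prime_two.dvd_mul.mp hqG with h | h
          · exact absurd h h2N
          · exact h
        have hrq : r ∣ Nat.card (G ⧸ N) := by
          rw [hGN] at hrG
          rcases hr.dvd_mul.mp hrG with h | h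
          · exact absurd (hNp r hr h) hrp
          · exact h
        have hmixq : Mix p 2 (G ⧸ N) := by
          intro H hH hH2 h2H
          by_contra hpH
          apply hH2
          apply isPGroup_two_of_not_dvd (p := p) _ hpH
          intro t ht hd
          have hMt : H.comap (QuotientGroup.mk' N) ≠ ⊤ := by
            intro h
            apply hH
            rw [← Subgroup.map_comap_eq_self_of_surjective (QuotientGroup.mk'_surjective N) H, h,
              Subgroup.map_top_of_surjective _ (QuotientGroup.mk'_surjective N)]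
          have hcM : Nat.card (H.comap (QuotientGroup.mk' N)) = Nat.card H * Nat.card N := by
            have := H1.Cores.card_comap_mk' N H
            rw [this]; ring
          apply hmin _ hMt _ t ht
          · rw [hcM]; exact hd.mul_right _
          · rw [hcM]; exact h2H.mul_right _
        have hfac : (Nat.card (G ⧸ N)).factorization 2 ≤ a :=
          ((Nat.factorization_le_iff_dvd Nat.card_pos.ne' Nat.card_pos.ne').mpr (by rw [hGN]; exact Dvd.intro_left _ rfl)) 2
        have hlq : 2 ^ (Nat.card (G ⧸ N)).factorization 2 - 1 < p ∨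
            (p = 2 ^ (Nat.card (G ⧸ N)).factorization 2 - 1 ∧ ∀ P : Sylow p (G ⧸ N), IsMulCommutative P) := by
          rcases lt_or_eq_of_le hfac with h3 | h3
          · left
            have h4 : (2 : ℕ) ^ (Nat.card (G ⧸ N)).factorization 2 < 2 ^ a := Nat.pow_lt_pow_right (by norm_num) h3
            have h5 : 0 < (2 : ℕ) ^ (Nat.card (G ⧸ N)).factorization 2 := by positivity
            omega
          · right
            rw [h3]
            refine ⟨hl, fun P => ⟨⟨fun x y => ?_⟩⟩⟩
            have hPp : IsPGroup p ((P : Subgroup (G ⧸ N)).comap (QuotientGroup.mk' N)) := by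
              obtain ⟨j, hj⟩ := IsPGroup.iff_card.mp P.2
              apply IsPGroup.of_card (n := i + j)
              have := H1.Cores.card_comap_mk' N (P : Subgroup (G ⧸ N))
              rw [this, hi, pow_add]
              first
                | rw [hj]
                | (rw [hj]; ring)
            obtain ⟨x', hx'⟩ := QuotientGroup.mk'_surjective N x
            obtain ⟨y', hy'⟩ := QuotientGroup.mk'_surjective N y
            have hxm : x' ∈ (P : Subgroup (G ⧸ N)).comap (QuotientGroup.mk' N) := by
              rw [mem_comap, hx']; exact x.2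
            have hym : y' ∈ (P : Subgroup (G ⧸ N)).comap (QuotientGroup.mk' N) := by
              rw [mem_comap, hy']; exact y.2
            have := hcomm _ hPp x' hxm y' hym
            apply Subtype.ext
            change (x : G ⧸ N) * y = y * x
            rw [← hx', ← hy', ← map_mul, this, map_mul]
        rcases ih (G ⧸ N) (by omega) hpq h2q hmixq hlq r hr hrq with h | h
        · exact hrp h
        · exact hr2 h
      · -- Schur–Zassenhaus
        have hcopN : (Nat.card N).Coprime N.index := by
          rw [hi]
          apply Nat.Coprime.pow_left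
          rw [Nat.Prime.coprime_iff_not_dvd hp]
          exact hpq
        obtain ⟨K, hK⟩ := Subgroup.exists_right_complement'_of_coprime hcopN
        have hKc : Nat.card K = N.index := hK.symm.index_eq_card.symm
        have hpK : ¬ p ∣ Nat.card K := by rw [hKc]; exact hpq
        have h2K : 2 ∣ Nat.card K := by
          rw [hKc]
          have := hGN
          rw [this] at hqG
          rcases Nat.prime_two.dvd_mul.mp hqG with h | h
          · exact absurd h h2N
          · exact h
        have hKp := hmix.isPGroup hpG K hpK h2K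
        obtain ⟨j, hj⟩ := IsPGroup.iff_card.mp hKp
        have hidx : Nat.card (G ⧸ N) = 2 ^ j := by
          rw [← hj, hKc]; rfl
        rw [hGN, hi, hidx] at hrG
        rcases hr.dvd_mul.mp hrG with h | h
        · exact hrp ((Nat.prime_dvd_prime_iff_eq hr hp).mp (hr.dvd_of_dvd_pow h))
        · exact hr2 ((Nat.prime_dvd_prime_iff_eq hr Nat.prime_two).mp (hr.dvd_of_dvd_pow h))
  have hsimple : IsSimpleGroup G := by
    haveI : Nontrivial G := by
      rw [← Finite.one_lt_card_iff_nontrivial]
      exact lt_of_lt_of_le hp.one_lt (Nat.le_of_dvd Nat.card_pos hpG)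
    refine ⟨fun N hN => ?_⟩
    by_contra hcon
    push Not at hcon
    exact hno N hN hcon.1 hcon.2
  have c : Ctx p a G := ⟨hsimple, hp, hpa, ha2, hcomm, hmin, ⟨r, hr, hrG, hrp, hr2⟩, htq⟩
  exact c.false hpG

end H70.MixG
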