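import Mathlib
import Cfsg.Agent.Lib.H55.BaerSuzuki
import Cfsg.Agent.Lib.H70.ClassSize
import Cfsg.Agent.Lib.H70.Real
import Cfsg.Agent.Lib.H1.SZ

/-!
Groups without nontrivial real elements of odd order have a normal Sylow 2-subgroup.
-/

set_option autoImplicit false
open Subgroup Cfsg
open scoped Pointwise

namespace H70.NoReal

variable {G : Type*} [Group G]

/-- lifting real elements of odd order modulo a normal 2-subgroup -/
theorem exists_lift_real [Finite G] (O : Subgroup G) [O.Normal] (hO : IsPGroup 2 O)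
    {y t : G ⧸ O} (hy : (orderOf y).Coprime 2) (ht : t * y * t⁻¹ = y⁻¹) :
    ∃ x s : G, (x : G ⧸ O) = y ∧ (orderOf x).Coprime 2 ∧ s * x * s⁻¹ = x⁻¹ := by
  have : Fact (Nat.Prime 2) := ⟨Nat.prime_two⟩
  obtain ⟨x, hxy, hx⟩ := H70.ClassSize.exists_lift_coprime Nat.prime_two (QuotientGroup.mk' O)
    (QuotientGroup.mk'_surjective O) y hy
  obtain ⟨t', rfl⟩ := QuotientGroup.mk_surjective t
  set X := zpowers x with hX
  set Y := zpowers (t' * x * t'⁻¹) with hY
  have hXO : X ⊓ O = ⊥ := by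
    rw [inf_comm]
    exact H1.Cores.disjoint_of_isPGroup hO (by rw [hX, Nat.card_zpowers]; exact hx)
  have hxt : t' * x * t'⁻¹ * x ∈ O := by
    rw [← QuotientGroup.eq_one_iff]
    have h1 : ((t' * x * t'⁻¹ * x : G) : G ⧸ O) = (t' : G ⧸ O) * y * (t' : G ⧸ O)⁻¹ * y := by
      rw [← hxy]; rfl
    rw [h1, ht, inv_mul_cancel]
  have hYL : Y ≤ O ⊔ X := by
    rw [hY, zpowers_le]
    have h1 : t' * x * t'⁻¹ = (t' * x * t'⁻¹ * x) * x⁻¹ := by group
    rw [h1]
    exact mul_mem (mem_sup_left hxt) (mem_sup_right (inv_mem (mem_zpowers x)))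
  have hrel : O.relIndex (O ⊔ X) = Nat.card X := by
    rw [sup_comm, relIndex_sup_right]
    have h1 : O.subgroupOf X = ⊥ := by
      rw [subgroupOf_eq_bot, disjoint_iff, inf_comm]; exact hXO
    rw [Subgroup.relIndex, h1, index_bot]
  have hYcard : Nat.card Y = Nat.card X := by
    rw [hY, hX, Nat.card_zpowers, Nat.card_zpowers]
    have := orderOf_injective (MulAut.conj t').toMonoidHom (MulAut.conj t').injective x
    simpa using this
  obtain ⟨g, hg, hgX⟩ := H1.SZ.conj_of_card_rel (O ⊔ X) O le_sup_left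
    (by rw [normalizer_eq_top]; exact le_top)
    (by
      rw [hrel, hX, Nat.card_zpowers]
      obtain ⟨n, hn⟩ := IsPGroup.iff_card.mp hO
      rw [hn]
      exact Nat.Coprime.pow_left n hx.symm)
    (Or.inl (by have := hO.isNilpotent; infer_instance)) X Y le_sup_right hYL hrel.symm
    (by rw [hYcard, hrel])
  have h1 : t' * x * t'⁻¹ ∈ MulAut.conj g • X := by rw [hgX]; exact mem_zpowers _
  obtain ⟨z, hz, hzx⟩ := h1
  obtain ⟨m, rfl⟩ := mem_zpowers_iff.mp hz
  have h2 : g * x ^ m * g⁻¹ = t' * x * t'⁻¹ := hzx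
  have h3 : x ^ m * x ∈ X ⊓ O := by
    refine Subgroup.mem_inf.mpr ⟨mul_mem hz (mem_zpowers x), ?_⟩
    have h4 : (g : G ⧸ O) = 1 := (QuotientGroup.eq_one_iff g).mpr hg
    rw [← QuotientGroup.eq_one_iff] at hxt ⊢
    rw [← h2] at hxt
    rw [QuotientGroup.mk_mul, QuotientGroup.mk_mul, QuotientGroup.mk_mul, QuotientGroup.mk_inv, h4,
      one_mul, inv_one, mul_one] at hxt
    rw [QuotientGroup.mk_mul]; exact hxt
  rw [hXO, mem_bot] at h3
  have h4 : x ^ m = x⁻¹ := eq_inv_of_mul_eq_one_left h3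
  rw [h4] at h2
  refine ⟨x, g⁻¹ * t', hxy, hx, ?_⟩
  calc g⁻¹ * t' * x * (g⁻¹ * t')⁻¹ = g⁻¹ * (t' * x * t'⁻¹) * g := by group
    _ = g⁻¹ * (g * x⁻¹ * g⁻¹) * g := by rw [h2]
    _ = x⁻¹ := by group

/-- no nontrivial real elements of odd order ⇒ normal Sylow 2-subgroup -/
theorem sylow_normal [Finite G]
    (h : ∀ x t : G, (orderOf x).Coprime 2 → t * x * t⁻¹ = x⁻¹ → x = 1) (P : Sylow 2 G) :
    (P : Subgroup G).Normal := by
  have : Fact (Nat.Prime 2) := ⟨Nat.prime_two⟩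
  set O := pCore 2 G with hO
  have hOp : IsPGroup 2 O := H1.Cores.isPGroup_pCore 2
  have hodd : ¬ 2 ∣ Nat.card (G ⧸ O) := by
    intro hd
    obtain ⟨t, ht⟩ := exists_prime_orderOf_dvd_card' 2 hd
    have ht2 : t * t = 1 := by
      have h1 := pow_orderOf_eq_one t
      rwa [ht, sq] at h1
    obtain ⟨N, hN, hNp, htN⟩ := H55.BaerSuzuki.exists_normal_of_involution t ht2 (by
      intro y hy hyt
      obtain ⟨x, s, hxy, hx, hs⟩ := exists_lift_real O hOp (Nat.coprime_two_right.mpr hy) hyt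
      rw [← hxy, h x s hx hs]; rfl)
    have h1 := H1.Cores.le_pCore hN hNp htN
    have h2 : pCore 2 (G ⧸ O) = ⊥ := H1.Cores.pCore_quotient_pCore 2
    rw [h2, mem_bot] at h1
    rw [h1, orderOf_one] at ht
    omega
  have hle : O ≤ (P : Subgroup G) := H1.Cores.pCore_le_sylow P
  have heq : O = (P : Subgroup G) := by
    apply le_antisymm hle
    rw [← Subgroup.relIndex_eq_one]
    have h1 : O.relIndex (P : Subgroup G) ∣ O.index := Subgroup.relIndex_dvd_index_of_normal _ _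
    obtain ⟨n, hn⟩ := P.2.exists_card_eq
    have h2 : O.relIndex (P : Subgroup G) ∣ 2 ^ n := by
      rw [← hn]; exact Subgroup.relIndex_dvd_card _ _
    rw [Subgroup.index_eq_card] at h1
    exact Nat.eq_one_of_dvd_coprimes
      (Nat.Coprime.pow_left n ((Nat.Prime.coprime_iff_not_dvd Nat.prime_two).mpr hodd)) h2 h1
  rw [← heq]; infer_instance

end H70.NoReal
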