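import Mathlib
import Cfsg.Agent.Lib.H1.Hall
import Cfsg.Agent.Lib.H70.Basic
import Cfsg.Agent.Lib.H70.Real
import Cfsg.Agent.Lib.H70.SylowSub
import Cfsg.Agent.Lib.H70.ClassSize

/-!
Normal Hall π-subgroups and the condition that `N_G(H)/C_G(H)` is a π'-group for π'-subgroups `H`.
-/

set_option autoImplicit false
open Subgroup
open scoped Pointwise commutatorElement

namespace H70.PiSep

/-- all prime divisors are in `π` -/
def PiNum (π : Set ℕ) (n : ℕ) : Prop := ∀ p : ℕ, p.Prime → p ∣ n → p ∈ π

/-- the π-elements form a subgroup -/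
def PiSub (π : Set ℕ) (G : Type*) [Group G] : Prop :=
  ∃ K : Subgroup G, ∀ x : G, x ∈ K ↔ ∀ p : ℕ, p.Prime → p ∣ orderOf x → p ∈ π

/-- `N_G(H)/C_G(H)` is a π'-group for every nontrivial π'-subgroup `H` -/
def Hom (π : Set ℕ) (G : Type*) [Group G] : Prop :=
  ∀ H : Subgroup G, H ≠ ⊥ → (∀ p : ℕ, p.Prime → p ∣ Nat.card H → p ∉ π) →
    ∀ p : ℕ, p.Prime → p ∣ (centralizer (H : Set G)).relIndex (normalizer (H : Set G)) → p ∉ π

variable {π : Set ℕ} {G : Type*} [Group G]

theorem PiNum.dvd {m n : ℕ} (h : PiNum π n) (hmn : m ∣ n) : PiNum π m :=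
  fun p hp hd => h p hp (hd.trans hmn)

theorem PiNum.mul {m n : ℕ} (hm : PiNum π m) (hn : PiNum π n) : PiNum π (m * n) := by
  intro p hp hd
  rcases (Nat.Prime.dvd_mul hp).mp hd with h | h
  · exact hm p hp h
  · exact hn p hp h

theorem coprime_of {m n : ℕ} (hm : PiNum π m) (hn : PiNum πᶜ n) : m.Coprime n := by
  rw [Nat.coprime_iff_gcd_eq_one]
  by_contra h
  obtain ⟨p, hp, hpd⟩ := Nat.exists_prime_and_dvd h
  exact hn p hp (hpd.trans (Nat.gcd_dvd_right m n)) (hm p hp (hpd.trans (Nat.gcd_dvd_left m n)))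

/-- mem of normal subgroup via coprimality -/
theorem mem_of_coprime_index (K : Subgroup G) [K.Normal] {x : G}
    (h : (orderOf x).Coprime K.index) : x ∈ K := by
  rw [← QuotientGroup.eq_one_iff, ← orderOf_eq_one_iff]
  have h1 : orderOf (x : G ⧸ K) ∣ orderOf x := orderOf_map_dvd (QuotientGroup.mk' K) x
  have h2 : orderOf (x : G ⧸ K) ∣ K.index := by
    rw [Subgroup.index_eq_card]; exact orderOf_dvd_natCard _
  exact Nat.eq_one_of_dvd_coprimes h h1 h2

theorem piSub_of_hall (K : Subgroup G) [K.Normal] (hK : PiNum π (Nat.card K))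
    (hi : PiNum πᶜ K.index) : PiSub π G := by
  refine ⟨K, fun x => ⟨fun hx => ?_, fun hx => ?_⟩⟩
  · intro p hp hpx
    apply hK p hp
    refine hpx.trans ?_
    rw [← Subgroup.orderOf_mk x hx]
    exact orderOf_dvd_natCard _
  · exact mem_of_coprime_index K (coprime_of hx hi)

theorem PiSub.exists_hall [Finite G] (h : PiSub π G) : ∃ K : Subgroup G, K.Characteristic ∧
    PiNum π (Nat.card K) ∧ PiNum πᶜ K.index := by
  obtain ⟨K, hK⟩ := h
  have hchar : K.Characteristic := by
    rw [Subgroup.characteristic_iff_map_le]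
    rintro φ _ ⟨x, hx, rfl⟩
    rw [hK]
    intro p hp hd
    exact (hK x).mp hx p hp (hd.trans (orderOf_map_dvd _ x))
  refine ⟨K, hchar, ?_, ?_⟩
  · intro p hp hd
    have : Fact p.Prime := ⟨hp⟩
    obtain ⟨x, hx⟩ := exists_prime_orderOf_dvd_card' p hd
    have := (hK x).mp x.2 p hp
    rw [Subgroup.orderOf_coe, hx] at this
    exact this dvd_rfl
  · intro p hp hd hpπ
    have : Fact p.Prime := ⟨hp⟩
    rw [Subgroup.index_eq_card] at hd
    obtain ⟨y, hy⟩ := exists_prime_orderOf_dvd_card' p hd
    obtain ⟨x, hxy, j, hj⟩ := H70.SylowSub.exists_lift (QuotientGroup.mk' K)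
      (QuotientGroup.mk'_surjective K) hp (z := y) (k := 1) (by rw [pow_one]; exact hy)
    have hxK : x ∈ K := by
      rw [hK]
      intro q hq hqd
      rw [hj] at hqd
      rw [(Nat.prime_dvd_prime_iff_eq hq hp).mp (hq.dvd_of_dvd_pow hqd)]
      exact hpπ
    have h1 : y = 1 := by rw [← hxy]; exact (QuotientGroup.eq_one_iff x).mpr hxK
    rw [h1, orderOf_one] at hy
    exact hp.one_lt.ne hy

theorem PiSub.of_mulEquiv {G' : Type*} [Group G'] (e : G ≃* G') (h : PiSub π G) : PiSub π G' := by
  obtain ⟨K, hK⟩ := h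
  refine ⟨K.map (e : G →* G'), fun x => ?_⟩
  have h1 : x ∈ K.map (e : G →* G') ↔ e.symm x ∈ K := by
    constructor
    · rintro ⟨y, hy, rfl⟩
      simpa using hy
    · intro hx
      exact ⟨e.symm x, hx, by simp⟩
  rw [h1, hK]
  have : orderOf (e.symm x) = orderOf x := by
    exact orderOf_injective (e.symm : G' →* G) e.symm.injective x
  rw [this]

/-- extension by a normal π-subgroup -/
theorem PiSub.of_quotient [Finite G] (L : Subgroup G) [L.Normal] (hL : PiNum π (Nat.card L))
    (h : PiSub π (G ⧸ L)) : PiSub π G := by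
  obtain ⟨B, hBc, hB, hBi⟩ := h.exists_hall
  have : B.Normal := inferInstance
  refine piSub_of_hall (B.comap (QuotientGroup.mk' L)) ?_ ?_
  · rw [H1.Cores.card_comap_mk']; exact hL.mul hB
  · rw [index_comap_of_surjective _ (QuotientGroup.mk'_surjective L)]; exact hBi

/-- relative indices of images -/
theorem relIndex_map_dvd {G' : Type*} [Group G'] (f : G →* G') (A B : Subgroup G) :
    (A.map f).relIndex (B.map f) ∣ A.relIndex B := by
  have h1 : (A.subgroupOf B).map (f.subgroupMap B) ≤ (A.map f).subgroupOf (B.map f) := by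
    rintro _ ⟨⟨x, hxB⟩, hx, rfl⟩
    exact ⟨x, hx, rfl⟩
  have h2 := Subgroup.index_dvd_of_le h1
  exact h2.trans (Subgroup.index_map_dvd _ (f.subgroupMap_surjective B))

/-- the key step -/
theorem le_centralizer [Finite G] (hhom : Hom π G) (K L : Subgroup G) [K.Normal] [L.Normal]
    (hLK : L ≤ K) (hi : PiNum πᶜ (L.relIndex K)) {p : ℕ} (hp : p.Prime) (hpπ : p ∈ π)
    (P : Sylow p (G ⧸ L)) :
    K.map (QuotientGroup.mk' L) ≤ centralizer ((P : Subgroup (G ⧸ L)) : Set (G ⧸ L)) := by
  have : Fact p.Prime := ⟨hp⟩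
  set f := QuotientGroup.mk' L with hf
  have hfs : Function.Surjective f := QuotientGroup.mk'_surjective L
  set K' := K.map f with hK'
  have hcardK' : Nat.card K' = L.relIndex K := by
    have h1 := H1.Cores.card_map_mk' L K hLK
    have h2 : L.relIndex K * Nat.card L = Nat.card K := by
      have := Subgroup.card_mul_index (L.subgroupOf K)
      rw [← this, Subgroup.relIndex, mul_comm]
      congr 1
      exact (Nat.card_congr (Subgroup.subgroupOfEquivOfLe hLK).toEquiv).symm
    rw [← h2, mul_comm] at h1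
    exact Nat.eq_of_mul_eq_mul_right Nat.card_pos h1
  rw [← Subgroup.relIndex_eq_one]
  by_contra hne
  obtain ⟨r, hr, hrd⟩ := Nat.exists_prime_and_dvd hne
  have hrK : r ∣ Nat.card K' := hrd.trans (Subgroup.relIndex_dvd_card _ _)
  have hrπ : r ∉ π := by
    rw [hcardK'] at hrK
    exact hi r hr hrK
  have : Fact r.Prime := ⟨hr⟩
  -- a Sylow `r`-subgroup of `K`
  obtain ⟨R⟩ : Nonempty (Sylow r K) := inferInstance
  set R' := (R : Subgroup K).map K.subtype with hR'
  have hR'p : IsPGroup r R' := R.2.map _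
  have hR'ne : R' ≠ ⊥ := by
    intro h
    have h1 : (R : Subgroup K) = ⊥ :=
      (Subgroup.map_eq_bot_iff_of_injective _ K.subtype_injective).mp h
    have h2 : r ∣ Nat.card K := by
      have h3 := H1.Cores.card_map_mk' L K hLK
      rw [← h3]
      exact hrK.trans (Dvd.intro_left _ rfl)
    have h3 := R.not_dvd_index
    rw [h1, Subgroup.index_bot] at h3
    exact h3 h2
  have hcardR' : ∀ q : ℕ, q.Prime → q ∣ Nat.card R' → q ∉ π := by
    intro q hq hqd
    obtain ⟨n, hn⟩ := IsPGroup.iff_card.mp hR'p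
    rw [hn] at hqd
    rw [(Nat.prime_dvd_prime_iff_eq hq hr).mp (hq.dvd_of_dvd_pow hqd)]
    exact hrπ
  have hpN : ¬ p ∣ (centralizer (R' : Set G)).relIndex (normalizer (R' : Set G)) :=
    fun h => hhom R' hR'ne hcardR' p hp h hpπ
  set N := normalizer (R' : Set G) with hN
  have hfrat : N ⊔ K = ⊤ := Sylow.normalizer_sup_eq_top R
  -- Sylow `p`-subgroup of `N`
  obtain ⟨P₀⟩ : Nonempty (Sylow p N) := inferInstance
  set P₁ := (P₀ : Subgroup N).map N.subtype with hP₁
  have hP₁p : IsPGroup p P₁ := P₀.2.map _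
  have hP₁C : P₁ ≤ centralizer (R' : Set G) := by
    rintro _ ⟨⟨t, htN⟩, ht, rfl⟩
    have h1 : ((centralizer (R' : Set G)).subgroupOf N).Normal := by
      rw [hN]; infer_instance
    refine H70.Real.mem_of_mem_of_coprime (centralizer (R' : Set G)) N htN ?_
    obtain ⟨j, hj⟩ := IsPGroup.iff_orderOf.mp P₀.2 ⟨⟨t, htN⟩, ht⟩
    have h2 : orderOf t = p ^ j := by
      rw [← hj, Subgroup.orderOf_mk, Subgroup.orderOf_mk]
    change (orderOf t).Coprime _
    rw [h2]
    exact Nat.Coprime.pow_left j ((Nat.Prime.coprime_iff_not_dvd hp).mpr hpN)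
  -- the image of `P₁` is a Sylow subgroup of the quotient
  have hP₁i : ¬ p ∣ (P₁.map f).index := by
    intro hd
    have h1 : (P₁.map f).index = (P₁.map f).relIndex (N.map f) * (N.map f).index := by
      rw [Subgroup.relIndex_mul_index (Subgroup.map_mono (map_subtype_le _))]
    rw [h1] at hd
    rcases (Nat.Prime.dvd_mul hp).mp hd with h | h
    · -- index in the normalizer
      have h2 := relIndex_map_dvd f P₁ N
      have h3 : P₁.relIndex N = (P₀ : Subgroup N).index := by
        rw [Subgroup.relIndex, hP₁, Subgroup.subgroupOf,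
          comap_map_eq_self_of_injective N.subtype_injective]
      rw [h3] at h2
      exact P₀.not_dvd_index (h.trans h2)
    · have h2 : (N.map f).index ∣ L.relIndex K := by
        have h3 : (N.map f).index = (N ⊔ L).index := by
          rw [Subgroup.index_map, MonoidHom.range_eq_top.mpr hfs, index_top, mul_one, hf,
            QuotientGroup.ker_mk']
        have h4 : (N ⊔ L).relIndex K = (N ⊔ L).index := by
          apply H1.Solv.relIndex_eq_index_of_forall_exists_mul
          intro g
          have h5 : g ∈ (K : Set G) * (N : Set G) := by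
            rw [← Subgroup.normal_mul, sup_comm, hfrat]; trivial
          obtain ⟨k, hk, n, hn, rfl⟩ := Set.mem_mul.mp h5
          exact ⟨k, hk, n, mem_sup_left hn, rfl⟩
        rw [h3, ← h4]
        exact Subgroup.relIndex_dvd_of_le_left _ le_sup_right
      exact hi p hp (h.trans h2) hpπ
  -- conjugate
  obtain ⟨g, hg⟩ := MulAction.exists_smul_eq (G ⧸ L)
    ((hP₁p.map f).toSylow hP₁i : Sylow p (G ⧸ L)) P
  have hg' : MulAut.conj g • (P₁.map f) = (P : Subgroup (G ⧸ L)) := by
    rw [← hg]; rfl
  have hcen : MulAut.conj g • (R'.map f) ≤ centralizer ((P : Subgroup (G ⧸ L)) : Set (G ⧸ L)) := by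
    rintro _ ⟨y, ⟨x, hx, rfl⟩, rfl⟩
    rw [mem_centralizer_iff]
    intro z hz
    rw [← hg'] at hz
    obtain ⟨z', ⟨t, ht, rfl⟩, rfl⟩ := hz
    have h1 := mem_centralizer_iff.mp (hP₁C ht) x hx
    change MulAut.conj g (f t) * MulAut.conj g (f x) = MulAut.conj g (f x) * MulAut.conj g (f t)
    rw [← map_mul, ← map_mul, ← map_mul, ← map_mul, h1]
  have h1 := Subgroup.relIndex_dvd_of_le_left K' hcen
  have hK'n : K'.Normal := Subgroup.Normal.map inferInstance f hfs
  have h2 : (MulAut.conj g • (R'.map f)).relIndex K' = (R'.map f).relIndex K' := by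
    have h3 : MulAut.conj g • K' = K' := Normal.conj_smul_eq_self g K'
    conv_lhs => rw [← h3]
    rw [Subgroup.relIndex_pointwise_smul]
  have h3 : (R'.map f).relIndex K' ∣ (R : Subgroup K).index := by
    have h4 := relIndex_map_dvd f R' K
    have h5 : R'.relIndex K = (R : Subgroup K).index := by
      rw [Subgroup.relIndex, hR', Subgroup.subgroupOf,
        comap_map_eq_self_of_injective K.subtype_injective]
    rwa [h5] at h4
  rw [h2] at h1
  exact R.not_dvd_index ((hrd.trans h1).trans h3)

theorem card_relIndex [Finite G] {A B : Subgroup G} (h : A ≤ B) :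
    A.relIndex B * Nat.card A = Nat.card B := by
  have := Subgroup.card_mul_index (A.subgroupOf B)
  rw [← this, Subgroup.relIndex, mul_comm]
  congr 1
  exact (Nat.card_congr (Subgroup.subgroupOfEquivOfLe h).toEquiv).symm

/-- S4051 -/
theorem main51 [Finite G] (hhom : Hom π G) (K : Subgroup G) [K.Normal] (hK : PiSub π K)
    (hQ : PiSub π (G ⧸ K)) : PiSub π G := by
  obtain ⟨L₀, hL₀c, hL₀, hL₀i⟩ := hK.exists_hall
  obtain ⟨M₀, hM₀c, hM₀, hM₀i⟩ := hQ.exists_hall
  set L := L₀.map K.subtype with hL
  have hLn : L.Normal := inferInstance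
  have hLK : L ≤ K := map_subtype_le L₀
  have hLcard : Nat.card L = Nat.card L₀ := Subgroup.card_map_of_injective K.subtype_injective
  have hLrel : L.relIndex K = L₀.index := by
    rw [Subgroup.relIndex, hL, Subgroup.subgroupOf,
      comap_map_eq_self_of_injective K.subtype_injective]
  set f := QuotientGroup.mk' L with hf
  have hfs : Function.Surjective f := QuotientGroup.mk'_surjective L
  have hker : f.ker = L := QuotientGroup.ker_mk' L
  refine PiSub.of_quotient L (hLcard ▸ hL₀) ?_
  set K' := K.map f with hK'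
  have hK'n : K'.Normal := Subgroup.Normal.map inferInstance f hfs
  have hcardK' : PiNum πᶜ (Nat.card K') := by
    have h1 := H1.Cores.card_map_mk' L K hLK
    rw [← card_relIndex hLK, mul_comm (L.relIndex K)] at h1
    rw [hK', Nat.eq_of_mul_eq_mul_left Nat.card_pos h1, hLrel]
    exact hL₀i
  set M := M₀.comap (QuotientGroup.mk' K) with hM
  have hMn : M.Normal := inferInstance
  have hKM : K ≤ M := by
    intro x hx
    rw [hM, mem_comap, QuotientGroup.mk'_apply, (QuotientGroup.eq_one_iff x).mpr hx]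
    exact one_mem _
  have hMi : M.index = M₀.index := index_comap_of_surjective _ (QuotientGroup.mk'_surjective K)
  have hKMrel : K.relIndex M = Nat.card M₀ := by
    have h1 : Nat.card M = Nat.card K * Nat.card M₀ := H1.Cores.card_comap_mk' K M₀
    rw [← card_relIndex hKM, mul_comm (Nat.card K)] at h1
    exact Nat.eq_of_mul_eq_mul_right Nat.card_pos h1
  set M' := M.map f with hM'
  have hM'n : M'.Normal := Subgroup.Normal.map inferInstance f hfs
  have hM'i : PiNum πᶜ M'.index := by
    rw [hM', Subgroup.index_map_eq _ hfs (by rw [hker]; exact hLK.trans hKM), hMi]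
    exact hM₀i
  have hK'M' : K' ≤ M' := Subgroup.map_mono hKM
  have hK'M'rel : PiNum π (K'.relIndex M') := by
    refine PiNum.dvd ?_ (relIndex_map_dvd f K M)
    rw [hKMrel]; exact hM₀
  set C := centralizer (K' : Set (G ⧸ L)) with hC
  have hCn : C.Normal := inferInstance
  set D := C ⊓ M' with hD
  have hDn : D.Normal := inferInstance
  -- all π-elements are in `D`
  have hmemD : ∀ x : G ⧸ L, PiNum π (orderOf x) → x ∈ D := by
    intro x hx
    refine Subgroup.mem_inf.mpr ⟨?_, mem_of_coprime_index M' (coprime_of hx hM'i)⟩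
    apply H70.SylowSub.mem_of_parts C _ x rfl
    rintro z hz ⟨r, k, hr, hzr⟩
    have : Fact r.Prime := ⟨hr⟩
    rcases Nat.eq_zero_or_pos k with hk | hk
    · rw [hk, pow_zero, orderOf_eq_one_iff] at hzr
      rw [hzr]; exact one_mem _
    · have hrπ : r ∈ π := by
        apply hx r hr
        refine (dvd_trans ?_ (orderOf_dvd_of_mem_zpowers hz))
        rw [hzr]; exact dvd_pow_self r hk.ne'
      have hzp : IsPGroup r (zpowers z) := by
        apply IsPGroup.of_card (n := k)
        rw [Nat.card_zpowers, hzr]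
      obtain ⟨P, hP⟩ := hzp.exists_le_sylow
      have h1 := le_centralizer hhom K L hLK (by rw [hLrel]; exact hL₀i) hr hrπ P
      rw [hC, mem_centralizer_iff]
      intro y hy
      exact (mem_centralizer_iff.mp (h1 hy) z (hP (mem_zpowers z))).symm
  -- Schur–Zassenhaus in `D`
  set Z := K'.subgroupOf D with hZ
  have hZcard : PiNum πᶜ (Nat.card Z) := by
    refine hcardK'.dvd ?_
    have h1 : Nat.card Z = Nat.card (K' ⊓ D : Subgroup (G ⧸ L)) := by
      rw [hZ, ← Subgroup.inf_subgroupOf_right K' D]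
      exact Nat.card_congr (Subgroup.subgroupOfEquivOfLe inf_le_right).toEquiv
    rw [h1]
    exact Subgroup.card_dvd_of_le inf_le_left
  have hZi : PiNum π Z.index := by
    refine hK'M'rel.dvd ?_
    change K'.relIndex D ∣ K'.relIndex M'
    rw [← Subgroup.relIndex_sup_right]
    have h1 : D ⊔ K' ≤ M' := sup_le inf_le_right hK'M'
    rw [← Subgroup.relIndex_mul_relIndex K' (D ⊔ K') M' le_sup_right h1]
    exact Dvd.intro _ rfl
  have hcop : (Nat.card Z).Coprime Z.index := (coprime_of hZi hZcard).symm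
  obtain ⟨B, hB⟩ := exists_right_complement'_of_coprime hcop
  have hZc : ∀ z ∈ Z, ∀ d : D, d * z = z * d := by
    rintro ⟨z, hz⟩ hzK ⟨d, hd⟩
    apply Subtype.ext
    exact (mem_centralizer_iff.mp (Subgroup.mem_inf.mp hd).1 z hzK).symm
  have hBn : B.Normal := by
    constructor
    intro b hb d
    obtain ⟨⟨⟨z, hz⟩, ⟨c, hc⟩⟩, hzc⟩ := hB.2 d
    simp only at hzc
    rw [← hzc]
    have h1 := hZc z hz (c * b * c⁻¹)
    have h2 : z * c * b * (z * c)⁻¹ = c * b * c⁻¹ := by
      calc z * c * b * (z * c)⁻¹ = (z * (c * b * c⁻¹)) * z⁻¹ := by group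
        _ = ((c * b * c⁻¹) * z) * z⁻¹ := by rw [h1]
        _ = _ := by group
    rw [h2]
    exact mul_mem (mul_mem hc hb) (inv_mem hc)
  have hBcard : PiNum π (Nat.card B) := by
    have h1 : Nat.card B = Z.index := hB.symm.index_eq_card.symm
    rw [h1]; exact hZi
  have hBi : PiNum πᶜ B.index := by
    rw [hB.index_eq_card]; exact hZcard
  obtain ⟨B', hB'⟩ := piSub_of_hall B hBcard hBi
  refine ⟨B'.map D.subtype, fun x => ⟨?_, fun hx => ?_⟩⟩
  · rintro ⟨y, hy, rfl⟩
    have h1 := (hB' y).mp hy
    intro p hp hpd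
    exact h1 p hp (by rwa [Subgroup.subtype_apply, Subgroup.orderOf_coe] at hpd)
  · exact ⟨⟨x, hmemD x hx⟩, (hB' _).mpr (by
      intro p hp hpd
      rw [Subgroup.orderOf_mk] at hpd
      exact hx p hp hpd), rfl⟩

/-- the condition passes to subgroups -/
theorem Hom.subgroup [Finite G] (h : Hom π G) (A : Subgroup G) : Hom π A := by
  intro H hH hcard p hp hd
  have h1 := h (H.map A.subtype) (by
      rwa [Ne, Subgroup.map_eq_bot_iff_of_injective _ A.subtype_injective]) (by
      intro q hq hqd
      rw [Subgroup.card_map_of_injective A.subtype_injective] at hqd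
      exact hcard q hq hqd) p hp
  apply h1
  refine hd.trans ?_
  -- compare the relative indices
  have hN : (normalizer (H : Set A)).map A.subtype ≤
      normalizer ((H.map A.subtype : Subgroup G) : Set G) := by
    rintro _ ⟨n, hn, rfl⟩
    rw [mem_normalizer_iff]
    intro y
    constructor
    · rintro ⟨z, hz, rfl⟩
      exact ⟨n * z * n⁻¹, (mem_normalizer_iff.mp hn z).mp hz, rfl⟩
    · rintro ⟨z, hz, hzy⟩
      refine ⟨n⁻¹ * z * n, (mem_normalizer_iff''.mp hn z).mp hz, ?_⟩
      change (n : G)⁻¹ * (A.subtype z) * (n : G) = y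
      rw [hzy]
      change (n : G)⁻¹ * ((n : G) * y * (n : G)⁻¹) * (n : G) = y
      group
  have hC : centralizer ((H.map A.subtype : Subgroup G) : Set G) ⊓ A =
      (centralizer (H : Set A)).map A.subtype := by
    ext y
    constructor
    · rintro ⟨hy, hyA⟩
      refine ⟨⟨y, hyA⟩, ?_, rfl⟩
      intro z hz
      exact Subtype.ext (mem_centralizer_iff.mp hy z ⟨z, hz, rfl⟩)
    · rintro ⟨z, hz, rfl⟩
      refine Subgroup.mem_inf.mpr ⟨?_, z.2⟩
      rw [mem_centralizer_iff]
      rintro _ ⟨w, hw, rfl⟩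
      exact congrArg Subtype.val (mem_centralizer_iff.mp hz w hw)
  have e1 : (centralizer (H : Set A)).relIndex (normalizer (H : Set A)) =
      ((centralizer (H : Set A)).map A.subtype).relIndex
        ((normalizer (H : Set A)).map A.subtype) :=
    (Subgroup.relIndex_map_map_of_injective _ _ A.subtype_injective).symm
  have e2 : ((centralizer (H : Set A)).map A.subtype).relIndex
        ((normalizer (H : Set A)).map A.subtype) =
      (centralizer ((H.map A.subtype : Subgroup G) : Set G)).relIndex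
        ((normalizer (H : Set A)).map A.subtype) := by
    rw [← hC, ← Subgroup.inf_relIndex_right, inf_assoc, ← Subgroup.inf_relIndex_right
      (centralizer ((H.map A.subtype : Subgroup G) : Set G))]
    congr 1
    rw [inf_eq_right.mpr (map_subtype_le (normalizer (H : Set A)) : _ ≤ A)]
  rw [e1, e2]
  set X := centralizer ((H.map A.subtype : Subgroup G) : Set G)
  set N := normalizer ((H.map A.subtype : Subgroup G) : Set G)
  have hXn : (X.subgroupOf N).Normal := by infer_instance
  have h2 := relIndex_subgroupOf (H := X) hN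
  rw [← h2]
  exact Subgroup.relIndex_dvd_index_of_normal _ _

/-- direct implication: existence of a normal Hall π-subgroup -/
theorem PiSub.hom [Finite G] (h : PiSub π G) : Hom π G := by
  obtain ⟨K, hKc, hK, hKi⟩ := h.exists_hall
  have hKn : K.Normal := inferInstance
  intro H hH hcard p hp hd hpπ
  have : Fact p.Prime := ⟨hp⟩
  set N := normalizer (H : Set G)
  set C := centralizer (H : Set G)
  have hCn : (C.subgroupOf N).Normal := by infer_instance
  rw [Subgroup.relIndex, Subgroup.index_eq_card] at hd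
  obtain ⟨y, hy⟩ := exists_prime_orderOf_dvd_card' p hd
  obtain ⟨x, hxy, j, hj⟩ := H70.SylowSub.exists_lift (QuotientGroup.mk' (C.subgroupOf N))
    (QuotientGroup.mk'_surjective _) hp (z := y) (k := 1) (by rw [pow_one]; exact hy)
  have hxK : (x : G) ∈ K := by
    apply mem_of_coprime_index
    rw [Subgroup.orderOf_coe, hj]
    apply coprime_of (π := π) _ hKi
    intro q hq hqd
    rw [(Nat.prime_dvd_prime_iff_eq hq hp).mp (hq.dvd_of_dvd_pow hqd)]
    exact hpπ
  have hxC : x ∈ C.subgroupOf N := by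
    rw [mem_subgroupOf, mem_centralizer_iff]
    intro z hz
    have h1 : ⁅(x : G), z⁆ ∈ K ⊓ H := by
      refine Subgroup.mem_inf.mpr ⟨?_, ?_⟩
      · rw [commutatorElement_def, mul_assoc, mul_assoc]
        refine K.mul_mem hxK ?_
        have := hKn.conj_mem _ (K.inv_mem hxK) z
        rwa [mul_assoc] at this
      · rw [commutatorElement_def]
        exact H.mul_mem ((mem_normalizer_iff.mp x.2 z).mp hz) (H.inv_mem hz)
    have h2 : K ⊓ H = ⊥ := by
      apply (Subgroup.disjoint_of_coprime_natCard (coprime_of hK ?_)).eq_bot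
      exact fun q hq hqd => hcard q hq hqd
    rw [h2, mem_bot, commutatorElement_eq_one_iff_mul_comm] at h1
    exact h1.symm
  have h1 : y = 1 := by rw [← hxy]; exact (QuotientGroup.eq_one_iff x).mpr hxC
  rw [h1, orderOf_one] at hy
  exact hp.one_lt.ne hy

theorem piSub_of_pi [Finite G] (h : PiNum π (Nat.card G)) : PiSub π G :=
  piSub_of_hall ⊤ (by rw [Subgroup.card_top]; exact h)
    (by rw [Subgroup.index_top]; intro p hp hd; exact absurd (Nat.dvd_one.mp hd) hp.one_lt.ne')

theorem piSub_of_compl [Finite G] (h : PiNum πᶜ (Nat.card G)) : PiSub π G :=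
  piSub_of_hall ⊥ (by
    rw [Subgroup.card_bot]; intro p hp hd; exact absurd (Nat.dvd_one.mp hd) hp.one_lt.ne')
    (by rw [Subgroup.index_bot]; exact h)

/-- π-separable chain -/
theorem piSub_of_chain [Finite G] (hhom : Hom π G) (n : ℕ) (H : Fin (n + 1) → Subgroup G)
    (h0 : H 0 = ⊥) (hn : H (Fin.last n) = ⊤) (hmono : Monotone H) (hnorm : ∀ i, (H i).Normal)
    (hstep : ∀ i : Fin n, (∀ q : ℕ, q.Prime → q ∣ (H i.castSucc).relIndex (H i.succ) → q ∈ π) ∨
        (∀ q : ℕ, q.Prime → q ∣ (H i.castSucc).relIndex (H i.succ) → q ∉ π)) : PiSub π G := by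
  have key : ∀ i : Fin (n + 1), PiSub π (H i) := by
    intro i
    induction i using Fin.induction with
    | zero =>
      rw [h0]
      apply piSub_of_pi
      rw [Subgroup.card_bot]
      intro p hp hd; exact absurd (Nat.dvd_one.mp hd) hp.one_lt.ne'
    | succ i ih =>
      have hle : H i.castSucc ≤ H i.succ := hmono (Fin.castSucc_lt_succ).le
      have hn1 := hnorm i.castSucc
      have hnn : ((H i.castSucc).subgroupOf (H i.succ)).Normal := inferInstance
      apply main51 (hhom.subgroup (H i.succ)) ((H i.castSucc).subgroupOf (H i.succ))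
      · exact ih.of_mulEquiv (subgroupOfEquivOfLe hle).symm
      · rcases hstep i with h | h
        · apply piSub_of_pi
          rw [← Subgroup.index_eq_card]; exact h
        · apply piSub_of_compl
          rw [← Subgroup.index_eq_card]; exact h
  have h1 := key (Fin.last n)
  rw [hn] at h1
  exact h1.of_mulEquiv Subgroup.topEquiv

end H70.PiSep
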